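import Cfsg.Prelude.Def_CaseTheorems
import Cfsg.Agent.H74.CharP
import Cfsg.Agent.H51.FStar

/-!
The cores of the centralizers of the involutions of an elementary abelian 2-group, in the absence of components.
-/

set_option autoImplicit false

namespace Cfsg.Agent.H74

open Subgroup
open scoped commutatorElement

variable {G : Type*} [Group G]

/-- `O(K)` of a subgroup `K`, viewed in `G`. -/
def oddCoreIn (K : Subgroup G) : Subgroup G := (Cfsg.oddCore ↥K).map K.subtype

theorem oddCoreIn_le (K : Subgroup G) : oddCoreIn K ≤ K := Subgroup.map_subtype_le _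

theorem le_normalizer_oddCoreIn (K : Subgroup G) : K ≤ normalizer (oddCoreIn K : Set G) := by
  rw [← normal_subgroupOf_iff_le_normalizer (oddCoreIn_le K)]
  have h : (oddCoreIn K).subgroupOf K = Cfsg.oddCore ↥K :=
    comap_map_eq_self_of_injective K.subtype_injective _
  rw [h]
  exact H51.pPrimeCore_normal 2 _

theorem odd_card_oddCoreIn [Finite G] (K : Subgroup G) : Odd (Nat.card ↥(oddCoreIn K)) := by
  rw [show Nat.card ↥(oddCoreIn K) = Nat.card ↥(Cfsg.oddCore ↥K) from
    (Nat.card_congr ((Cfsg.oddCore ↥K).equivMapOfInjective _ K.subtype_injective).toEquiv).symm]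
  exact Nat.coprime_two_right.mp (H51.pPrimeCore_coprime 2 ↥K)

theorem le_oddCoreIn [Finite G] {K N : Subgroup G} (hNK : N ≤ K) (hKN : K ≤ normalizer (N : Set G))
    (hodd : Odd (Nat.card N)) : N ≤ oddCoreIn K := by
  rw [← map_subgroupOf_eq_of_le hNK]
  refine map_mono (H51.le_pPrimeCore ((normal_subgroupOf_iff_le_normalizer hNK).mpr hKN) ?_)
  rw [Nat.card_congr (subgroupOfEquivOfLe hNK).toEquiv]
  exact Nat.coprime_two_right.mpr hodd

/-- An element of odd order in a 2-subgroup is trivial. -/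
theorem eq_one_of_odd_of_mem [Finite G] {R : Subgroup G} (hR : IsPGroup 2 R) {a : G}
    (ha : Odd (orderOf a)) (h : a ∈ R) : a = 1 := by
  haveI := Fact.mk Nat.prime_two
  exact eq_one_of_mem_pGroup hR (fun h2 => (Nat.not_even_iff_odd.mpr ha) (even_iff_two_dvd.mpr h2)) h

theorem odd_orderOf_of_mem [Finite G] {N : Subgroup G} (hN : Odd (Nat.card N)) {a : G} (ha : a ∈ N) :
    Odd (orderOf a) :=
  hN.of_dvd_nat (Subgroup.orderOf_coe (⟨a, ha⟩ : N) ▸ orderOf_dvd_natCard _)

/-- If the square of an element of odd order commutes with `b`, so does the element. -/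
theorem commute_of_sq_commute {a b : G} (ha : Odd (orderOf a)) (h : Commute (a ^ 2) b) : Commute a b := by
  obtain ⟨k, hk⟩ := ha
  have : a = (a ^ 2) ^ (k + 1) := by
    rw [← pow_mul, show 2 * (k + 1) = orderOf a + 1 by omega, pow_succ, pow_orderOf_eq_one, one_mul]
  rw [this]
  exact h.pow_left _

/-- A fixed-point-free involutory conjugation of an odd-order subgroup inverts it. -/
theorem inverts_of_fpf [Finite G] {z : G} (hz : z * z = 1) {A : Subgroup G}
    (hA : z ∈ normalizer (A : Set G)) (hfix : ∀ a ∈ A, z * a * z⁻¹ = a → a = 1) :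
    ∀ a ∈ A, z * a * z⁻¹ = a⁻¹ := by
  have hmem : ∀ a ∈ A, z * a * z⁻¹ ∈ A := fun a ha => (mem_normalizer_iff.mp hA a).mp ha
  let f : A → A := fun a => ⟨(a : G)⁻¹ * (z * a * z⁻¹), mul_mem (inv_mem a.2) (hmem _ a.2)⟩
  have hf : Function.Injective f := by
    intro a b hab
    have h1 : (a : G)⁻¹ * (z * a * z⁻¹) = (b : G)⁻¹ * (z * b * z⁻¹) := congrArg Subtype.val hab
    have h2 : (b : G) * (a : G)⁻¹ = 1 := by
      refine hfix _ (mul_mem b.2 (inv_mem a.2)) ?_
      calc z * ((b : G) * (a : G)⁻¹) * z⁻¹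
          = (b : G) * ((b : G)⁻¹ * (z * b * z⁻¹)) * (z * a * z⁻¹)⁻¹ := by group
        _ = (b : G) * ((a : G)⁻¹ * (z * a * z⁻¹)) * (z * a * z⁻¹)⁻¹ := by rw [h1]
        _ = _ := by group
    exact Subtype.ext (mul_inv_eq_one.mp h2).symm
  intro a ha
  obtain ⟨b, hb⟩ := (Finite.injective_iff_surjective.mp hf) ⟨a, ha⟩
  have hab : (b : G)⁻¹ * (z * b * z⁻¹) = a := congrArg Subtype.val hb
  have hzi : z⁻¹ = z := inv_eq_of_mul_eq_one_right hz
  have hz2 : ∀ w : G, z * (z * w) = w := fun w => by rw [← mul_assoc, hz, one_mul]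
  subst hab
  simp only [mul_inv_rev, inv_inv, hzi, mul_assoc, hz2, hz, mul_one]

/-- Elements inverted by the same element commute when their product is inverted too. -/
theorem commute_of_inverted {z a b : G} (ha : z * a * z⁻¹ = a⁻¹) (hb : z * b * z⁻¹ = b⁻¹)
    (hab : z * (a * b) * z⁻¹ = (a * b)⁻¹) : Commute a b := by
  have : a⁻¹ * b⁻¹ = b⁻¹ * a⁻¹ := by
    calc a⁻¹ * b⁻¹ = (z * a * z⁻¹) * (z * b * z⁻¹) := by rw [ha, hb]
      _ = z * (a * b) * z⁻¹ := by group
      _ = b⁻¹ * a⁻¹ := by rw [hab, mul_inv_rev]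
  exact (Commute.inv_inv_iff).mp this

variable {Y : Subgroup G}

/-- The conclusion about the join of the cores. -/
theorem core_generation [Finite G] (hY : Cfsg.IsElementaryAbelian 2 Y) (h8 : 8 ≤ Nat.card Y)
    (hE : ∀ x ∈ Y, x ≠ 1 → Cfsg.layer ↥(centralizer ({x} : Set G)) = ⊥)
    (hz : ∃ z ∈ Y, z ≠ 1 ∧ Cfsg.generalizedFittingSubgroup ↥(centralizer ({z} : Set G)) =
      Cfsg.pCore 2 ↥(centralizer ({z} : Set G))) :
    Odd (Nat.card ↥(⨆ y : {y : G // y ∈ Y ∧ y ≠ 1}, oddCoreIn (centralizer ({(y : G)} : Set G)))) ∧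
      normalizer (Y : Set G) ≤ normalizer ((⨆ y : {y : G // y ∈ Y ∧ y ≠ 1},
        oddCoreIn (centralizer ({(y : G)} : Set G)) : Subgroup G) : Set G) := by
  haveI := Fact.mk Nat.prime_two
  obtain ⟨z, hzY, hz1, hzF⟩ := hz
  set θ : G → Subgroup G := fun y => oddCoreIn (centralizer ({y} : Set G)) with hθ
  have hcomm : ∀ u ∈ Y, ∀ v ∈ Y, u * v = v * u := fun u hu v hv =>
    congrArg Subtype.val (hY.1.is_comm.comm ⟨u, hu⟩ ⟨v, hv⟩)
  have hsq : ∀ u ∈ Y, u * u = 1 := fun u hu => by rw [← sq]; exact hY.2 u hu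
  have hYC : ∀ u ∈ Y, Y ≤ centralizer ({u} : Set G) := fun u hu v hv =>
    mem_centralizer_singleton_iff.mpr (hcomm v hv u hu)
  have hθn : ∀ x ∈ Y, ∀ u ∈ Y, u ∈ normalizer (θ x : Set G) := fun x hx u hu =>
    le_normalizer_oddCoreIn _ (hYC x hx hu)
  have hθodd : ∀ x : G, ∀ a ∈ θ x, Odd (orderOf a) := fun x a ha =>
    odd_orderOf_of_mem (odd_card_oddCoreIn _) ha
  have hθC : ∀ x : G, ∀ a ∈ θ x, Commute a x := fun x a ha =>
    mem_centralizer_singleton_iff.mp (oddCoreIn_le _ ha)
  -- the Thompson lemma on the 2-core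
  have htwo : ∀ x ∈ Y, ∀ y ∈ Y, ∀ a ∈ θ x, a ∈ centralizer ({y} : Set G) →
      ∀ r ∈ Cfsg.pCoreOf 2 (centralizer ({y} : Set G)), Commute a r := by
    intro x hx y hy a ha hay
    have hK := le_normalizer_pCoreOf (p := 2) (centralizer ({y} : Set G))
    refine thompson_AxB (B := zpowers x) (pCoreOf_isPGroup _) ?_ ?_ (hK hay) ?_ ?_ ?_
    · refine isPGroup_iff_pow_pow_eq_one.mpr fun g => ⟨1, Subtype.ext ?_⟩
      obtain ⟨n, hn⟩ := mem_zpowers_iff.mp g.2
      push_cast
      rw [← hn, ← zpow_natCast, ← zpow_mul, mul_comm, zpow_mul, zpow_natCast, hY.2 x hx, one_zpow]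
    · exact (zpowers_le.mpr (hYC y hy hx)).trans hK
    · exact fun h2 => (Nat.not_even_iff_odd.mpr (hθodd x a ha)) (even_iff_two_dvd.mpr h2)
    · intro b hb
      obtain ⟨n, rfl⟩ := mem_zpowers_iff.mp hb
      exact (hθC x a ha).zpow_right n
    · intro r hr hrx
      have hrC : r ∈ centralizer ({x} : Set G) :=
        mem_centralizer_singleton_iff.mpr (hrx x (mem_zpowers x)).symm
      have h1 : ⁅a, r⁆ ∈ θ x := by
        rw [commutatorElement_def, mul_assoc a r, mul_assoc a (r * a⁻¹)]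
        exact mul_mem ha ((mem_normalizer_iff.mp (le_normalizer_oddCoreIn _ hrC) _).mp (inv_mem ha))
      have h2 : ⁅a, r⁆ ∈ Cfsg.pCoreOf 2 (centralizer ({y} : Set G)) := by
        rw [commutatorElement_def]
        exact mul_mem ((mem_normalizer_iff.mp (hK hay) r).mp hr) (inv_mem hr)
      have h3 := eq_one_of_odd_of_mem (pCoreOf_isPGroup _) (hθodd x _ h1) h2
      exact commutatorElement_eq_one_iff_commute.mp h3
  -- `z` inverts every core
  have hCz : centralizer ({z} : Set G) ⊓
      centralizer (Cfsg.pCoreOf 2 (centralizer ({z} : Set G)) : Set G) ≤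
        Cfsg.pCoreOf 2 (centralizer ({z} : Set G)) := by
    refine (charP_subgroup_iff _).mp ?_
    rw [← hzF]
    exact H51.centralizer_generalizedFitting_le _
  have hinv : ∀ x ∈ Y, ∀ a ∈ θ x, z * a * z⁻¹ = a⁻¹ := by
    intro x hx
    refine inverts_of_fpf (hsq z hzY) (hθn x hx z hzY) fun a ha haz => ?_
    have haC : a ∈ centralizer ({z} : Set G) :=
      mem_centralizer_singleton_iff.mpr (mul_inv_eq_iff_eq_mul.mp haz).symm
    refine eq_one_of_odd_of_mem (pCoreOf_isPGroup _) (hθodd x a ha) (hCz ⟨haC, ?_⟩)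
    exact mem_centralizer_iff.mpr fun r hr => (htwo x hx z hzY a ha haC r hr).symm
  have hab : ∀ x ∈ Y, ∀ a ∈ θ x, ∀ b ∈ θ x, Commute a b := fun x hx a ha b hb =>
    commute_of_inverted (hinv x hx a ha) (hinv x hx b hb) (hinv x hx _ (mul_mem ha hb))
  -- balance
  have hbal : ∀ x ∈ Y, ∀ y ∈ Y, y ≠ 1 → ∀ a ∈ θ x, a ∈ centralizer ({y} : Set G) → a ∈ θ y := by
    intro x hx y hy hy1 a ha hay
    set K := centralizer ({y} : Set G) with hK
    let a' : K := ⟨a, hay⟩
    have hF : a' ∈ centralizer (Cfsg.fittingSubgroup ↥K : Set ↥K) := by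
      have : Cfsg.fittingSubgroup ↥K ≤ centralizer ({a'} : Set ↥K) := by
        rw [H51.fittingSubgroup_eq_iSup_pCore]
        refine iSup_le fun q => ?_
        intro r hr
        rw [mem_centralizer_singleton_iff]
        apply Subtype.ext
        show (r : G) * a = a * r
        have hrm : (r : G) ∈ Cfsg.pCoreOf (q : ℕ) K := ⟨r, hr, rfl⟩
        by_cases hq : (q : ℕ) = 2
        · rw [hq] at hrm
          exact (htwo x hx y hy a ha hay r hrm).symm
        · have hqP : (q : ℕ).Prime := by first | exact q.2 | exact Nat.prime_of_mem_primeFactors q.2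
          haveI := Fact.mk hqP
          have hodd : Odd (Nat.card ↥(Cfsg.pCoreOf (q : ℕ) K)) := by
            obtain ⟨n, hn⟩ := (pCoreOf_isPGroup (p := (q : ℕ)) K).exists_card_eq
            rw [hn]
            exact (hqP.odd_of_ne_two hq).pow
          have hrθ : (r : G) ∈ θ y :=
            le_oddCoreIn (pCoreOf_le K) (le_normalizer_pCoreOf K) hodd hrm
          have hb' : a * r * a⁻¹ ∈ θ y := (mem_normalizer_iff.mp (le_normalizer_oddCoreIn K hay) _).mp hrθ
          have h1 := hinv y hy _ hrθ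
          have h2 := hinv y hy _ hb'
          have h3 := hinv x hx a ha
          have h4 : a⁻¹ * (r : G)⁻¹ * a = a * (r : G)⁻¹ * a⁻¹ := by
            calc a⁻¹ * (r : G)⁻¹ * a = (z * a * z⁻¹) * (z * r * z⁻¹) * (z * a * z⁻¹)⁻¹ := by
                  rw [h1, h3, inv_inv]
              _ = z * (a * r * a⁻¹) * z⁻¹ := by group
              _ = (a * r * a⁻¹)⁻¹ := h2
              _ = _ := by group
          have h5 : Commute (a ^ 2) (r : G)⁻¹ := by
            show a ^ 2 * (r : G)⁻¹ = (r : G)⁻¹ * a ^ 2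
            calc a ^ 2 * (r : G)⁻¹ = a * (a * (r : G)⁻¹ * a⁻¹) * a := by rw [sq]; group
              _ = a * (a⁻¹ * (r : G)⁻¹ * a) * a := by rw [h4]
              _ = (r : G)⁻¹ * a ^ 2 := by rw [sq]; group
          exact (commute_of_sq_commute (hθodd x a ha) (Commute.inv_right_iff.mp h5)).eq.symm
      exact mem_centralizer_iff.mpr fun r hr => mem_centralizer_singleton_iff.mp (this hr)
    have haF : a' ∈ Cfsg.fittingSubgroup ↥K :=
      (H51.centralizer_fitting_le_iff_layer_eq_bot ↥K).mpr (hE y hy hy1) hF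
    let A : Subgroup ↥K :=
      { carrier := {f | f ∈ Cfsg.fittingSubgroup ↥K ∧
          f ∈ centralizer (Cfsg.fittingSubgroup ↥K : Set ↥K) ∧ Odd (orderOf f)}
        one_mem' := ⟨one_mem _, one_mem _, by simp⟩
        mul_mem' := by
          rintro f g ⟨hf1, hf2, hf3⟩ ⟨hg1, hg2, hg3⟩
          refine ⟨mul_mem hf1 hg1, mul_mem hf2 hg2, ?_⟩
          have hc : Commute f g := (mem_centralizer_iff.mp hg2 f hf1)
          exact (hf3.mul hg3).of_dvd_nat (hc.orderOf_mul_dvd_mul_orderOf)
        inv_mem' := by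
          rintro f ⟨hf1, hf2, hf3⟩
          exact ⟨inv_mem hf1, inv_mem hf2, by rwa [orderOf_inv]⟩ }
    have hAn : A.Normal := by
      haveI := H51.fittingSubgroup_normal ↥K
      refine ⟨fun f hf g => ⟨Subgroup.Normal.conj_mem inferInstance f hf.1 g, ?_, ?_⟩⟩
      · exact (Subgroup.Normal.conj_mem (by infer_instance) f hf.2.1 g)
      · rw [show g * f * g⁻¹ = MulAut.conj g f from rfl, MulEquiv.orderOf_eq]
        exact hf.2.2
    have hAodd : (Nat.card A).Coprime 2 := by
      rw [Nat.coprime_two_right]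
      by_contra hev
      obtain ⟨f, hf⟩ := exists_prime_orderOf_dvd_card' (G := A) 2
        (even_iff_two_dvd.mp (Nat.not_odd_iff_even.mp hev))
      have := f.2.2.2
      rw [Subgroup.orderOf_coe, hf] at this
      exact Nat.not_odd_iff_even.mpr even_two this
    exact ⟨a', H51.le_pPrimeCore hAn hAodd ⟨haF, hF, by
      rw [← Subgroup.orderOf_coe]; exact hθodd x a ha⟩, rfl⟩
  -- the generating set
  set S : Set G := {a | ∃ x ∈ Y, x ≠ 1 ∧ a ∈ θ x ∧ ∀ u ∈ Y, u * a * u⁻¹ = a ∨ u * a * u⁻¹ = a⁻¹} with hS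
  have hgen : ∀ x ∈ Y, x ≠ 1 → θ x ≤ closure S := by
    intro x hx hx1
    classical
    have key : ∀ U : Finset G, (∀ u ∈ U, u ∈ Y) → θ x ≤ closure {a | a ∈ θ x ∧
        ∀ u ∈ U, u * a * u⁻¹ = a ∨ u * a * u⁻¹ = a⁻¹} := by
      intro U
      induction U using Finset.induction with
      | empty => exact fun _ a ha => subset_closure ⟨ha, fun u hu => absurd hu (Finset.notMem_empty u)⟩
      | insert u U huU ih =>
        intro hU
        refine (ih fun v hv => hU v (Finset.mem_insert_of_mem hv)).trans ((closure_le _).mpr ?_)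
        rintro a ⟨ha, hprop⟩
        have huY : u ∈ Y := hU u (Finset.mem_insert_self u U)
        set a2 := u * a * u⁻¹ with ha2
        have ha2m : a2 ∈ θ x := (mem_normalizer_iff.mp (hθn x hx u huY) a).mp ha
        have hca : Commute a a2 := hab x hx a ha a2 ha2m
        have hflip : u * a2 * u⁻¹ = a := by
          rw [ha2, show u * (u * a * u⁻¹) * u⁻¹ = (u * u) * a * (u * u)⁻¹ by group, hsq u huY]
          simp
        have hUp : ∀ v ∈ U, ∀ b : G, (v * a * v⁻¹ = a ∨ v * a * v⁻¹ = a⁻¹) →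
            (v * a * v⁻¹ = a → v * a2 * v⁻¹ = a2) ∧ (v * a * v⁻¹ = a⁻¹ → v * a2 * v⁻¹ = a2⁻¹) := by
          intro v hv b _
          have hvu : v * u = u * v := hcomm v (hU v (Finset.mem_insert_of_mem hv)) u huY
          have : v * a2 * v⁻¹ = u * (v * a * v⁻¹) * u⁻¹ := by
            calc v * a2 * v⁻¹ = (v * u) * a * (v * u)⁻¹ := by rw [ha2]; group
              _ = _ := by rw [hvu]; group
          constructor <;> intro h <;> rw [this, h, ha2] <;> group
        have hp : a * a2 ∈ closure {b | b ∈ θ x ∧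
            ∀ v ∈ insert u U, v * b * v⁻¹ = b ∨ v * b * v⁻¹ = b⁻¹} := by
          refine subset_closure ⟨mul_mem ha ha2m, fun v hv => ?_⟩
          rcases Finset.mem_insert.mp hv with rfl | hv
          · left
            rw [show v * (a * a2) * v⁻¹ = (v * a * v⁻¹) * (v * a2 * v⁻¹) by group, hflip, ← ha2]
            exact hca.eq.symm
          · rw [show v * (a * a2) * v⁻¹ = (v * a * v⁻¹) * (v * a2 * v⁻¹) by group]
            rcases hprop v hv with h | h
            · left; rw [h, (hUp v hv a (Or.inl h)).1 h]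
            · right; rw [h, (hUp v hv a (Or.inr h)).2 h]; exact hca.inv_inv.eq.trans (mul_inv_rev a a2).symm
        have hq : a * a2⁻¹ ∈ closure {b | b ∈ θ x ∧
            ∀ v ∈ insert u U, v * b * v⁻¹ = b ∨ v * b * v⁻¹ = b⁻¹} := by
          refine subset_closure ⟨mul_mem ha (inv_mem ha2m), fun v hv => ?_⟩
          rcases Finset.mem_insert.mp hv with rfl | hv
          · right
            rw [show v * (a * a2⁻¹) * v⁻¹ = (v * a * v⁻¹) * (v * a2 * v⁻¹)⁻¹ by group, hflip, ← ha2,
              mul_inv_rev, inv_inv]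
          · rw [show v * (a * a2⁻¹) * v⁻¹ = (v * a * v⁻¹) * (v * a2 * v⁻¹)⁻¹ by group]
            rcases hprop v hv with h | h
            · left; rw [h, (hUp v hv a (Or.inl h)).1 h]
            · right; rw [h, (hUp v hv a (Or.inr h)).2 h, inv_inv]; exact hca.inv_left.eq.trans (by group)
        obtain ⟨k, hk⟩ := hθodd x a ha
        have hsqa : a = ((a * a2) * (a * a2⁻¹)) ^ (k + 1) := by
          have hprod : (a * a2) * (a * a2⁻¹) = a ^ 2 := by
            calc (a * a2) * (a * a2⁻¹) = a * (a2 * a) * a2⁻¹ := by group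
              _ = a * (a * a2) * a2⁻¹ := by rw [hca.eq]
              _ = a ^ 2 := by rw [sq]; group
          rw [hprod]
          rw [← pow_mul, show 2 * (k + 1) = orderOf a + 1 by omega, pow_succ, pow_orderOf_eq_one, one_mul]
        rw [SetLike.mem_coe, hsqa]
        exact pow_mem (mul_mem hp hq) _
    refine (key (Y : Set G).toFinite.toFinset (fun u hu => (Set.Finite.mem_toFinset _).mp hu)).trans
      (closure_mono ?_)
    rintro a ⟨ha, h⟩
    exact ⟨x, hx, hx1, ha, fun u hu => h u ((Set.Finite.mem_toFinset _).mpr hu)⟩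
  have hScomm : ∀ a ∈ S, ∀ b ∈ S, Commute a b := by
    rintro a ⟨x, hx, hx1, ha, hau⟩ b ⟨x', hx', hx1', hb, hbu⟩
    classical
    have h4 : Nat.card (Bool × Bool) < Nat.card Y := by simp; omega
    obtain ⟨u, v, huv, hne⟩ : ∃ u v : Y, (decide ((u : G) * a * (u : G)⁻¹ = a),
        decide ((u : G) * b * (u : G)⁻¹ = b)) = (decide ((v : G) * a * (v : G)⁻¹ = a),
        decide ((v : G) * b * (v : G)⁻¹ = b)) ∧ u ≠ v := by
      by_contra hcon
      push Not at hcon
      exact absurd (Nat.card_le_card_of_injective _ fun u v h => hcon u v h) (not_le.mpr h4)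
    have hfix : ∀ c : G, (∀ w ∈ Y, w * c * w⁻¹ = c ∨ w * c * w⁻¹ = c⁻¹) →
        decide ((u : G) * c * (u : G)⁻¹ = c) = decide ((v : G) * c * (v : G)⁻¹ = c) →
        ((u : G) * v) * c * ((u : G) * v)⁻¹ = c := by
      intro c hc heq
      rw [decide_eq_decide] at heq
      rw [show ((u : G) * v) * c * ((u : G) * v)⁻¹ = (u : G) * ((v : G) * c * (v : G)⁻¹) * (u : G)⁻¹ by group]
      rcases hc v v.2 with h | h
      · rw [h, heq.mpr h]
      · rcases hc u u.2 with h' | h'
        · rw [heq.mp h', h']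
        · rw [h, show (u : G) * c⁻¹ * (u : G)⁻¹ = ((u : G) * c * (u : G)⁻¹)⁻¹ by group, h', inv_inv]
    obtain ⟨he1, he2⟩ := Prod.mk.inj huv
    have hh1 : (u : G) * v ≠ 1 := fun h => hne (Subtype.ext (by
      rw [eq_inv_of_mul_eq_one_left h, inv_eq_of_mul_eq_one_right (hsq v v.2)]))
    have hhY : (u : G) * v ∈ Y := mul_mem u.2 v.2
    refine hab _ hhY a (hbal x hx _ hhY hh1 a ha ?_) b (hbal x' hx' _ hhY hh1 b hb ?_)
    · exact mem_centralizer_singleton_iff.mpr (mul_inv_eq_iff_eq_mul.mp (hfix a hau he1)).symm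
    · exact mem_centralizer_singleton_iff.mpr (mul_inv_eq_iff_eq_mul.mp (hfix b hbu he2)).symm
  set W := ⨆ y : {y : G // y ∈ Y ∧ y ≠ 1}, oddCoreIn (centralizer ({(y : G)} : Set G)) with hW
  have hWS : W ≤ closure S := iSup_le fun y => hgen y y.2.1 y.2.2
  constructor
  · refine Odd.of_dvd_nat ?_ (card_dvd_of_le hWS)
    have hclc : ∀ c ∈ closure S, ∀ d ∈ closure S, Commute c d := by
      have h1 : closure S ≤ centralizer S := (closure_le _).mpr fun s hs =>
        mem_centralizer_iff.mpr fun t ht => hScomm t ht s hs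
      intro c hc d hd
      have h2 : closure S ≤ centralizer (closure S : Set G) := (closure_le _).mpr fun s hs =>
        mem_centralizer_iff.mpr fun t ht => (mem_centralizer_iff.mp (h1 ht) s hs).symm
      exact mem_centralizer_iff.mp (h2 hd) c hc
    rw [← Nat.not_even_iff_odd]
    intro hev
    obtain ⟨f, hf⟩ := exists_prime_orderOf_dvd_card' (G := closure S) 2 (even_iff_two_dvd.mp hev)
    have hodd : ∀ c ∈ closure S, Odd (orderOf c) := by
      intro c hc
      induction hc using closure_induction with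
      | mem c hc => obtain ⟨x, -, -, hx, -⟩ := hc; exact hθodd x c hx
      | one => simp
      | mul c d hc hd ihc ihd =>
        have hcd : Commute c d := hclc c hc d hd
        exact (ihc.mul ihd).of_dvd_nat hcd.orderOf_mul_dvd_mul_orderOf
      | inv c _ ih => rwa [orderOf_inv]
    have := hodd f f.2
    rw [Subgroup.orderOf_coe, hf] at this
    exact Nat.not_odd_iff_even.mpr even_two this
  · have hmap : ∀ g ∈ normalizer (Y : Set G), ∀ y : {y : G // y ∈ Y ∧ y ≠ 1},
        (θ y).map (MulAut.conj g).toMonoidHom ≤ W := by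
      intro g hg y
      have hy' : g * y * g⁻¹ ∈ Y ∧ g * (y : G) * g⁻¹ ≠ 1 :=
        ⟨(mem_normalizer_iff.mp hg _).mp y.2.1, fun h => y.2.2 (conj_eq_one_iff.mp h)⟩
      refine le_trans ?_ (le_iSup (fun y : {y : G // y ∈ Y ∧ y ≠ 1} =>
        oddCoreIn (centralizer ({(y : G)} : Set G))) ⟨_, hy'⟩)
      have hC : (centralizer ({(y : G)} : Set G)).map (MulAut.conj g).toMonoidHom =
          centralizer ({g * y * g⁻¹} : Set G) := by
        ext c
        rw [mem_map_equiv, mem_centralizer_singleton_iff, mem_centralizer_singleton_iff,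
          ← (MulAut.conj g).injective.eq_iff]
        simp [mul_assoc]
      refine le_oddCoreIn (hC ▸ map_mono (oddCoreIn_le _)) ?_ ?_
      · rw [← hC]
        exact (map_mono (le_normalizer_oddCoreIn _)).trans (le_normalizer_map _)
      · rw [Nat.card_congr ((θ y).equivMapOfInjective _ (MulAut.conj g).injective).toEquiv.symm]
        exact odd_card_oddCoreIn _
    intro g hg
    rw [mem_normalizer_iff_map_conj_eq]
    refine eq_of_le_of_card_ge ?_ (le_of_eq (Nat.card_congr (W.equivMapOfInjective _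
      (MulEquiv.injective _)).toEquiv))
    rw [hW, Subgroup.map_iSup]
    exact iSup_le fun y => hmap g hg y

end Cfsg.Agent.H74
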