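import Cfsg.Agent.H74.CentrallyLarge
import Cfsg.Agent.H24.PGroupBasic

/-!
The replacement step for centrally large subgroups under a failure-of-factorization bound, and transport of
centrally large subgroups by partial automorphisms.
-/

set_option autoImplicit false

namespace Cfsg.Agent.H74

open Subgroup

variable {H : Type*} [Group H] [Finite H]

/-- A centrally large subgroup with the order of a minimal one is minimal. -/
theorem minimal_of_card_eq {X Q : Subgroup H} (hX : Cfsg.IsCentrallyLarge X)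
    (hQ : Cfsg.IsMinimalCentrallyLarge Q) (h : Nat.card X = Nat.card Q) :
    Cfsg.IsMinimalCentrallyLarge X := by
  obtain ⟨Y, hYX, hY⟩ := exists_minimal_le hX
  have : Y = X := eq_of_le_of_card_ge hYX (by rw [(minimal_card_eq hY hQ).1, h])
  exact this ▸ hY

/-- Replacement step: a minimal centrally large subgroup outside `R` produces one inside `R`. -/
theorem cl_step {q : ℕ} (R W : Subgroup H) [W.Normal] (hq : 1 < q) (hcard : Nat.card H = q * Nat.card R)
    (hWR : W ≤ R) (hRW : R ≤ centralizer (W : Set H))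
    (hb : ∀ A : Subgroup H, ¬ A ≤ R → q * Nat.card ↥(W ⊓ centralizer (A : Set H)) ≤ Nat.card W)
    {Q : Subgroup H} (hQ : Cfsg.IsMinimalCentrallyLarge Q) (hQR : ¬ Q ≤ R) :
    ¬ centralizer (Q : Set H) ≤ R ∧
      q * Nat.card ↥(W ⊓ Q) = Nat.card W ∧
      q * Nat.card ↥(W ⊓ centralizer (Q : Set H)) = Nat.card W ∧
      q * Nat.card ↥(Q ⊓ R) = Nat.card Q ∧
      q * Nat.card ↥(centralizer (Q : Set H) ⊓ R) = Nat.card ↥(centralizer (Q : Set H)) ∧
      Cfsg.IsMinimalCentrallyLarge ((Q ⊓ R) ⊔ W) ∧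
      centralizer (((Q ⊓ R) ⊔ W : Subgroup H) : Set H) = (centralizer (Q : Set H) ⊓ R) ⊔ W ∧
      (Q ⊓ R) ⊔ centralizer (Q : Set H) = Q := by
  obtain ⟨hQ1, hQ2⟩ := centrallyLarge_iff.mp hQ.1
  set Z := centralizer (Q : Set H) with hZ
  set X := (Q ⊓ R) ⊔ W with hX
  set Y := (Z ⊓ R) ⊔ W with hY
  have hYX : Y ≤ centralizer (X : Set H) := by
    refine sup_le ?_ ?_ <;> rw [le_centralizer_iff] <;> refine sup_le ?_ ?_
    · exact (le_centralizer_iff.mp (inf_le_left : Z ⊓ R ≤ centralizer (Q : Set H))).trans' inf_le_left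
    · exact le_centralizer_iff.mp (inf_le_right.trans hRW)
    · exact inf_le_right.trans hRW
    · exact hWR.trans hRW
  have eA : (Q ⊓ R) ⊓ W = W ⊓ Q := by rw [inf_assoc, inf_eq_right.mpr hWR, inf_comm]
  have eB : (Z ⊓ R) ⊓ W = W ⊓ Z := by rw [inf_assoc, inf_eq_right.mpr hWR, inf_comm]
  have k1 := H75.card_mul_card_le (Q ⊓ R) W
  have k2 := H75.card_mul_card_le (Z ⊓ R) W
  rw [eA, ← hX] at k1
  rw [eB, ← hY] at k2
  have hidx : ∀ T : Subgroup H, Nat.card T ≤ q * Nat.card ↥(T ⊓ R) := by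
    intro T
    refine Nat.le_of_mul_le_mul_right ?_ (Nat.card_pos (α := R))
    calc Nat.card T * Nat.card R ≤ Nat.card ↥(T ⊓ R) * Nat.card ↥(T ⊔ R) := H75.card_mul_card_le T R
      _ ≤ Nat.card ↥(T ⊓ R) * Nat.card H :=
          Nat.mul_le_mul_left _ (Nat.le_of_dvd Nat.card_pos (card_subgroup_dvd_card _))
      _ = _ := by rw [hcard]; ring
  have hQD := hidx Q
  have hZD := hidx Z
  have hbB := hb Q hQR
  have hM : Nat.card X * Nat.card Y ≤ Nat.card Q * Nat.card Z := by
    have h1 : Nat.card X * Nat.card ↥(centralizer (X : Set H)) ≤ _ := cdMeasure_le X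
    have h2 : Nat.card Q * Nat.card Z = _ := hQ1
    rw [h2]
    exact le_trans (Nat.mul_le_mul_left _ (Nat.le_of_dvd Nat.card_pos (card_dvd_of_le hYX))) h1
  set w := Nat.card W
  set A := Nat.card ↥(W ⊓ Q)
  set B := Nat.card ↥(W ⊓ Z)
  set D := Nat.card ↥(Q ⊓ R)
  set D' := Nat.card ↥(Z ⊓ R)
  have hA : 0 < A := Nat.card_pos
  have hB : 0 < B := Nat.card_pos
  have hD : 0 < D := Nat.card_pos
  have hD' : 0 < D' := Nat.card_pos
  have hw : 0 < w := Nat.card_pos
  have hchain : D * w * (D' * w) ≤ A * B * (Nat.card X * Nat.card Y) :=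
    (Nat.mul_le_mul k1 k2).trans (le_of_eq (by ring))
  have hchain' : D * w * (D' * w) ≤ A * B * (Nat.card Q * Nat.card Z) :=
    hchain.trans (Nat.mul_le_mul_left _ hM)
  have hZR : ¬ Z ≤ R := by
    intro hle
    have hD'Z : D' = Nat.card Z := by show Nat.card ↥(Z ⊓ R) = _; rw [inf_eq_left.mpr hle]
    have hwA : w ≤ A := by
      refine Nat.le_of_mul_le_mul_right ?_ (Nat.mul_pos hD (Nat.mul_pos hD' hw))
      calc w * (D * (D' * w)) = D * w * (D' * w) := by ring
        _ ≤ A * B * (Nat.card Q * Nat.card Z) := hchain'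
        _ ≤ A * B * (q * D * D') := Nat.mul_le_mul_left _ (Nat.mul_le_mul hQD hD'Z.ge)
        _ = A * (D * (D' * (q * B))) := by ring
        _ ≤ A * (D * (D' * w)) := Nat.mul_le_mul_left _ (Nat.mul_le_mul_left _ (Nat.mul_le_mul_left _ hbB))
    have hWQ : W ≤ Q := inf_eq_left.mp (eq_of_le_of_card_ge inf_le_left hwA)
    have hAw : A = w := le_antisymm (Nat.le_of_dvd hw (card_dvd_of_le inf_le_left)) hwA
    have hXD : X = Q ⊓ R := sup_eq_left.mpr (le_inf hWQ hWR)
    -- equality throughout: `X` is centrally large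
    have hge : Nat.card Q * Nat.card Z ≤ Nat.card X * Nat.card Y := by
      refine Nat.le_of_mul_le_mul_left ?_ (Nat.mul_pos hA hB)
      calc A * B * (Nat.card Q * Nat.card Z) ≤ A * B * (q * D * D') :=
            Nat.mul_le_mul_left _ (Nat.mul_le_mul hQD hD'Z.ge)
        _ = D * w * D' * (q * B) := by rw [hAw]; ring
        _ ≤ D * w * (D' * w) := by
            rw [mul_assoc (D * w) D' (q * B)]
            exact Nat.mul_le_mul_left _ (Nat.mul_le_mul_left _ hbB)
        _ ≤ _ := hchain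
    have hCX : Y = centralizer (X : Set H) := by
      refine eq_of_le_of_card_ge hYX (Nat.le_of_mul_le_mul_left ?_ (Nat.card_pos (α := X)))
      have h1 : Nat.card X * Nat.card ↥(centralizer (X : Set H)) ≤ _ := cdMeasure_le X
      exact h1.trans ((hQ1 : Nat.card Q * Nat.card Z = _) ▸ hge)
    have hXCL : Cfsg.IsCentrallyLarge X := by
      refine centrallyLarge_iff.mpr ⟨le_antisymm (cdMeasure_le X) ?_, ?_⟩
      · rw [← hCX]; exact (hQ1 : Nat.card Q * Nat.card Z = _) ▸ hge
      · rw [← hCX]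
        exact sup_le (le_inf (inf_le_left.trans hQ2) inf_le_right |>.trans le_sup_left) le_sup_right
    exact hQR (hQ.2 X (hXD ▸ inf_le_left) hXCL ▸ (hXD ▸ inf_le_right))
  have hAq : q * A ≤ w := by
    refine le_trans (Nat.mul_le_mul_left q (Nat.le_of_dvd Nat.card_pos (card_dvd_of_le ?_))) (hb Z hZR)
    exact inf_le_inf_left _ (le_centralizer_iff.mp le_rfl)
  have hpos : 0 < A * B := Nat.mul_pos hA hB
  have htot : A * B * (q * D * (q * D')) ≤ D * w * (D' * w) := by
    calc A * B * (q * D * (q * D')) = D * D' * ((q * A) * (q * B)) := by ring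
      _ ≤ D * D' * (w * w) := Nat.mul_le_mul_left _ (Nat.mul_le_mul hAq hbB)
      _ = _ := by ring
  have hQZ' : q * D * (q * D') ≤ Nat.card Q * Nat.card Z :=
    Nat.le_of_mul_le_mul_left (htot.trans hchain') hpos
  have hZe : q * D' = Nat.card Z := by
    refine le_antisymm (Nat.le_of_mul_le_mul_left ?_ (Nat.mul_pos (by omega) hD : 0 < q * D)) hZD
    exact hQZ'.trans (Nat.mul_le_mul_right _ hQD)
  have hQe : q * D = Nat.card Q := by
    refine le_antisymm (Nat.le_of_mul_le_mul_right ?_ (Nat.mul_pos (by omega) hD' : 0 < q * D')) hQD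
    exact hQZ'.trans (Nat.mul_le_mul_left _ hZD)
  have hww : w * w ≤ (q * A) * (q * B) := by
    refine Nat.le_of_mul_le_mul_left ?_ (Nat.mul_pos hD hD')
    calc D * D' * (w * w) = D * w * (D' * w) := by ring
      _ ≤ A * B * (Nat.card Q * Nat.card Z) := hchain'
      _ = D * D' * ((q * A) * (q * B)) := by rw [← hQe, ← hZe]; ring
  have hAe : q * A = w := le_antisymm hAq
    (Nat.le_of_mul_le_mul_right (hww.trans (Nat.mul_le_mul_left _ hbB)) hw)
  have hBe : q * B = w := le_antisymm hbB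
    (Nat.le_of_mul_le_mul_left (hww.trans (Nat.mul_le_mul_right _ hAq)) hw)
  have hXge : Nat.card Q ≤ Nat.card X := by
    rw [← hQe]
    refine Nat.le_of_mul_le_mul_left ?_ hA
    calc A * (q * D) = D * (q * A) := by ring
      _ ≤ A * Nat.card X := by rw [hAe]; exact k1
  have hYge : Nat.card Z ≤ Nat.card Y := by
    rw [← hZe]
    refine Nat.le_of_mul_le_mul_left ?_ hB
    calc B * (q * D') = D' * (q * B) := by ring
      _ ≤ B * Nat.card Y := by rw [hBe]; exact k2
  have hXe : Nat.card X = Nat.card Q :=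
    le_antisymm (Nat.le_of_mul_le_mul_right (hM.trans (Nat.mul_le_mul_left _ hYge)) Nat.card_pos) hXge
  have hCX : Y = centralizer (X : Set H) := by
    refine eq_of_le_of_card_ge hYX ?_
    refine le_trans ?_ hYge
    refine Nat.le_of_mul_le_mul_left ?_ (Nat.card_pos (α := X))
    have h1 : Nat.card X * Nat.card ↥(centralizer (X : Set H)) ≤ _ := cdMeasure_le X
    refine h1.trans (le_of_eq ?_)
    rw [hXe]; exact (hQ1 : Nat.card Q * Nat.card Z = _).symm
  have hXCL : Cfsg.IsCentrallyLarge X := by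
    refine centrallyLarge_iff.mpr ⟨le_antisymm (cdMeasure_le X) ?_, ?_⟩
    · rw [← hCX, hXe, ← (hQ1 : Nat.card Q * Nat.card Z = _)]
      exact Nat.mul_le_mul_left _ hYge
    · rw [← hCX]
      exact sup_le (le_inf (inf_le_left.trans hQ2) inf_le_right |>.trans le_sup_left) le_sup_right
  refine ⟨hZR, hAe, hBe, hQe, hZe, minimal_of_card_eq hXCL hQ hXe, hCX.symm, ?_⟩
  refine eq_of_le_of_card_ge (sup_le inf_le_left hQ2) ?_
  rw [← hQe]
  refine Nat.le_of_mul_le_mul_left ?_ hD'
  calc D' * (q * D) = D * (q * D') := by ring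
    _ = D * Nat.card Z := by rw [hZe]
    _ ≤ Nat.card ↥((Q ⊓ R) ⊓ Z) * Nat.card ↥((Q ⊓ R) ⊔ Z) := H75.card_mul_card_le _ _
    _ ≤ D' * Nat.card ↥((Q ⊓ R) ⊔ Z) := by
        refine Nat.mul_le_mul_right _ (Nat.le_of_dvd Nat.card_pos (card_dvd_of_le ?_))
        exact le_inf inf_le_right (inf_le_left.trans inf_le_right)

variable {G : Type*} [Group G] [Finite G]

/-- Inside a subgroup, the meet with a centralizer maps to the corresponding meet. -/
theorem card_inf_centralizer_subgroupOf {S W : Subgroup G} (hW : W ≤ S) (A : Subgroup ↥S) :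
    Nat.card ↥(W.subgroupOf S ⊓ centralizer (A : Set ↥S)) =
      Nat.card ↥(W ⊓ centralizer ((A.map S.subtype : Subgroup G) : Set G)) := by
  rw [Nat.card_congr ((W.subgroupOf S ⊓ centralizer (A : Set ↥S)).equivMapOfInjective _
    S.subtype_injective).toEquiv]
  congr 2
  ext x
  constructor
  · rintro ⟨y, hy, rfl⟩
    refine mem_inf.mpr ⟨(mem_inf.mp hy).1, mem_centralizer_iff.mpr ?_⟩
    rintro _ ⟨a, ha, rfl⟩
    exact congrArg Subtype.val (mem_centralizer_iff.mp (mem_inf.mp hy).2 a ha)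
  · intro hx
    obtain ⟨hxW, hxA⟩ := mem_inf.mp hx
    exact ⟨⟨x, hW hxW⟩, mem_inf.mpr ⟨hxW, mem_centralizer_iff.mpr fun a ha =>
      Subtype.ext (mem_centralizer_iff.mp hxA _ ⟨a, ha, rfl⟩)⟩, rfl⟩

/-- Conjugation inside a normal `R ≤ S` carries centrally large subgroups of `S` in `R` to such. -/
theorem cl_transport {S R : Subgroup G} [R.Normal] (hRS : R ≤ S) (g : G) {X : Subgroup ↥S}
    (hX : Cfsg.IsCentrallyLarge X) (hXR : X ≤ R.subgroupOf S) :
    Cfsg.IsCentrallyLarge (((X.map S.subtype).map (MulAut.conj g).toMonoidHom).subgroupOf S) ∧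
    centralizer ((((X.map S.subtype).map (MulAut.conj g).toMonoidHom).subgroupOf S : Subgroup ↥S) : Set ↥S) =
      (((centralizer (X : Set ↥S)).map S.subtype).map (MulAut.conj g).toMonoidHom).subgroupOf S ∧
    Nat.card ↥(((X.map S.subtype).map (MulAut.conj g).toMonoidHom).subgroupOf S) = Nat.card X := by
  obtain ⟨hX1, hX2⟩ := centrallyLarge_iff.mp hX
  have hle : ∀ T : Subgroup ↥S, T ≤ R.subgroupOf S →
      (T.map S.subtype).map (MulAut.conj g).toMonoidHom ≤ S := by
    rintro T hT _ ⟨_, ⟨t, ht, rfl⟩, rfl⟩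
    exact hRS ((inferInstance : R.Normal).conj_mem _ (mem_subgroupOf.mp (hT ht)) g)
  have hcard : ∀ T : Subgroup ↥S, T ≤ R.subgroupOf S →
      Nat.card ↥(((T.map S.subtype).map (MulAut.conj g).toMonoidHom).subgroupOf S) = Nat.card T := by
    intro T hT
    rw [Nat.card_congr (subgroupOfEquivOfLe (hle T hT)).toEquiv,
      ← Nat.card_congr ((T.map S.subtype).equivMapOfInjective _ (MulAut.conj g).injective).toEquiv,
      ← Nat.card_congr (T.equivMapOfInjective _ S.subtype_injective).toEquiv]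
  set X' := ((X.map S.subtype).map (MulAut.conj g).toMonoidHom).subgroupOf S with hX'
  set C' := (((centralizer (X : Set ↥S)).map S.subtype).map (MulAut.conj g).toMonoidHom).subgroupOf S
  have hCle : C' ≤ centralizer (X' : Set ↥S) := by
    intro c hc
    obtain ⟨_, ⟨c0, hc0, rfl⟩, hcv⟩ := mem_subgroupOf.mp hc
    refine mem_centralizer_iff.mpr fun x hx => ?_
    obtain ⟨_, ⟨x0, hx0, rfl⟩, hxv⟩ := mem_subgroupOf.mp hx
    apply Subtype.ext
    push_cast
    rw [← hxv, ← hcv]
    simp only [MulEquiv.coe_toMonoidHom, coe_subtype, ← map_mul]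
    exact congrArg _ (congrArg Subtype.val (mem_centralizer_iff.mp hc0 x0 hx0))
  have hM : Nat.card X' * Nat.card C' = Cfsg.maxCentralizerProduct ↥S := by
    rw [hcard X hXR, hcard _ (hX2.trans hXR)]
    exact hX1
  have hCeq : C' = centralizer (X' : Set ↥S) := by
    refine eq_of_le_of_card_ge hCle (Nat.le_of_mul_le_mul_left ?_ (Nat.card_pos (α := X')))
    rw [hM]
    exact cdMeasure_le X'
  refine ⟨centrallyLarge_iff.mpr ⟨by show Nat.card X' * _ = _; rw [← hCeq]; exact hM, ?_⟩,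
    hCeq.symm, hcard X hXR⟩
  rw [← hCeq]
  exact fun c hc => mem_subgroupOf.mpr (map_mono (map_mono hX2) (mem_subgroupOf.mp hc))

end Cfsg.Agent.H74
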