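import Cfsg.Agent.H74.PushingUpBound
import Cfsg.Agent.H74.CentrallyLargeStep
import Cfsg.Agent.H20.Abelian
import Cfsg.Agent.H51.Basic

/-!
Pushing up with minimal centrally large subgroups.
-/

set_option autoImplicit false

namespace Cfsg.Agent.H74

open Subgroup
open scoped commutatorElement Pointwise

variable {G : Type*} [Group G] [Finite G] {p : ℕ} [hp : Fact p.Prime] {S : Subgroup G}

/-- The normal closure of a central subgroup of `S`. -/
theorem pu_closure (hE : Cfsg.IsPushingUpSituation p S) {Z₀ : Subgroup G}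
    (hZ : Z₀ ≤ S ⊓ centralizer (S : Set G)) :
    normalClosure (Z₀ : Set G) ≤ Cfsg.pCore p G ∧
      Cfsg.pCore p G ≤ centralizer (normalClosure (Z₀ : Set G) : Set G) ∧
      (¬ Z₀.Normal → centralizer (normalClosure (Z₀ : Set G) : Set G) ⊔ S ≠ ⊤) := by
  obtain ⟨P, hP⟩ := hE.2.1
  haveI : (Cfsg.pCore p G).Normal := pCore_normal
  have hRS : Cfsg.pCore p G ≤ S := hP ▸ pCore_le_sylow P
  have h1 : Z₀ ≤ centralizer (Cfsg.pCore p G : Set G) :=
    (hZ.trans inf_le_right).trans (centralizer_antitone hRS)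
  haveI : (centralizer (Cfsg.pCore p G : Set G)).Normal := normal_centralizer
  have h2 : normalClosure (Z₀ : Set G) ≤ centralizer (Cfsg.pCore p G : Set G) := normalClosure_le_normal h1
  refine ⟨h2.trans hE.2.2.1, le_centralizer_iff.mp h2, fun hn htop => hn ?_⟩
  have h3 : (⊤ : Subgroup G) ≤ centralizer (Z₀ : Set G) := htop ▸ sup_le
    (centralizer_antitone le_normalClosure) (le_centralizer_iff.mp (hZ.trans inf_le_right))
  exact normalizer_eq_top_iff.mp (top_le_iff.mp (h3.trans (centralizer_le_normalizer _)))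

/-- The hypotheses of the replacement step inside `S`. -/
theorem pu_step_data (hE : Cfsg.IsPushingUpSituation p S) :
    Cfsg.pCore p G ≤ S ∧ ∃ q : ℕ, 1 < q ∧ Nat.card S = q * Nat.card ↥((Cfsg.pCore p G).subgroupOf S) ∧
      ∀ W : Subgroup G, W.Normal → W ≤ Cfsg.pCore p G → Cfsg.pCore p G ≤ centralizer (W : Set G) →
        centralizer (W : Set G) ⊔ S ≠ ⊤ →
          (W.subgroupOf S).Normal ∧ W.subgroupOf S ≤ (Cfsg.pCore p G).subgroupOf S ∧
          (Cfsg.pCore p G).subgroupOf S ≤ centralizer (W.subgroupOf S : Set ↥S) ∧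
          ∀ A : Subgroup ↥S, ¬ A ≤ (Cfsg.pCore p G).subgroupOf S →
            q * Nat.card ↥(W.subgroupOf S ⊓ centralizer (A : Set ↥S)) ≤ Nat.card ↥(W.subgroupOf S) := by
  obtain ⟨P, hP⟩ := hE.2.1
  have hRS : Cfsg.pCore p G ≤ S := hP ▸ pCore_le_sylow P
  obtain ⟨q, hq, hcard, -, -, hb⟩ := pushing_bound hE
  refine ⟨hRS, q, hq, by rw [Nat.card_congr (subgroupOfEquivOfLe hRS).toEquiv]; exact hcard, ?_⟩
  intro W hW hWR hRW htop
  haveI := hW
  refine ⟨normal_subgroupOf, comap_mono hWR, ?_, fun A hA => ?_⟩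
  · intro r hr
    refine mem_centralizer_iff.mpr fun w hw => Subtype.ext ?_
    exact mem_centralizer_iff.mp (hRW (mem_subgroupOf.mp hr)) w (mem_subgroupOf.mp hw)
  · rw [card_inf_centralizer_subgroupOf (hWR.trans hRS) A,
      Nat.card_congr (subgroupOfEquivOfLe (hWR.trans hRS)).toEquiv]
    refine hb W hW hWR hRW htop _ (map_subtype_le A) fun hle => hA ?_
    intro a ha
    exact mem_subgroupOf.mpr (hle ⟨a, ha, rfl⟩)

omit [Finite G] hp in
/-- A join of subgroups permuted by conjugation is normal. -/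
theorem normal_of_conj_le {ι : Sort*} {f : ι → Subgroup G}
    (h : ∀ (g : G) (i : ι), (f i).map (MulAut.conj g).toMonoidHom ≤ ⨆ j, f j) : (⨆ j, f j).Normal := by
  refine ⟨fun x hx g => ?_⟩
  have : (⨆ j, f j).map (MulAut.conj g).toMonoidHom ≤ ⨆ j, f j := by
    rw [Subgroup.map_iSup]
    exact iSup_le (h g)
  exact this ⟨x, hx, rfl⟩

/-- Automorphisms preserve centrally large subgroups. -/
theorem cl_map_equiv {H : Type*} [Group H] [Finite H] (e : MulAut H) {X : Subgroup H}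
    (hX : Cfsg.IsCentrallyLarge X) : Cfsg.IsCentrallyLarge (X.map e.toMonoidHom) := by
  obtain ⟨h1, h2⟩ := centrallyLarge_iff.mp hX
  have hle : (centralizer (X : Set H)).map e.toMonoidHom ≤ centralizer (X.map e.toMonoidHom : Set H) := by
    rintro _ ⟨c, hc, rfl⟩
    refine mem_centralizer_iff.mpr ?_
    rintro _ ⟨x, hx, rfl⟩
    rw [← map_mul, ← map_mul, mem_centralizer_iff.mp hc x hx]
  have hc : ∀ T : Subgroup H, Nat.card ↥(T.map e.toMonoidHom) = Nat.card T := fun T =>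
    (Nat.card_congr (T.equivMapOfInjective _ e.injective).toEquiv).symm
  have heq : (centralizer (X : Set H)).map e.toMonoidHom = centralizer (X.map e.toMonoidHom : Set H) := by
    refine eq_of_le_of_card_ge hle (Nat.le_of_mul_le_mul_left ?_ (Nat.card_pos (α := ↥(X.map e.toMonoidHom))))
    rw [hc (centralizer (X : Set H)), hc X]
    have := cdMeasure_le (X.map e.toMonoidHom)
    rw [hc X] at this
    exact this.trans (le_of_eq (h1 : _ = _).symm)
  refine centrallyLarge_iff.mpr ⟨?_, heq ▸ map_mono h2⟩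
  show _ * _ = _
  rw [← heq, hc, hc]
  exact h1

/-- Membership in `Ω₁(Z(X))` for the centre of `X`. -/
theorem mem_omegaOneCenter_iff {H : Type*} [Group H] {X : Subgroup H} {x : H} :
    x ∈ Cfsg.omegaOneCenter p X ↔ x ∈ X ⊓ centralizer (X : Set H) ∧ x ^ p = 1 := by
  refine ⟨fun hx => ?_, fun hx => subset_closure hx⟩
  induction hx using closure_induction with
  | mem y hy => exact hy
  | one => exact ⟨one_mem _, one_pow _⟩
  | mul a b _ _ iha ihb =>
    refine ⟨mul_mem iha.1 ihb.1, ?_⟩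
    have hc : Commute a b := mem_centralizer_iff.mp (mem_inf.mp ihb.1).2 a (mem_inf.mp iha.1).1
    rw [hc.mul_pow, iha.2, ihb.2, one_mul]
  | inv a _ iha => exact ⟨inv_mem iha.1, by rw [inv_pow, iha.2, inv_one]⟩

/-- The image of the Frattini subgroup of a `p`-subgroup is bounded by a subgroup containing its commutators
and `p`-th powers. -/
theorem map_frattini_le_of {H : Type*} [Group H] [Finite H] {X N : Subgroup H}
    (hc : ∀ a ∈ X, ∀ b ∈ X, ⁅a, b⁆ ∈ N) (hpow : ∀ a ∈ X, a ^ p ∈ N) :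
    (frattini ↥X).map X.subtype ≤ N := by
  refine map_le_iff_le_comap.mpr (H24.frattini_le_of (p := p) _ ?_ fun x => hpow x x.2)
  rw [commutator_def, commutator_le]
  intro a _ b _
  exact hc a a.2 b b.2

omit hp in
/-- Commutators of a `p`-subgroup lie in its Frattini subgroup. -/
theorem commutator_mem_frattini_map {H : Type*} [Group H] [Finite H] [Fact p.Prime] {X : Subgroup H}
    (hX : IsPGroup p X) {a b : H} (ha : a ∈ X) (hb : b ∈ X) : ⁅a, b⁆ ∈ (frattini ↥X).map X.subtype :=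
  ⟨⁅(⟨a, ha⟩ : X), ⟨b, hb⟩⁆,
    H24.commutator_le_frattini hX (commutator_mem_commutator (mem_top _) (mem_top _)), rfl⟩

omit hp in
/-- `p`-th powers of a `p`-subgroup lie in its Frattini subgroup. -/
theorem pow_mem_frattini_map {H : Type*} [Group H] [Finite H] [Fact p.Prime] {X : Subgroup H}
    (hX : IsPGroup p X) {a : H} (ha : a ∈ X) : a ^ p ∈ (frattini ↥X).map X.subtype :=
  ⟨(⟨a, ha⟩ : X) ^ p, H24.pow_mem_frattini hX _, rfl⟩

/-- Derived subgroup alternative in the pushing-up situation. -/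
theorem pushing_up_derived (hE : Cfsg.IsPushingUpSituation p S) (Q : Subgroup ↥S)
    (hQ : Cfsg.IsMinimalCentrallyLarge Q) :
    ((S ⊓ centralizer (S : Set G)) ⊓ (⁅Q, Q⁆).map S.subtype).Normal ∨
      ((Cfsg.minimalCentrallyLargeJoin ↥S).map S.subtype).Normal := by
  obtain ⟨hRS, q, hq, hcard, hW⟩ := pu_step_data hE
  haveI : (Cfsg.pCore p G).Normal := pCore_normal
  set R₀ := (Cfsg.pCore p G).subgroupOf S with hR₀
  set Z₀ := (S ⊓ centralizer (S : Set G)) ⊓ (⁅Q, Q⁆).map S.subtype with hZ₀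
  by_cases hn : Z₀.Normal
  · exact Or.inl hn
  right
  obtain ⟨hWR, hRW, htop⟩ := pu_closure hE (Z₀ := Z₀) inf_le_left
  set W := normalClosure (Z₀ : Set G) with hWdef
  obtain ⟨hW₀n, hW₀R, hRW₀, hb⟩ := hW W inferInstance hWR hRW (htop hn)
  obtain ⟨X, hX, hXR⟩ : ∃ X : Subgroup ↥S, Cfsg.IsMinimalCentrallyLarge X ∧ X ≤ R₀ := by
    by_cases hQR : Q ≤ R₀
    · exact ⟨Q, hQ, hQR⟩
    obtain ⟨-, -, -, -, -, hX, -, -⟩ := cl_step R₀ (W.subgroupOf S) hq hcard hW₀R hRW₀ hb hQ hQR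
    exact ⟨_, hX, sup_le inf_le_right hW₀R⟩
  have hconjX : ∀ (g : G) (Y : Subgroup ↥S), Cfsg.IsMinimalCentrallyLarge Y → Y ≤ R₀ →
      Cfsg.IsMinimalCentrallyLarge (((Y.map S.subtype).map (MulAut.conj g).toMonoidHom).subgroupOf S) ∧
      (((Y.map S.subtype).map (MulAut.conj g).toMonoidHom).subgroupOf S).map S.subtype =
        (Y.map S.subtype).map (MulAut.conj g).toMonoidHom := by
    intro g Y hY hYR
    obtain ⟨h1, -, h3⟩ := cl_transport hRS g hY.1 hYR
    refine ⟨minimal_of_card_eq h1 hY h3, map_subgroupOf_eq_of_le ?_⟩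
    rintro _ ⟨_, ⟨y, hy, rfl⟩, rfl⟩
    exact hRS ((inferInstance : (Cfsg.pCore p G).Normal).conj_mem _ (mem_subgroupOf.mp (hYR hy)) g)
  have hN : ((⁅Q, Q⁆).map S.subtype).Normal := by
    refine ⟨fun n hn' g => ?_⟩
    obtain ⟨hX', hmap⟩ := hconjX g X hX hXR
    rw [minimal_commutator_eq hQ hX, map_commutator] at hn'
    have h1 : g * n * g⁻¹ ∈ (⁅X.map S.subtype, X.map S.subtype⁆).map (MulAut.conj g).toMonoidHom :=
      ⟨n, hn', rfl⟩
    rw [map_commutator, ← hmap, ← map_commutator, minimal_commutator_eq hX' hQ] at h1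
    exact h1
  haveI := hN
  have hWN : W ≤ (⁅Q, Q⁆).map S.subtype := normalClosure_le_normal (inf_le_right (a := S ⊓ centralizer _))
  have hall : ∀ Y : Subgroup ↥S, Cfsg.IsMinimalCentrallyLarge Y → Y ≤ R₀ := by
    intro Y hY
    by_contra hYR
    obtain ⟨-, hA, -⟩ := cl_step R₀ (W.subgroupOf S) hq hcard hW₀R hRW₀ hb hY hYR
    have hle : W.subgroupOf S ≤ Y := by
      intro w hw
      obtain ⟨y, hy, hyw⟩ := hWN (mem_subgroupOf.mp hw)
      rw [minimal_commutator_eq hQ hY] at hy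
      have : y = w := Subtype.ext hyw
      exact this ▸ (commutator_le.mpr fun a ha b hb => by
        rw [commutatorElement_def]
        exact mul_mem (mul_mem (mul_mem ha hb) (inv_mem ha)) (inv_mem hb) : ⁅Y, Y⁆ ≤ Y) hy
    rw [inf_eq_left.mpr hle] at hA
    have h1 : 0 < Nat.card ↥(W.subgroupOf S) := Nat.card_pos
    nlinarith
  rw [Cfsg.minimalCentrallyLargeJoin, sSup_eq_iSup', Subgroup.map_iSup]
  refine normal_of_conj_le fun g Y => ?_
  obtain ⟨hY', hmap⟩ := hconjX g Y Y.2 (hall Y Y.2)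
  exact hmap.ge.trans (le_iSup (fun Y : {Y : Subgroup ↥S | Cfsg.IsMinimalCentrallyLarge Y} =>
    (Y : Subgroup ↥S).map S.subtype) ⟨_, hY'⟩)

/-- Frattini alternative in the pushing-up situation. -/
theorem pushing_up_frattini (hE : Cfsg.IsPushingUpSituation p S) :
    (S ⊓ centralizer (S : Set G)).Normal ∨
      ((Cfsg.frattiniOfMinimalCLJoin p ↥S).map S.subtype).Normal := by
  obtain ⟨hRS, q, hq, hcard, hW⟩ := pu_step_data hE
  obtain ⟨P, hP⟩ := hE.2.1
  have hSp : IsPGroup p S := hP ▸ P.isPGroup'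
  haveI : (Cfsg.pCore p G).Normal := pCore_normal
  set R₀ := (Cfsg.pCore p G).subgroupOf S with hR₀
  by_cases hn : (S ⊓ centralizer (S : Set G)).Normal
  · exact Or.inl hn
  right
  obtain ⟨hWR, hRW, htop⟩ := pu_closure hE (le_refl (S ⊓ centralizer (S : Set G)))
  set W := normalClosure ((S ⊓ centralizer (S : Set G) : Subgroup G) : Set G) with hWdef
  obtain ⟨hW₀n, hW₀R, hRW₀, hb⟩ := hW W inferInstance hWR hRW (htop hn)
  have hWab : W ≤ centralizer (W : Set G) := hWR.trans hRW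
  have hWc : ∀ a ∈ W, ∀ b ∈ W, Commute a b := fun a ha b hb =>
    (mem_centralizer_iff.mp (hWab ha) b hb).symm
  let Wp : Subgroup G :=
    { carrier := {w | w ∈ W ∧ w ^ p = 1}
      one_mem' := ⟨one_mem _, one_pow _⟩
      mul_mem' := fun {a b} ha hb => ⟨mul_mem ha.1 hb.1, by
        rw [(hWc a ha.1 b hb.1).mul_pow, ha.2, hb.2, one_mul]⟩
      inv_mem' := fun {a} ha => ⟨inv_mem ha.1, by rw [inv_pow, ha.2, inv_one]⟩ }
  haveI hWpn : Wp.Normal := ⟨fun w hw g => ⟨normalClosure_normal.conj_mem w hw.1 g,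
    by rw [conj_pow, hw.2, mul_one, mul_inv_cancel]⟩⟩
  have hWpW : Wp ≤ W := fun w hw => hw.1
  have hWptop : centralizer (Wp : Set G) ⊔ S ≠ ⊤ := by
    intro ht
    apply htop hn
    refine H51.eq_top_of_forall_sylow_le _ fun r hr _ => ?_
    by_cases hrp : r = p
    · subst hrp
      exact ⟨P, hP ▸ le_sup_right⟩
    haveI := Fact.mk hr
    obtain ⟨Pr⟩ : Nonempty (Sylow r G) := inferInstance
    refine ⟨Pr, le_trans ?_ le_sup_left⟩
    -- `Pr` centralizes the elements of order `p` of `W`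
    have hPr : (Pr : Subgroup G) ≤ centralizer (Wp : Set G) := by
      intro x hx
      haveI : (centralizer (Wp : Set G)).Normal := normal_centralizer
      have hxi : ((x : G) : G ⧸ centralizer (Wp : Set G)) = 1 := by
        have hSmap : (⊤ : Subgroup (G ⧸ centralizer (Wp : Set G))) = S.map (QuotientGroup.mk' _) := by
          have := congrArg (Subgroup.map (QuotientGroup.mk' (centralizer (Wp : Set G)))) ht
          rw [Subgroup.map_sup, map_top_of_surjective _ (QuotientGroup.mk'_surjective _),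
            QuotientGroup.map_mk'_self, bot_sup_eq] at this
          exact this.symm
        have h1 : ((x : G) : G ⧸ centralizer (Wp : Set G)) ∈ S.map (QuotientGroup.mk' _) :=
          hSmap ▸ mem_top _
        refine eq_one_of_mem_pGroup (hSp.map _) ?_ h1
        intro hdvd
        obtain ⟨k, hk⟩ := Pr.isPGroup' ⟨x, hx⟩
        have h2 : x ^ r ^ k = 1 := by simpa using congrArg Subtype.val hk
        have h3 := hdvd.trans (orderOf_map_dvd (QuotientGroup.mk' _) x)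
        have h4 := h3.trans (orderOf_dvd_of_pow_eq_one h2)
        exact hrp ((Nat.prime_dvd_prime_iff_eq hp.out hr).mp (hp.out.dvd_of_dvd_pow h4)).symm
      exact (QuotientGroup.eq_one_iff x).mp hxi
    have hWp : IsPGroup p W := pCore_isPGroup.to_le hWR
    haveI : IsMulCommutative W := le_centralizer_iff_isMulCommutative.mp hWab
    refine H20.le_centralizer_of_fixes_prime_order le_normalizer_of_normal ?_ ?_
    · obtain ⟨i, hi⟩ := Pr.isPGroup'.exists_card_eq
      obtain ⟨j, hj⟩ := hWp.exists_card_eq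
      rw [hi, hj]
      exact Nat.Coprime.pow _ _ ((Nat.coprime_primes hr hp.out).mpr hrp)
    · intro v hv hvp a ha
      obtain ⟨j, hj⟩ := hWp ⟨v, hv⟩
      have hj' : v ^ p ^ j = 1 := by simpa using congrArg Subtype.val hj
      have hordp : orderOf v = p :=
        (Nat.prime_dvd_prime_iff_eq hvp hp.out).mp (hvp.dvd_of_dvd_pow (orderOf_dvd_of_pow_eq_one hj'))
      exact (mem_centralizer_iff.mp (hPr ha) v ⟨hv, hordp ▸ pow_orderOf_eq_one v⟩).symm
  obtain ⟨hWp₀n, hWp₀R, hRWp₀, hbp⟩ :=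
    hW Wp hWpn (hWpW.trans hWR) (hRW.trans (centralizer_antitone hWpW)) hWptop
  set mz := Cfsg.maxOmegaCenterOfMinimalCL p ↥S with hmz
  have hmz_le : ∀ X : Subgroup ↥S, Cfsg.IsMinimalCentrallyLarge X →
      Nat.card ↥(Cfsg.omegaOneCenter p X) ≤ mz := fun X hX => by
    refine le_csSup ?_ ⟨X, hX, rfl⟩
    exact ((Set.finite_range fun Y : Subgroup ↥S => Nat.card ↥(Cfsg.omegaOneCenter p Y)).bddAbove).mono
      (by rintro _ ⟨Y, -, hY⟩; exact ⟨Y, hY⟩)
  have hstep : ∀ Q : Subgroup ↥S, Cfsg.IsMinimalCentrallyLarge Q →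
      Nat.card ↥(Cfsg.omegaOneCenter p Q) = mz → ∃ X : Subgroup ↥S, Cfsg.IsMinimalCentrallyLarge X ∧
        Nat.card ↥(Cfsg.omegaOneCenter p X) = mz ∧ X ≤ R₀ ∧
        (frattini ↥Q).map Q.subtype ≤ (frattini ↥X).map X.subtype := by
    intro Q hQ hQm
    by_cases hQR : Q ≤ R₀
    · exact ⟨Q, hQ, hQm, hQR, le_rfl⟩
    obtain ⟨hZR, -, hB, hD, hD', hX, hCX, hQDZ⟩ :=
      cl_step R₀ (W.subgroupOf S) hq hcard hW₀R hRW₀ hb hQ hQR
    have hQ2 := (centrallyLarge_iff.mp hQ.1).2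
    have hX2 := (centrallyLarge_iff.mp hX.1).2
    set W₀ := W.subgroupOf S with hW₀
    set V := Wp.subgroupOf S with hV
    set X := (Q ⊓ R₀) ⊔ W₀ with hXdef
    set C := centralizer (Q : Set ↥S) with hC
    set O := Cfsg.omegaOneCenter p Q with hO
    have hOC : O ≤ C := fun x hx => (mem_inf.mp (mem_omegaOneCenter_iff.mp hx).1).2
    have hVW : V ≤ W₀ := comap_mono hWpW
    have hbV : q * Nat.card ↥(V ⊓ C) ≤ Nat.card V := hbp Q hQR
    -- the join of `V` and `W ∩ C(Q)`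
    have hjoin : (O ⊓ R₀) ⊔ V ≤ Cfsg.omegaOneCenter p X := by
      refine sup_le ?_ ?_
      · intro x hx
        obtain ⟨hxO, hxR⟩ := mem_inf.mp hx
        have hxC : x ∈ centralizer (X : Set ↥S) := hCX ▸ mem_sup_left (mem_inf.mpr ⟨hOC hxO, hxR⟩)
        exact mem_omegaOneCenter_iff.mpr ⟨mem_inf.mpr ⟨hX2 hxC, hxC⟩, (mem_omegaOneCenter_iff.mp hxO).2⟩
      · intro x hx
        have hxC : x ∈ centralizer (X : Set ↥S) := hCX ▸ mem_sup_right (hVW hx)
        exact mem_omegaOneCenter_iff.mpr ⟨mem_inf.mpr ⟨hX2 hxC, hxC⟩, Subtype.ext (mem_subgroupOf.mp hx).2⟩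
    have hOe : (O ⊓ R₀) ⊓ V = V ⊓ C := by
      refine le_antisymm (fun x hx => ?_) (fun x hx => ?_)
      · obtain ⟨⟨hxO, -⟩, hxV⟩ := hx
        exact mem_inf.mpr ⟨hxV, hOC hxO⟩
      · obtain ⟨hxV, hxC⟩ := mem_inf.mp hx
        refine mem_inf.mpr ⟨mem_inf.mpr ⟨?_, hWp₀R hxV⟩, hxV⟩
        exact mem_omegaOneCenter_iff.mpr ⟨mem_inf.mpr ⟨hQ2 hxC, hxC⟩, Subtype.ext (mem_subgroupOf.mp hxV).2⟩
    have hidxO : Nat.card O ≤ q * Nat.card ↥(O ⊓ R₀) := by
      refine Nat.le_of_mul_le_mul_right ?_ (Nat.card_pos (α := R₀))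
      calc Nat.card O * Nat.card R₀ ≤ Nat.card ↥(O ⊓ R₀) * Nat.card ↥(O ⊔ R₀) := H75.card_mul_card_le O R₀
        _ ≤ Nat.card ↥(O ⊓ R₀) * Nat.card ↥S :=
            Nat.mul_le_mul_left _ (Nat.le_of_dvd Nat.card_pos (card_subgroup_dvd_card _))
        _ = _ := by rw [hcard]; ring
    have hOX : q * Nat.card ↥(O ⊓ R₀) ≤ Nat.card ↥(Cfsg.omegaOneCenter p X) := by
      refine le_trans ?_ (Nat.le_of_dvd Nat.card_pos (card_dvd_of_le hjoin))
      refine Nat.le_of_mul_le_mul_left ?_ (Nat.card_pos (α := ↥(V ⊓ C)))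
      calc Nat.card ↥(V ⊓ C) * (q * Nat.card ↥(O ⊓ R₀))
          = Nat.card ↥(O ⊓ R₀) * (q * Nat.card ↥(V ⊓ C)) := by ring
        _ ≤ Nat.card ↥(O ⊓ R₀) * Nat.card V := Nat.mul_le_mul_left _ hbV
        _ ≤ _ := hOe ▸ H75.card_mul_card_le (O ⊓ R₀) V
    have hXle := hmz_le X hX
    refine ⟨X, hX, by omega, sup_le inf_le_right hW₀R, ?_⟩
    have hOq : q * Nat.card ↥(O ⊓ R₀) ≤ Nat.card O := by omega
    have hCeq : O ⊔ (C ⊓ R₀) = C := by
      refine eq_of_le_of_card_ge (sup_le hOC inf_le_left) (Nat.le_of_mul_le_mul_left ?_ (Nat.card_pos (α := ↥(O ⊓ R₀))))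
      calc Nat.card ↥(O ⊓ R₀) * Nat.card C = (q * Nat.card ↥(O ⊓ R₀)) * Nat.card ↥(C ⊓ R₀) := by
            rw [← hD']; ring
        _ ≤ Nat.card O * Nat.card ↥(C ⊓ R₀) := Nat.mul_le_mul_right _ hOq
        _ ≤ Nat.card ↥(O ⊓ (C ⊓ R₀)) * Nat.card ↥(O ⊔ (C ⊓ R₀)) := H75.card_mul_card_le _ _
        _ ≤ _ := by
            refine Nat.mul_le_mul_right _ (le_of_eq ?_)
            rw [← inf_assoc, inf_eq_left.mpr hOC]
    have hXp : IsPGroup p X := hSp.to_subgroup X
    refine map_frattini_le_of (p := p) ?_ ?_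
    · intro a ha b hb'
      have h1 : ⁅a, b⁆ ∈ ⁅X, X⁆ := by
        rw [minimal_commutator_eq hX hQ]
        exact commutator_mem_commutator ha hb'
      exact (commutator_le.mpr fun x hx y hy => commutator_mem_frattini_map hXp hx hy) h1
    · intro a ha
      have ha' : a ∈ ((Q ⊓ R₀ : Subgroup ↥S) : Set ↥S) * (C : Set ↥S) := by
        rw [← coe_mul_of_right_le_normalizer_left (Q ⊓ R₀) C
          ((centralizer_antitone inf_le_left).trans (centralizer_le_normalizer _)), hQDZ]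
        exact ha
      obtain ⟨d, hd, z, hz, rfl⟩ := ha'
      have hz' : z ∈ (O : Set ↥S) * ((C ⊓ R₀ : Subgroup ↥S) : Set ↥S) := by
        rw [← coe_mul_of_right_le_normalizer_left O (C ⊓ R₀) ((inf_le_left.trans ?_).trans
          (centralizer_le_normalizer _)), hCeq]
        · exact hz
        · exact centralizer_antitone fun x hx => hQ2 (hOC hx)
      obtain ⟨u, hu, c, hc, rfl⟩ := hz'
      have hdX : d ∈ X := mem_sup_left hd
      have hcX : c ∈ X := hX2 (hCX ▸ mem_sup_left (show c ∈ C ⊓ R₀ from hc))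
      have c1 : Commute d (u * c) := mem_centralizer_iff.mp (mul_mem (hOC hu) (mem_inf.mp hc).1 : u * c ∈ C) d (mem_inf.mp hd).1
      have c2 : Commute u c := mem_centralizer_iff.mp (mem_inf.mp hc).1 u (hQ2 (hOC hu))
      show (d * (u * c)) ^ p ∈ _
      rw [c1.mul_pow, c2.mul_pow, (mem_omegaOneCenter_iff.mp hu).2, one_mul]
      exact mul_mem (pow_mem_frattini_map hXp hdX) (pow_mem_frattini_map hXp hcX)
  -- the join of the members inside `R₀`
  have hJ : Cfsg.frattiniOfMinimalCLJoin p ↥S = ⨆ X : {X : Subgroup ↥S //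
      Cfsg.IsMinimalCentrallyLarge X ∧ Nat.card ↥(Cfsg.omegaOneCenter p X) = mz ∧ X ≤ R₀},
      (frattini ↥(X : Subgroup ↥S)).map (X : Subgroup ↥S).subtype := by
    refine le_antisymm (iSup_le fun Q => ?_) (iSup_le fun X => le_iSup (fun Q : {Q : Subgroup ↥S //
      Cfsg.IsMinimalCentrallyLarge Q ∧ Nat.card ↥(Cfsg.omegaOneCenter p Q) = mz} =>
        (frattini ↥(Q : Subgroup ↥S)).map (Q : Subgroup ↥S).subtype) ⟨X.1, X.2.1, X.2.2.1⟩)
    obtain ⟨X, hX1, hX2, hX3, hX4⟩ := hstep Q.1 Q.2.1 Q.2.2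
    exact hX4.trans (le_iSup_of_le ⟨X, hX1, hX2, hX3⟩ le_rfl)
  rw [hJ, Subgroup.map_iSup]
  refine normal_of_conj_le fun g X => ?_
  obtain ⟨X, hXm, hXz, hXR⟩ := X
  obtain ⟨h1, h2, h3⟩ := cl_transport hRS g hXm.1 hXR
  set X' := ((X.map S.subtype).map (MulAut.conj g).toMonoidHom).subgroupOf S with hX'
  have hconjR : ∀ x : ↥S, x ∈ R₀ → g * (x : G) * g⁻¹ ∈ S := fun x hx =>
    hRS ((inferInstance : (Cfsg.pCore p G).Normal).conj_mem _ (mem_subgroupOf.mp hx) g)
  have hX'R : X' ≤ R₀ := by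
    intro x hx
    obtain ⟨_, ⟨x₀, hx₀, rfl⟩, hx₁⟩ := mem_subgroupOf.mp hx
    refine mem_subgroupOf.mpr (hx₁ ▸ ?_)
    exact (inferInstance : (Cfsg.pCore p G).Normal).conj_mem _ (mem_subgroupOf.mp (hXR hx₀)) g
  have hmem : ∀ x : ↥S, ∀ hx : x ∈ R₀, x ∈ X → (⟨g * (x : G) * g⁻¹, hconjR x hx⟩ : ↥S) ∈ X' :=
    fun x _ hxX => mem_subgroupOf.mpr ⟨(x : G), ⟨x, hxX, rfl⟩, rfl⟩
  have hO' : Nat.card ↥(Cfsg.omegaOneCenter p X') = mz := by
    refine le_antisymm (hmz_le X' (minimal_of_card_eq h1 hXm h3)) (hXz.ge.trans ?_)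
    let f : ↥(Cfsg.omegaOneCenter p X) → ↥(Cfsg.omegaOneCenter p X') := fun x =>
      ⟨⟨g * ((x : ↥S) : G) * g⁻¹,
          hconjR x (hXR (mem_inf.mp (mem_omegaOneCenter_iff.mp x.2).1).1)⟩, by
        obtain ⟨hxi, hxp⟩ := mem_omegaOneCenter_iff.mp x.2
        obtain ⟨hxX, hxC⟩ := mem_inf.mp hxi
        refine mem_omegaOneCenter_iff.mpr ⟨mem_inf.mpr ⟨hmem _ (hXR hxX) hxX, ?_⟩, Subtype.ext ?_⟩
        · rw [h2]
          exact mem_subgroupOf.mpr ⟨((x : ↥S) : G), ⟨(x : ↥S), hxC, rfl⟩, rfl⟩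
        · push_cast
          rw [conj_pow, show ((x : ↥S) : G) ^ p = 1 from congrArg Subtype.val hxp, mul_one, mul_inv_cancel]⟩
    refine Nat.card_le_card_of_injective f fun a b hab => ?_
    have := congrArg (fun z : ↥(Cfsg.omegaOneCenter p X') => ((z : ↥S) : G)) hab
    simpa [f] using this
  refine le_trans ?_ (le_iSup_of_le ⟨X', minimal_of_card_eq h1 hXm h3, hO', hX'R⟩ le_rfl)
  rw [map_map]
  refine map_le_iff_le_comap.mpr (map_frattini_le_of (p := p) ?_ ?_)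
  · intro a ha b hb'
    rw [mem_comap]
    refine ⟨⁅(⟨g * (a : G) * g⁻¹, hconjR a (hXR ha)⟩ : ↥S), ⟨g * (b : G) * g⁻¹, hconjR b (hXR hb')⟩⁆,
      commutator_mem_frattini_map (hSp.to_subgroup X') (hmem a (hXR ha) ha) (hmem b (hXR hb') hb'), ?_⟩
    simp only [MonoidHom.coe_comp, Function.comp_apply, coe_subtype, MulEquiv.coe_toMonoidHom,
      MulAut.conj_apply, commutatorElement_def]
    push_cast
    group
  · intro a ha
    rw [mem_comap]
    refine ⟨(⟨g * (a : G) * g⁻¹, hconjR a (hXR ha)⟩ : ↥S) ^ p,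
      pow_mem_frattini_map (hSp.to_subgroup X') (hmem a (hXR ha) ha), ?_⟩
    simp only [MonoidHom.coe_comp, Function.comp_apply, coe_subtype, MulEquiv.coe_toMonoidHom,
      MulAut.conj_apply]
    push_cast
    rw [conj_pow]

end Cfsg.Agent.H74
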