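import Mathlib
import Cfsg.Agent.H24.PGroupBasic

/-!
Groups of order 64 generated by elements with the relations of the Sylow 2-subgroups of
`PSL₃(4)` (`ε = false`) and of `PSU₃(4)` (`ε = true`).
-/

set_option autoImplicit false
set_option maxHeartbeats 400000

namespace Cfsg.Agent.H74.Sixty

variable {G H : Type*} [Group G] [Group H]

/-- The relations. -/
structure Rels (ε : Bool) (x : Fin 4 → G) (c d : G) : Prop where
  cc : c * c = 1
  dd : d * d = 1
  cd : c * d = d * c
  cx : ∀ i, c * x i = x i * c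
  dx : ∀ i, d * x i = x i * d
  s0 : x 0 * x 0 = if ε then c else 1
  s1 : x 1 * x 1 = if ε then d else 1
  s2 : x 2 * x 2 = if ε then d else 1
  s3 : x 3 * x 3 = if ε then c * d else 1
  r01 : x 0 * x 1 = x 1 * x 0
  r23 : x 2 * x 3 = x 3 * x 2
  r02 : x 0 * x 2 = c * (x 2 * x 0)
  r13 : x 1 * x 3 = d * (x 3 * x 1)
  r03 : x 0 * x 3 = c * d * (x 3 * x 0)
  r12 : x 1 * x 2 = c * d * (x 2 * x 1)

/-- The generators as a set. -/
def gens (x : Fin 4 → G) (c d : G) : Set G := Set.range x ∪ {c, d}

lemma Rels.map {ε : Bool} {x : Fin 4 → G} {c d : G} (h : Rels ε x c d) (f : G →* H) :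
    Rels ε (f ∘ x) (f c) (f d) := by
  refine ⟨?_, ?_, ?_, fun i => ?_, fun i => ?_, ?_, ?_, ?_, ?_, ?_, ?_, ?_, ?_, ?_, ?_⟩ <;>
    simp only [Function.comp_apply, ← map_mul, h.cc, h.dd, h.cd, h.cx, h.dx, h.s0, h.s1, h.s2, h.s3,
      h.r01, h.r23, h.r02, h.r13, h.r03, h.r12] <;>
    first | exact map_one f | rfl | (cases ε <;> simp)

lemma Rels.pair {ε : Bool} {x : Fin 4 → G} {c d : G} (h : Rels ε x c d) {y : Fin 4 → H} {a b : H}
    (k : Rels ε y a b) : Rels ε (fun i => (x i, y i)) (c, a) (d, b) := by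
  refine ⟨?_, ?_, ?_, fun i => ?_, fun i => ?_, ?_, ?_, ?_, ?_, ?_, ?_, ?_, ?_, ?_, ?_⟩
  · exact Prod.ext h.cc k.cc
  · exact Prod.ext h.dd k.dd
  · exact Prod.ext h.cd k.cd
  · exact Prod.ext (h.cx i) (k.cx i)
  · exact Prod.ext (h.dx i) (k.dx i)
  · cases ε <;> exact Prod.ext (by simpa using h.s0) (by simpa using k.s0)
  · cases ε <;> exact Prod.ext (by simpa using h.s1) (by simpa using k.s1)
  · cases ε <;> exact Prod.ext (by simpa using h.s2) (by simpa using k.s2)
  · cases ε <;> exact Prod.ext (by simpa using h.s3) (by simpa using k.s3)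
  · exact Prod.ext h.r01 k.r01
  · exact Prod.ext h.r23 k.r23
  · exact Prod.ext h.r02 k.r02
  · exact Prod.ext h.r13 k.r13
  · exact Prod.ext h.r03 k.r03
  · exact Prod.ext h.r12 k.r12

theorem Rels.card_le [Finite G] {ε : Bool} {x : Fin 4 → G} {c d : G} (h : Rels ε x c d) :
    Nat.card (Subgroup.closure (gens x c d)) ≤ 64 := by
  classical
  set K := Subgroup.closure (gens x c d) with hK
  have hcK : c ∈ K := Subgroup.subset_closure (Or.inr (Or.inl rfl))
  have hdK : d ∈ K := Subgroup.subset_closure (Or.inr (Or.inr rfl))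
  have hxK : ∀ i, x i ∈ K := fun i => Subgroup.subset_closure (Or.inl ⟨i, rfl⟩)
  let cK : K := ⟨c, hcK⟩
  let dK : K := ⟨d, hdK⟩
  let X : Fin 4 → K := fun i => ⟨x i, hxK i⟩
  let N : Subgroup K :=
    { carrier := {1, cK, dK, cK * dK}
      one_mem' := by simp
      mul_mem' := by
        have cc : cK * cK = 1 := Subtype.ext h.cc
        have dd : dK * dK = 1 := Subtype.ext h.dd
        have cd : dK * cK = cK * dK := Subtype.ext h.cd.symm
        have cc' : ∀ z, cK * (cK * z) = z := fun z => by rw [← mul_assoc, cc, one_mul]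
        have dd' : ∀ z, dK * (dK * z) = z := fun z => by rw [← mul_assoc, dd, one_mul]
        have cd' : ∀ z, dK * (cK * z) = cK * (dK * z) := fun z => by
          rw [← mul_assoc, cd, mul_assoc]
        rintro a b (rfl | rfl | rfl | rfl) (rfl | rfl | rfl | rfl) <;>
          simp [mul_assoc, cc, dd, cd, cc', dd', cd']
      inv_mem' := by
        have cc : cK⁻¹ = cK := inv_eq_of_mul_eq_one_right (Subtype.ext h.cc)
        have dd : dK⁻¹ = dK := inv_eq_of_mul_eq_one_right (Subtype.ext h.dd)
        have cd : dK * cK = cK * dK := Subtype.ext h.cd.symm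
        rintro a (rfl | rfl | rfl | rfl) <;> simp [cc, dd, cd] }
  have hcN : cK ∈ N := Or.inr (Or.inl rfl)
  have hdN : dK ∈ N := Or.inr (Or.inr (Or.inl rfl))
  have hcen : N ≤ Subgroup.center K := by
    have key : ∀ z : G, (z = c ∨ z = d) → ∀ k : K, (k : G) * z = z * k := by
      intro z hz k
      have hz' : K ≤ Subgroup.centralizer {z} := by
        rw [hK, Subgroup.closure_le]
        rintro g (⟨i, rfl⟩ | rfl | rfl) <;> refine Subgroup.mem_centralizer_singleton_iff.2 ?_ <;>
          rcases hz with rfl | rfl <;>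
          first | exact (h.cx i).symm | exact (h.dx i).symm | rfl | exact h.cd | exact h.cd.symm
      exact Subgroup.mem_centralizer_singleton_iff.1 (hz' k.2)
    intro z hz
    rw [Subgroup.mem_center_iff]
    intro k
    have hc := Subtype.ext (a1 := k * cK) (a2 := cK * k) (key c (Or.inl rfl) k)
    have hd := Subtype.ext (a1 := k * dK) (a2 := dK * k) (key d (Or.inr rfl) k)
    rcases hz with rfl | rfl | rfl | rfl
    · simp
    · exact hc
    · exact hd
    · rw [← mul_assoc, hc, mul_assoc, hd, mul_assoc]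
  haveI : N.Normal := ⟨fun n hn g => by
    rw [Subgroup.mem_center_iff.1 (hcen hn) g, mul_inv_cancel_right]; exact hn⟩
  let Y : Fin 4 → K ⧸ N := fun i => QuotientGroup.mk' N (X i)
  have hc1 : QuotientGroup.mk' N cK = 1 := (QuotientGroup.eq_one_iff _).2 hcN
  have hd1 : QuotientGroup.mk' N dK = 1 := (QuotientGroup.eq_one_iff _).2 hdN
  have hsq : ∀ i, Y i * Y i = 1 := by
    intro i
    show QuotientGroup.mk' N (X i) * QuotientGroup.mk' N (X i) = 1
    rw [← map_mul]
    have : X i * X i ∈ N := by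
      have e0 : (x 0 * x 0 = 1 ∨ x 0 * x 0 = c) := by rw [h.s0]; cases ε <;> simp
      have e1 : (x 1 * x 1 = 1 ∨ x 1 * x 1 = d) := by rw [h.s1]; cases ε <;> simp
      have e2 : (x 2 * x 2 = 1 ∨ x 2 * x 2 = d) := by rw [h.s2]; cases ε <;> simp
      have e3 : (x 3 * x 3 = 1 ∨ x 3 * x 3 = c * d) := by rw [h.s3]; cases ε <;> simp
      fin_cases i
      · rcases e0 with e | e
        · exact Or.inl (Subtype.ext e)
        · exact Or.inr (Or.inl (Subtype.ext e))
      · rcases e1 with e | e
        · exact Or.inl (Subtype.ext e)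
        · exact Or.inr (Or.inr (Or.inl (Subtype.ext e)))
      · rcases e2 with e | e
        · exact Or.inl (Subtype.ext e)
        · exact Or.inr (Or.inr (Or.inl (Subtype.ext e)))
      · rcases e3 with e | e
        · exact Or.inl (Subtype.ext e)
        · exact Or.inr (Or.inr (Or.inr (Subtype.ext e)))
    exact (QuotientGroup.eq_one_iff _).2 this
  have hcomm : Pairwise fun i j => Commute (Y i) (Y j) := by
    have e : ∀ i j (k : K), X i * X j = k * (X j * X i) → k ∈ N → Commute (Y i) (Y j) := by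
      intro i j k hk hkN
      show QuotientGroup.mk' N (X i) * QuotientGroup.mk' N (X j) = _ * _
      rw [← map_mul, hk, map_mul,
        show QuotientGroup.mk' N k = 1 from (QuotientGroup.eq_one_iff _).2 hkN, one_mul, map_mul]
    have e01 : Commute (Y 0) (Y 1) := e 0 1 1 (by rw [one_mul]; exact Subtype.ext h.r01) (one_mem N)
    have e23 : Commute (Y 2) (Y 3) := e 2 3 1 (by rw [one_mul]; exact Subtype.ext h.r23) (one_mem N)
    have e02 : Commute (Y 0) (Y 2) := e 0 2 cK (Subtype.ext h.r02) hcN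
    have e13 : Commute (Y 1) (Y 3) := e 1 3 dK (Subtype.ext h.r13) hdN
    have e03 : Commute (Y 0) (Y 3) := e 0 3 (cK * dK) (Subtype.ext h.r03) (mul_mem hcN hdN)
    have e12 : Commute (Y 1) (Y 2) := e 1 2 (cK * dK) (Subtype.ext h.r12) (mul_mem hcN hdN)
    intro i j hij
    fin_cases i <;> fin_cases j <;>
      first | exact absurd rfl hij | assumption | (apply Commute.symm; assumption)
  let f : Fin 4 → Multiplicative (ZMod 2) →* K ⧸ N := fun i =>
    { toFun := fun z => if z = 1 then 1 else Y i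
      map_one' := if_pos rfl
      map_mul' := fun u v => by
        have key : ∀ w : Multiplicative (ZMod 2), w = 1 ∨ w = Multiplicative.ofAdd 1 := by decide
        have e : (Multiplicative.ofAdd (1 : ZMod 2)) * Multiplicative.ofAdd 1 = 1 := by decide
        have n : (Multiplicative.ofAdd (1 : ZMod 2)) ≠ 1 := by decide
        rcases key u with rfl | rfl <;> rcases key v with rfl | rfl <;> simp [e, n, hsq] }
  have hfc : Pairwise fun i j => ∀ a b, Commute (f i a) (f j b) := by
    intro i j hij a b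
    show Commute (if a = 1 then 1 else Y i) (if b = 1 then 1 else Y j)
    split_ifs <;> first | exact Commute.one_left _ | exact Commute.one_right _ | exact hcomm hij
  let φ := MonoidHom.noncommPiCoprod f hfc
  have hφ : Function.Surjective φ := by
    intro q
    obtain ⟨k, rfl⟩ := QuotientGroup.mk'_surjective N q
    have hK' : K ≤ (φ.range.comap (QuotientGroup.mk' N)).map K.subtype := by
      refine (Subgroup.closure_le _).2 ?_
      rintro g (⟨i, rfl⟩ | rfl | rfl)
      · refine ⟨X i, ⟨Pi.mulSingle i (Multiplicative.ofAdd 1), ?_⟩, rfl⟩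
        show φ _ = _
        simp only [φ, MonoidHom.noncommPiCoprod_mulSingle]
        show (if (Multiplicative.ofAdd (1 : ZMod 2)) = 1 then 1 else Y i) = Y i
        rw [if_neg (by decide)]
      · exact ⟨cK, ⟨1, by rw [map_one, hc1]⟩, rfl⟩
      · exact ⟨dK, ⟨1, by rw [map_one, hd1]⟩, rfl⟩
    obtain ⟨k', hk', he⟩ := hK' k.2
    rwa [Subtype.ext he] at hk'
  have h16 : Nat.card (K ⧸ N) ≤ 16 := by
    refine (Nat.card_le_card_of_surjective φ hφ).trans ?_
    simp [Nat.card_pi]
  have h4 : Nat.card N ≤ 4 := by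
    show Nat.card ({1, cK, dK, cK * dK} : Set K) ≤ 4
    rw [Nat.card_coe_set_eq]
    refine (Set.ncard_insert_le _ _).trans (Nat.succ_le_succ ?_)
    refine (Set.ncard_insert_le _ _).trans (Nat.succ_le_succ ?_)
    refine (Set.ncard_insert_le _ _).trans (Nat.succ_le_succ ?_)
    rw [Set.ncard_singleton]
  rw [Subgroup.card_eq_card_quotient_mul_card_subgroup N]
  calc _ ≤ 16 * 4 := Nat.mul_le_mul h16 h4
    _ = 64 := rfl

/-- A generated model of order 64 with centre `{1, c, d, cd}` is isomorphic to every Sylow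
subgroup of a group of 2-part 64 containing a faithful copy of the relations. -/
theorem iso_sylow {T : Type*} [Group T] [Finite T] [Finite G] {ε : Bool} {x : Fin 4 → T} {c d : T}
    (h : Rels ε x c d) (hgen : Subgroup.closure (gens x c d) = ⊤) (hT : Nat.card T = 64)
    (hZ : ∀ z ∈ Subgroup.center T, z = 1 ∨ z = c ∨ z = d ∨ z = c * d)
    {y : Fin 4 → G} {a b : G} (k : Rels ε y a b) (ha : a ≠ 1) (hb : b ≠ 1) (hab : a ≠ b)
    (m : ℕ) (hG : Nat.card G = 2 ^ 6 * m) (hm : ¬ 2 ∣ m) (P : Sylow 2 G) :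
    Nonempty (T ≃* ↥(P : Subgroup G)) := by
  haveI : Fact (Nat.Prime 2) := ⟨Nat.prime_two⟩
  set C := Subgroup.closure (gens (fun i => (x i, y i)) (c, a) (d, b)) with hC
  let π : C →* T := (MonoidHom.fst T G).comp C.subtype
  have hπ : Function.Surjective π := by
    rw [← MonoidHom.range_eq_top, eq_top_iff, ← hgen, Subgroup.closure_le]
    rintro g (⟨i, rfl⟩ | rfl | rfl)
    · exact ⟨⟨(x i, y i), Subgroup.subset_closure (Or.inl ⟨i, rfl⟩)⟩, rfl⟩
    · exact ⟨⟨(g, a), Subgroup.subset_closure (Or.inr (Or.inl rfl))⟩, rfl⟩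
    · exact ⟨⟨(g, b), Subgroup.subset_closure (Or.inr (Or.inr rfl))⟩, rfl⟩
  have hle : Nat.card C ≤ Nat.card T := hT ▸ (h.pair k).card_le
  have hbij : Function.Bijective π :=
    hπ.bijective_of_nat_card_le hle
  let e : C ≃* T := MulEquiv.ofBijective π hbij
  let f : T →* G := ((MonoidHom.snd T G).comp C.subtype).comp e.symm.toMonoidHom
  have hf : ∀ (u : T) (v : G), (u, v) ∈ C → f u = v := by
    intro u v huv
    show ((e.symm u : C) : T × G).2 = v
    have : e.symm u = ⟨(u, v), huv⟩ := e.injective (by rw [e.apply_symm_apply]; rfl)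
    rw [this]
  have hfc : f c = a := hf c a (Subgroup.subset_closure (Or.inr (Or.inl rfl)))
  have hfd : f d = b := hf d b (Subgroup.subset_closure (Or.inr (Or.inr rfl)))
  have hinj : Function.Injective f := by
    rw [← MonoidHom.ker_eq_bot_iff]
    by_contra hne
    haveI : Nontrivial f.ker := f.ker.nontrivial_iff_ne_bot.2 hne
    have hTp : IsPGroup 2 T := IsPGroup.of_card (n := 6) (by rw [hT]; rfl)
    obtain ⟨z, hz, hz1⟩ : ∃ z, z ∈ f.ker ⊓ Subgroup.center T ∧ z ≠ 1 := by
      have hne' : f.ker ⊓ Subgroup.center T ≠ ⊥ :=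
        H24.inf_center_ne_bot hTp hne
      by_contra hall
      push Not at hall
      exact hne' ((Subgroup.eq_bot_iff_forall _).2 hall)
    rw [Subgroup.mem_inf, MonoidHom.mem_ker] at hz
    rcases hZ z hz.2 with rfl | rfl | rfl | rfl
    · exact hz1 rfl
    · exact ha (hfc ▸ hz.1)
    · exact hb (hfd ▸ hz.1)
    · have h1 : a * b = 1 := by rw [← hfc, ← hfd, ← map_mul]; exact hz.1
      exact hab (calc a = a * (b * b) := by rw [k.dd, mul_one]
        _ = b := by rw [← mul_assoc, h1, one_mul])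
  have hcard : Nat.card f.range = 2 ^ (Nat.card G).factorization 2 := by
    have hm0 : m ≠ 0 := fun e => hm (e ▸ dvd_zero 2)
    rw [← Nat.card_congr (MonoidHom.ofInjective hinj).toEquiv, hT, hG,
      Nat.factorization_mul (pow_ne_zero _ (by norm_num)) hm0, Nat.prime_two.factorization_pow]
    simp [Nat.factorization_eq_zero_of_not_dvd hm]
  exact ⟨(MonoidHom.ofInjective hinj).trans (P.equiv (Sylow.ofCard f.range hcard)).symm⟩

end Cfsg.Agent.H74.Sixty
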