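import Cfsg.Agent.H74.FixFourAbelian
import Cfsg.Agent.H74.SixtyFour

/-!
2-groups with an involutory automorphism whose fixed points form a central four group and a
commuting fixed-point-free automorphism of order three.
-/

set_option autoImplicit false
set_option maxHeartbeats 800000

open scoped commutatorElement

namespace Cfsg.Agent.H74.FixFour

/-- The setting. -/
structure Data {T : Type*} [Group T] (S R : T →* T) : Prop where
  pgroup : IsPGroup 2 T
  SS : ∀ x, S (S x) = x
  SR : ∀ x, S (R x) = R (S x)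
  norm : ∀ x, x * R x * R (R x) = 1
  eng : ∀ x, Commute x (R x)
  classTwo : ∀ a b c : T, Commute a ⁅b, c⁆
  vcard : Nat.card (S.eqLocus (MonoidHom.id T)) = 4
  vsq : ∀ x, S x = x → x * x = 1
  vcen : ∀ x, S x = x → x ∈ Subgroup.center T

variable {T : Type*} [Group T] {S R : T →* T}

local instance centerCommGroup (T : Type*) [Group T] : CommGroup (Subgroup.center T) :=
  { (inferInstance : Group (Subgroup.center T)) with
    mul_comm := fun a b => Subtype.ext (Subgroup.mem_center_iff.1 b.2 a) }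

/-- `b` is independent of `a`, `R a` modulo the centre. -/
def Indep (R : T →* T) (a b : T) : Prop :=
  ∀ u ∈ ({1, a, R a, a * R a} : Set T), u * b ∉ Subgroup.center T

namespace Data

variable (h : Data S R)
include h

theorem RRR (x : T) : R (R (R x)) = x := by
  have h1 := h.norm x
  have h2 := h.norm (R x)
  calc R (R (R x)) = (R x * R (R x))⁻¹ := eq_inv_of_mul_eq_one_right h2
    _ = x := (eq_inv_of_mul_eq_one_left (by rwa [← mul_assoc])).symm

theorem symm : Data S (R.comp R) where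
  pgroup := h.pgroup
  SS := h.SS
  SR x := show S (R (R x)) = R (R (S x)) by rw [h.SR, h.SR]
  norm x := by
    show x * R (R x) * R (R (R (R x))) = 1
    rw [h.RRR, mul_assoc, ← (h.eng (R x)).eq, ← mul_assoc, h.norm]
  eng x := by
    show Commute x (R (R x))
    have := (h.eng (R (R x))).symm
    rwa [h.RRR] at this
  classTwo := h.classTwo
  vcard := h.vcard
  vsq := h.vsq
  vcen := h.vcen

theorem R_inj : Function.Injective R := fun p q e => by rw [← h.RRR p, e, h.RRR q]

theorem S_center {z : T} (hz : z ∈ Subgroup.center T) : S z ∈ Subgroup.center T := by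
  rw [Subgroup.mem_center_iff] at hz ⊢
  intro k
  calc k * S z = S (S k * z) := by rw [map_mul, h.SS]
    _ = S z * k := by rw [hz, map_mul, h.SS]

theorem R_center {z : T} (hz : z ∈ Subgroup.center T) : R z ∈ Subgroup.center T := by
  rw [Subgroup.mem_center_iff] at hz ⊢
  intro k
  calc k * R z = R (R (R k) * z) := by rw [map_mul, h.RRR]
    _ = R z * k := by rw [hz, map_mul, h.RRR]

theorem comm_mem_center (x y : T) : ⁅x, y⁆ ∈ Subgroup.center T :=
  Subgroup.mem_center_iff.2 fun k => (h.classTwo k x y).eq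

/-- `S` on the centre. -/
abbrev ZS : Subgroup.center T →* Subgroup.center T :=
  (S.comp (Subgroup.center T).subtype).codRestrict _ fun z => h.S_center z.2

/-- `R` on the centre. -/
abbrev ZR : Subgroup.center T →* Subgroup.center T :=
  (R.comp (Subgroup.center T).subtype).codRestrict _ fun z => h.R_center z.2

theorem center_adata : AData h.ZS h.ZR where
  pgroup := h.pgroup.to_subgroup _
  SS z := Subtype.ext (h.SS z)
  SR z := Subtype.ext (h.SR z)
  norm z := Subtype.ext (h.norm z)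
  fixCard := by
    rw [← h.vcard]
    exact Nat.card_congr
      { toFun := fun z => ⟨z.1.1, congrArg Subtype.val z.2⟩
        invFun := fun z => ⟨⟨z.1, h.vcen _ z.2⟩, Subtype.ext z.2⟩
        left_inv := fun _ => rfl
        right_inv := fun _ => rfl }
  fixSq z hz := Subtype.ext (h.vsq _ (congrArg Subtype.val hz))

/-- `S` modulo the centre. -/
abbrev AS : T ⧸ Subgroup.center T →* T ⧸ Subgroup.center T :=
  QuotientGroup.map _ _ S fun _ hz => h.S_center hz

/-- `R` modulo the centre. -/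
abbrev AR : T ⧸ Subgroup.center T →* T ⧸ Subgroup.center T :=
  QuotientGroup.map _ _ R fun _ hz => h.R_center hz

theorem quot_comm (a b : T ⧸ Subgroup.center T) : a * b = b * a := by
  induction a using QuotientGroup.induction_on with
  | H x => induction b using QuotientGroup.induction_on with
    | H y =>
      rw [← QuotientGroup.mk_mul, ← QuotientGroup.mk_mul, QuotientGroup.eq]
      have := h.comm_mem_center y⁻¹ x⁻¹
      rwa [commutatorElement_def, inv_inv, inv_inv, ← mul_inv_rev,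
        show (x * y)⁻¹ * y * x = (x * y)⁻¹ * (y * x) by group] at this

theorem AR_fpf {q : T ⧸ Subgroup.center T} (hq : h.AR q = q) : q = 1 := by
  have h3 : q ^ 3 = 1 := by
    induction q using QuotientGroup.induction_on with
    | H x =>
      have := congrArg (fun z : T => (z : T ⧸ Subgroup.center T)) (h.norm x)
      simp only [QuotientGroup.mk_mul, QuotientGroup.mk_one] at this
      have e1 : ((R x : T) : T ⧸ Subgroup.center T) = x := hq
      have e2 : ((R (R x) : T) : T ⧸ Subgroup.center T) = x := by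
        calc ((R (R x) : T) : T ⧸ Subgroup.center T) = h.AR (R x : T) := rfl
          _ = h.AR x := by rw [e1]
          _ = x := hq
      rw [e1, e2] at this
      rw [pow_succ, pow_two, this]
  obtain ⟨k, hk⟩ := (h.pgroup.to_quotient (Subgroup.center T)) q
  have h1 := Nat.dvd_gcd (orderOf_dvd_of_pow_eq_one h3) (orderOf_dvd_of_pow_eq_one hk)
  rw [Nat.Coprime.gcd_eq_one (Nat.Coprime.pow_right k (by norm_num : Nat.Coprime 3 2))] at h1
  exact orderOf_eq_one_iff.1 (Nat.dvd_one.1 h1)

theorem abelian_case [Finite T] (hab : ∀ a b : T, a * b = b * a) :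
    (Nat.card T = 16 ∧ ∀ x : T, x * x = 1) ∨
      ∃ n : ℕ, 1 ≤ n ∧
        Nonempty (T ≃* Multiplicative (ZMod (2 ^ n)) × Multiplicative (ZMod (2 ^ n))) := by
  letI : CommGroup T := { (inferInstance : Group T) with mul_comm := hab }
  have A : AData S R := ⟨h.pgroup, h.SS, h.SR, h.norm, h.vcard, h.vsq⟩
  rcases A.dichotomy with ⟨he, hc, -⟩ | hΩ
  · exact Or.inl ⟨hc, he⟩
  · obtain ⟨n, a, hn, he, -⟩ := A.homocyclic hΩ
    exact Or.inr ⟨n, hn, he⟩

variable [Finite T]

theorem exists_quot_fix (hne : ¬ ∀ a b : T, a * b = b * a) :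
    ∃ q : T ⧸ Subgroup.center T, h.AS q = q ∧ q ≠ 1 := by
  obtain ⟨y, hy⟩ : ∃ y : T ⧸ Subgroup.center T, y ≠ 1 := by
    by_contra hc
    push Not at hc
    refine hne fun a b => ?_
    exact (Subgroup.mem_center_iff.1 ((QuotientGroup.eq_one_iff a).1 (hc a)) b).symm
  have hSS : ∀ q, h.AS (h.AS q) = q := fun q => by
    induction q using QuotientGroup.induction_on with
    | H x => exact congrArg _ (h.SS x)
  by_cases hys : y * h.AS y = 1
  · obtain ⟨k, hk⟩ := (h.pgroup.to_quotient (Subgroup.center T)) y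
    obtain ⟨j, hj, hj'⟩ : ∃ j, y ^ 2 ^ j ≠ 1 ∧ y ^ 2 ^ (j + 1) = 1 := by
      by_contra hn'
      push Not at hn'
      have : ∀ j, y ^ 2 ^ j ≠ 1 := fun j => by
        induction j with
        | zero => simpa using hy
        | succ j ih => exact hn' j ih
      exact this k hk
    refine ⟨y ^ 2 ^ j, ?_, hj⟩
    rw [map_pow, eq_inv_of_mul_eq_one_right hys, inv_pow]
    exact inv_eq_of_mul_eq_one_right (by rw [← pow_add, ← two_mul, ← pow_succ', hj'])
  · exact ⟨y * h.AS y, by rw [map_mul, hSS, h.quot_comm], hys⟩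

theorem center_invol (hne : ¬ ∀ a b : T, a * b = b * a) :
    ∀ z ∈ Subgroup.center T, z * z = 1 → S z = z := by
  rcases h.center_adata.dichotomy with ⟨hexp, -, himg⟩ | hΩ
  · exfalso
    obtain ⟨q, hq, hq1⟩ := h.exists_quot_fix hne
    induction q using QuotientGroup.induction_on with
    | H x =>
    have hz : x⁻¹ * S x ∈ Subgroup.center T := QuotientGroup.eq.1 hq.symm
    set z := x⁻¹ * S x with hzdef
    have hSx : S x = x * z := by rw [hzdef]; group
    have hzz : z * S z = 1 := by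
      have := h.SS x
      rw [hSx, map_mul, hSx, mul_assoc] at this
      exact mul_eq_left.1 this
    have hz2 : z * z = 1 := congrArg Subtype.val (hexp ⟨z, hz⟩)
    have hSz : S z = z := (mul_left_cancel (hz2.trans hzz.symm)).symm
    obtain ⟨e, he⟩ := himg ⟨z, hz⟩ (Subtype.ext hSz)
    have he' : S (e : T) * (e : T)⁻¹ = z := congrArg Subtype.val he
    have hfix : S (x * (e : T)⁻¹) = x * (e : T)⁻¹ := by
      rw [map_mul, map_inv, hSx, mul_assoc]
      congr 1
      have hc := Subgroup.mem_center_iff.1 (h.S_center e.2)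
      rw [← he', ← hc, mul_assoc, mul_inv_cancel, mul_one]
    refine hq1 ((QuotientGroup.eq_one_iff x).2 ?_)
    have := mul_mem (h.vcen _ hfix) e.2
    rwa [inv_mul_cancel_right] at this
  · exact fun z hz hz2 => congrArg Subtype.val (hΩ ⟨z, hz⟩ (Subtype.ext hz2))

theorem quot_adata (hne : ¬ ∀ a b : T, a * b = b * a) :
    letI : CommGroup (T ⧸ Subgroup.center T) :=
      { (inferInstance : Group (T ⧸ Subgroup.center T)) with mul_comm := h.quot_comm }
    AData h.AS h.AR := by
  letI : CommGroup (T ⧸ Subgroup.center T) :=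
    { (inferInstance : Group (T ⧸ Subgroup.center T)) with mul_comm := h.quot_comm }
  obtain ⟨u, hu, hu1⟩ := h.exists_quot_fix hne
  set F := h.AS.eqLocus (MonoidHom.id (T ⧸ Subgroup.center T)) with hF
  have hSR : ∀ q, h.AS (h.AR q) = h.AR (h.AS q) := fun q => by
    induction q using QuotientGroup.induction_on with
    | H x => exact congrArg _ (h.SR x)
  have hnorm : ∀ q, q * h.AR q * h.AR (h.AR q) = 1 := fun q => by
    induction q using QuotientGroup.induction_on with
    | H x => exact congrArg (fun z : T => (z : T ⧸ Subgroup.center T)) (h.norm x)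
  -- at most four fixed cosets
  let ψ := (h.ZS / MonoidHom.id (Subgroup.center T)).range
  have hsel : ∀ q : F, (q.1.out)⁻¹ * S q.1.out ∈ Subgroup.center T := fun q => by
    refine QuotientGroup.eq.1 ?_
    rw [QuotientGroup.out_eq']
    conv_lhs => rw [← show h.AS q.1 = q.1 from q.2]
    conv_lhs => rw [← QuotientGroup.out_eq' q.1]
    rfl
  let g : F → Subgroup.center T ⧸ ψ := fun q => QuotientGroup.mk ⟨_, hsel q⟩
  have hg : Function.Injective g := by
    intro p q hpq
    obtain ⟨e, he⟩ := QuotientGroup.eq.1 hpq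
    set x := p.1.out
    set y := q.1.out
    have he' : S (e : T) / (e : T) = (x⁻¹ * S x)⁻¹ * (y⁻¹ * S y) := congrArg Subtype.val he
    set zx := x⁻¹ * S x with hzx
    set zy := y⁻¹ * S y with hzy
    have hSx : S x = x * zx := by rw [hzx]; group
    have hSy : S y = y * zy := by rw [hzy]; group
    have hSe : S (e : T) = zx⁻¹ * zy * e := by rw [← he', div_eq_mul_inv, inv_mul_cancel_right]
    have hfix : S (x⁻¹ * y * (e : T)⁻¹) = x⁻¹ * y * (e : T)⁻¹ := by
      rw [map_mul, map_mul, map_inv, map_inv, hSx, hSy, hSe]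
      have c1 := Subgroup.mem_center_iff.1 (inv_mem (hsel p))
      have c2 := Subgroup.mem_center_iff.1 (inv_mem e.2)
      calc (x * zx)⁻¹ * (y * zy) * (zx⁻¹ * zy * (e : T))⁻¹
          = zx⁻¹ * (x⁻¹ * y * zy) * ((e : T)⁻¹ * zy⁻¹ * zx) := by group
        _ = (x⁻¹ * y * zy) * zx⁻¹ * ((e : T)⁻¹ * zy⁻¹ * zx) := by rw [c1]
        _ = x⁻¹ * y * zy * zx⁻¹ * ((zy⁻¹ * (e : T)⁻¹) * zx) := by rw [c2 zy⁻¹]
        _ = x⁻¹ * y * zy * (zx⁻¹ * zy⁻¹) * ((e : T)⁻¹ * zx) := by group
        _ = x⁻¹ * y * zy * (zy⁻¹ * zx⁻¹) * ((e : T)⁻¹ * zx) := by rw [c1 zy⁻¹]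
        _ = x⁻¹ * y * zy * (zy⁻¹ * zx⁻¹) * (zx * (e : T)⁻¹) := by rw [c2 zx]
        _ = x⁻¹ * y * (e : T)⁻¹ := by group
    have := mul_mem (h.vcen _ hfix) e.2
    rw [inv_mul_cancel_right] at this
    apply Subtype.ext
    rw [← QuotientGroup.out_eq' p.1, ← QuotientGroup.out_eq' q.1]
    exact QuotientGroup.eq.2 this
  have hidx : Nat.card (Subgroup.center T ⧸ ψ) = 4 := by
    have h1 := h.center_adata.card_psi
    rw [Subgroup.card_eq_card_quotient_mul_card_subgroup ψ] at h1
    exact (Nat.eq_of_mul_eq_mul_right Nat.card_pos ((mul_comm _ _).trans h1)).symm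
  have hle : Nat.card F ≤ 4 := hidx ▸ Nat.card_le_card_of_injective g hg
  have n1 : h.AR u ≠ 1 := fun e => hu1 (h.AR_fpf (by
    calc h.AR u = 1 := e
      _ = u := by
        have := hnorm u
        rwa [e, map_one, mul_one, mul_one, eq_comm] at this))
  have n2 : h.AR u ≠ u := fun e => hu1 (h.AR_fpf e)
  have n3 : u * h.AR u ≠ 1 := fun e => by
    have h1 : h.AR (h.AR u) = u := by
      rw [eq_inv_of_mul_eq_one_right e, map_inv, eq_inv_of_mul_eq_one_right e, inv_inv]
    have h2 := hnorm u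
    rw [e, one_mul, h1] at h2
    exact hu1 h2
  have n4 : u * h.AR u ≠ u := fun e => n1 (mul_eq_left.1 e)
  have n5 : u * h.AR u ≠ h.AR u := fun e => hu1 (mul_eq_right.1 e)
  have huF : u ∈ F := hu
  have hRF : h.AR u ∈ F := show h.AS (h.AR u) = h.AR u by rw [hSR, hu]
  have hsub : ({1, u, h.AR u, u * h.AR u} : Set (T ⧸ Subgroup.center T)) ⊆ (F : Set _) := by
    rintro y (rfl | rfl | rfl | rfl)
    exacts [one_mem F, huF, hRF, mul_mem huF hRF]
  have hcard : ({1, u, h.AR u, u * h.AR u} : Set (T ⧸ Subgroup.center T)).ncard = 4 := by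
    rw [Set.ncard_insert_of_notMem (by simp [Ne.symm hu1, Ne.symm n1, Ne.symm n3]),
      Set.ncard_insert_of_notMem (by simp [Ne.symm n2, Ne.symm n4]),
      Set.ncard_pair (Ne.symm n5)]
  have heq : ({1, u, h.AR u, u * h.AR u} : Set (T ⧸ Subgroup.center T)) = (F : Set _) :=
    Set.eq_of_subset_of_ncard_le hsub (by rw [hcard, ← Nat.card_coe_set_eq]; exact hle) (Set.toFinite _)
  have hsq : ∀ v, v ∈ F → v * v = 1 := by
    have hu2 : u * u = 1 := by
      have hm : u * u ∈ (F : Set _) := mul_mem huF huF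
      rw [← heq] at hm
      rcases hm with e | e | e | e
      · exact e
      · exact absurd (mul_eq_left.1 e) hu1
      · exfalso
        have h8 : h.AR (h.AR (h.AR u)) = u := by
          obtain ⟨x, rfl⟩ := QuotientGroup.mk_surjective u
          exact congrArg _ (h.RRR x)
        have e2 : h.AR (h.AR u) = u ^ 4 := by rw [← e, map_mul, ← e, ← pow_two, ← pow_two, ← pow_mul]
        have e3 : u ^ 8 = u := by
          conv_rhs => rw [← h8, e2, map_pow, ← e, ← pow_two, ← pow_mul]
        have h7 : u ^ 7 = 1 := by rwa [pow_succ, mul_eq_right] at e3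
        obtain ⟨k, hk⟩ := (h.pgroup.to_quotient (Subgroup.center T)) u
        have hd := Nat.dvd_gcd (orderOf_dvd_of_pow_eq_one h7) (orderOf_dvd_of_pow_eq_one hk)
        rw [Nat.Coprime.gcd_eq_one (Nat.Coprime.pow_right k (by norm_num : Nat.Coprime 7 2))] at hd
        exact hu1 (orderOf_eq_one_iff.1 (Nat.dvd_one.1 hd))
      · exact absurd (mul_left_cancel e).symm n2
    intro v hv
    have hv' : v ∈ ({1, u, h.AR u, u * h.AR u} : Set _) := by rw [heq]; exact hv
    have hRu2 : h.AR u * h.AR u = 1 := by rw [← map_mul, hu2, map_one]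
    rcases hv' with rfl | rfl | rfl | rfl
    exacts [one_mul 1, hu2, hRu2, by rw [mul_mul_mul_comm, hu2, hRu2, one_mul]]
  refine ⟨h.pgroup.to_quotient _, fun q => ?_, hSR, hnorm, ?_, fun v hv => hsq v hv⟩
  · induction q using QuotientGroup.induction_on with
    | H x => exact congrArg _ (h.SS x)
  · show Nat.card (F : Set (T ⧸ Subgroup.center T)) = 4
    rw [← heq, Nat.card_coe_set_eq, hcard]

theorem quot_shape (hne : ¬ ∀ a b : T, a * b = b * a) :
    (∀ x : T, x * x ∈ Subgroup.center T) ∧ Nat.card (T ⧸ Subgroup.center T) = 16 := by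
  letI : CommGroup (T ⧸ Subgroup.center T) :=
    { (inferInstance : Group (T ⧸ Subgroup.center T)) with mul_comm := h.quot_comm }
  have A := h.quot_adata hne
  rcases A.dichotomy with ⟨hexp, hc, -⟩ | hΩ
  · exact ⟨fun x => (QuotientGroup.eq_one_iff _).1 (hexp (x : T ⧸ Subgroup.center T)), hc⟩
  · exfalso
    obtain ⟨n, a, -, -, hgen⟩ := A.homocyclic hΩ
    obtain ⟨α, rfl⟩ := QuotientGroup.mk_surjective a
    have hdec : ∀ x : T, ∃ i j : ℕ, ∃ z ∈ Subgroup.center T, x = α ^ i * R α ^ j * z := by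
      intro x
      obtain ⟨i, j, hij⟩ := hgen (x : T ⧸ Subgroup.center T)
      refine ⟨i, j, _, QuotientGroup.eq.1 (?_ : ((α ^ i * R α ^ j : T) : T ⧸ Subgroup.center T) = x),
        (mul_inv_cancel_left _ _).symm⟩
      rw [hij]
      rfl
    refine hne fun x y => ?_
    obtain ⟨i, j, z, hz, rfl⟩ := hdec x
    obtain ⟨k, l, w, hw, rfl⟩ := hdec y
    have hz' : ∀ g, Commute g z := fun g => Subgroup.mem_center_iff.1 hz g
    have hw' : ∀ g, Commute g w := fun g => Subgroup.mem_center_iff.1 hw g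
    have hc := h.eng α
    have h1 : Commute (α ^ i) (α ^ k * R α ^ l) :=
      ((Commute.refl α).pow_pow i k).mul_right (hc.pow_pow i l)
    have h2 : Commute (R α ^ j) (α ^ k * R α ^ l) :=
      (hc.symm.pow_pow j k).mul_right ((Commute.refl (R α)).pow_pow j l)
    exact (((h1.mul_left h2).mul_right (hw' _)).mul_left ((hz' _).symm.mul_right (hz' w).symm)).eq

theorem comm_mul_left' (x y z : T) : ⁅x * y, z⁆ = ⁅x, z⁆ * ⁅y, z⁆ := by
  have hc := Subgroup.mem_center_iff.1 (h.comm_mem_center y z)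
  calc ⁅x * y, z⁆ = x * ⁅y, z⁆ * (z * x⁻¹ * z⁻¹) := by simp only [commutatorElement_def]; group
    _ = ⁅y, z⁆ * (x * (z * x⁻¹ * z⁻¹)) := by rw [hc, mul_assoc]
    _ = x * (z * x⁻¹ * z⁻¹) * ⁅y, z⁆ := by rw [hc]
    _ = ⁅x, z⁆ * ⁅y, z⁆ := by simp only [commutatorElement_def, mul_assoc]

theorem comm_sq (hne : ¬ ∀ a b : T, a * b = b * a) (x y : T) : ⁅x, y⁆ * ⁅x, y⁆ = 1 := by
  rw [← h.comm_mul_left', commutatorElement_eq_one_iff_mul_comm]
  exact ((Subgroup.mem_center_iff.1 ((h.quot_shape hne).1 x)) y).symm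

theorem comm_swap (hne : ¬ ∀ a b : T, a * b = b * a) (x y : T) : ⁅y, x⁆ = ⁅x, y⁆ := by
  rw [← commutatorElement_inv x y]
  exact inv_eq_of_mul_eq_one_right (h.comm_sq hne x y)

theorem comm_mul_right' (hne : ¬ ∀ a b : T, a * b = b * a) (x y z : T) :
    ⁅x, y * z⁆ = ⁅x, y⁆ * ⁅x, z⁆ := by
  rw [h.comm_swap hne (y * z) x, h.comm_mul_left', h.comm_swap hne x y, h.comm_swap hne x z]

theorem sq_mul (hne : ¬ ∀ a b : T, a * b = b * a) (x y : T) :
    x * y * (x * y) = x * x * (y * y) * ⁅x, y⁆ := by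
  have hc := Subgroup.mem_center_iff.1 (h.comm_mem_center y x)
  have e : y * x = ⁅y, x⁆ * (x * y) := by simp [commutatorElement_def, mul_assoc]
  calc x * y * (x * y) = x * (y * x) * y := by group
    _ = x * ⁅y, x⁆ * (x * y * y) := by rw [e]; group
    _ = ⁅y, x⁆ * (x * (x * y * y)) := by rw [hc, mul_assoc]
    _ = x * (x * y * y) * ⁅y, x⁆ := by rw [hc]
    _ = x * x * (y * y) * ⁅x, y⁆ := by rw [h.comm_swap hne x y]; group

/-- The centre is the fixed four group. -/
theorem center_fix (hne : ¬ ∀ a b : T, a * b = b * a) :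
    ∀ z ∈ Subgroup.center T, S z = z := by
  by_contra hc
  push Not at hc
  obtain ⟨z0, hz0, hz0S⟩ := hc
  have A := h.center_adata
  have hΩ := h.center_invol hne
  have inv_in : ∀ (I : Subgroup (Subgroup.center T)), (∀ x ∈ I, h.ZR x ∈ I) → ∀ w ∈ I, w ≠ 1 →
      h.ZS.eqLocus (MonoidHom.id _) ≤ I := by
    intro I hI w hw hw1
    obtain ⟨k, hk⟩ := A.pgroup w
    obtain ⟨j, hj, hj'⟩ : ∃ j, w ^ 2 ^ j ≠ 1 ∧ w ^ 2 ^ (j + 1) = 1 := by
      by_contra hn'
      push Not at hn'
      have : ∀ j, w ^ 2 ^ j ≠ 1 := fun j => by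
        induction j with
        | zero => simpa using hw1
        | succ j ih => exact hn' j ih
      exact this k hk
    refine A.fix_le I hI (pow_mem hw _) (Subtype.ext (hΩ _ (w ^ 2 ^ j).2 ?_)) hj
    exact congrArg Subtype.val (show w ^ 2 ^ j * w ^ 2 ^ j = 1 by
      rw [← pow_add, ← two_mul, ← pow_succ', hj'])
  let Sq : Subgroup (Subgroup.center T) := (powMonoidHom 2 : _ →* Subgroup.center T).range
  have hSq : h.ZS.eqLocus (MonoidHom.id _) ≤ Sq := by
    refine inv_in Sq (by rintro _ ⟨y, rfl⟩; exact ⟨h.ZR y, by simp⟩) (⟨z0, hz0⟩ ^ 2)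
      ⟨⟨z0, hz0⟩, rfl⟩ fun e => hz0S (hΩ z0 hz0 ?_)
    rw [← pow_two]
    exact congrArg Subtype.val e
  have hψ : h.ZS.eqLocus (MonoidHom.id _) ≤ (h.ZS / MonoidHom.id _).range := by
    refine inv_in _ ?_ _ ⟨⟨z0, hz0⟩, rfl⟩ fun e => hz0S ?_
    · rintro _ ⟨y, rfl⟩
      refine ⟨h.ZR y, ?_⟩
      show h.ZS (h.ZR y) / h.ZR y = h.ZR (h.ZS y / y)
      rw [map_div, A.SR]
    · exact congrArg Subtype.val (div_eq_one.1 e)
  -- squares modulo squares of the centre
  have hcV : ∀ x y : T, ∃ hm : ⁅x, y⁆ ∈ Subgroup.center T, (⟨_, hm⟩ : Subgroup.center T) ∈ Sq :=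
    fun x y => ⟨h.comm_mem_center x y,
      hSq (Subtype.ext (hΩ _ (h.comm_mem_center x y) (h.comm_sq hne x y)))⟩
  let q : T →* Subgroup.center T ⧸ Sq :=
    MonoidHom.mk' (fun x => QuotientGroup.mk ⟨x * x, (h.quot_shape hne).1 x⟩) fun x y => by
      obtain ⟨hm, hmem⟩ := hcV x y
      rw [← QuotientGroup.mk_mul, eq_comm, QuotientGroup.eq]
      convert hmem using 1
      apply Subtype.ext
      show (x * x * (y * y))⁻¹ * (x * y * (x * y)) = ⁅x, y⁆
      rw [h.sq_mul hne, inv_mul_cancel_left]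
  have hq4 : Nat.card (Subgroup.center T ⧸ Sq) = 4 := by
    have hk : (powMonoidHom 2 : _ →* Subgroup.center T).ker = h.ZS.eqLocus (MonoidHom.id _) := by
      ext z
      show z ^ 2 = 1 ↔ h.ZS z = z
      refine ⟨fun e => Subtype.ext (hΩ _ z.2 ?_), fun e => by rw [pow_two]; exact A.fixSq z e⟩
      rw [← pow_two]; exact congrArg Subtype.val e
    have h1 := Subgroup.card_eq_card_quotient_mul_card_subgroup
      (powMonoidHom 2 : _ →* Subgroup.center T).ker
    rw [Nat.card_congr (QuotientGroup.quotientKerEquivRange _).toEquiv, hk, A.fixCard] at h1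
    have h2 := Subgroup.card_eq_card_quotient_mul_card_subgroup Sq
    rw [h1, mul_comm] at h2
    exact (Nat.eq_of_mul_eq_mul_right Nat.card_pos h2).symm
  obtain ⟨y, hy, hyZ⟩ : ∃ y ∈ q.ker, y ∉ Subgroup.center T := by
    by_contra hn
    push Not at hn
    have h1 : Nat.card q.ker ≤ Nat.card (Subgroup.center T) := Subgroup.card_le_of_le hn
    have h2 := Subgroup.card_eq_card_quotient_mul_card_subgroup q.ker
    have h3 : Nat.card (T ⧸ q.ker) ≤ 4 := by
      rw [Nat.card_congr (QuotientGroup.quotientKerEquivRange q).toEquiv, ← hq4]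
      exact Subgroup.card_le_card_group _
    have h4 := Subgroup.card_eq_card_quotient_mul_card_subgroup (Subgroup.center T)
    rw [(h.quot_shape hne).2] at h4
    have h5 := Nat.mul_le_mul h3 h1
    have hpos : 0 < Nat.card (Subgroup.center T) := Nat.card_pos
    omega
  have hker : ∀ x, x ∈ q.ker ↔ ∃ w : T, w ∈ Subgroup.center T ∧ w * w = x * x := by
    intro x
    rw [MonoidHom.mem_ker]
    show QuotientGroup.mk _ = 1 ↔ _
    rw [QuotientGroup.eq_one_iff]
    constructor
    · rintro ⟨w, hw⟩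
      exact ⟨w, w.2, by rw [← pow_two]; exact congrArg Subtype.val hw⟩
    · rintro ⟨w, hw, he⟩
      exact ⟨⟨w, hw⟩, Subtype.ext (by show w ^ 2 = _; rw [pow_two, he])⟩
  have hSker : ∀ x ∈ q.ker, S x ∈ q.ker := fun x hx => by
    obtain ⟨w, hw, he⟩ := (hker x).1 hx
    exact (hker _).2 ⟨S w, h.S_center hw, by rw [← map_mul, ← map_mul, he]⟩
  obtain ⟨x, hx, hxZ, hxf⟩ : ∃ x ∈ q.ker, x ∉ Subgroup.center T ∧
      x⁻¹ * S x ∈ Subgroup.center T := by
    by_cases hm : y * S y ∈ Subgroup.center T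
    · refine ⟨y, hy, hyZ, ?_⟩
      have := mul_mem (inv_mem ((h.quot_shape hne).1 y)) hm
      rwa [show (y * y)⁻¹ * (y * S y) = y⁻¹ * S y by group] at this
    · refine ⟨y * S y, mul_mem hy (hSker y hy), hm, ?_⟩
      rw [map_mul, h.SS]
      exact QuotientGroup.eq.1 (h.quot_comm y (S y))
  obtain ⟨w, hw, hwx⟩ := (hker x).1 hx
  have hwc := Subgroup.mem_center_iff.1 (inv_mem hw)
  set x' := x * w⁻¹ with hx'
  have hx'2 : x' * x' = 1 := by
    calc x' * x' = x * (w⁻¹ * x) * w⁻¹ := by rw [hx']; group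
      _ = x * (x * w⁻¹) * w⁻¹ := by rw [← hwc x]
      _ = (x * x) * (w * w)⁻¹ := by group
      _ = 1 := by rw [hwx, mul_inv_cancel]
  set z := x'⁻¹ * S x' with hz
  have hzc : z ∈ Subgroup.center T := by
    rw [hz, hx', map_mul, map_inv, show (x * w⁻¹)⁻¹ * (S x * (S w)⁻¹) =
      w * (x⁻¹ * S x) * (S w)⁻¹ by group]
    exact mul_mem (mul_mem hw hxf) (inv_mem (h.S_center hw))
  have hSx' : S x' = x' * z := by rw [hz]; group
  have hz2 : z * z = 1 := by
    have := congrArg S hx'2
    rw [map_mul, map_one, hSx', show x' * z * (x' * z) = x' * (z * x') * z by group,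
      ← Subgroup.mem_center_iff.1 hzc, show x' * (x' * z) * z = x' * x' * (z * z) by group,
      hx'2, one_mul] at this
    exact this
  obtain ⟨e, he⟩ := hψ (show (⟨z, hzc⟩ : Subgroup.center T) ∈ h.ZS.eqLocus (MonoidHom.id _) from
    Subtype.ext (hΩ z hzc hz2))
  have he' : S (e : T) / (e : T) = z := congrArg Subtype.val he
  have hfix : S (x' * (e : T)⁻¹) = x' * (e : T)⁻¹ := by
    rw [map_mul, map_inv, hSx', ← he', mul_assoc]
    congr 1
    have hce := Subgroup.mem_center_iff.1 (h.S_center e.2)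
    rw [div_eq_mul_inv, ← hce, mul_assoc, mul_inv_cancel, mul_one]
  refine hxZ ?_
  have h1 := mul_mem (mul_mem (h.vcen _ hfix) e.2) hw
  rwa [inv_mul_cancel_right, hx', inv_mul_cancel_right] at h1

theorem center_four (hne : ¬ ∀ a b : T, a * b = b * a) {c : T} (hc : c ∈ Subgroup.center T)
    (hc1 : c ≠ 1) {z : T} (hz : z ∈ Subgroup.center T) :
    z = 1 ∨ z = c ∨ z = R c ∨ z = c * R c := by
  have := (h.center_adata.mem_fix_iff (u := ⟨c, hc⟩) (Subtype.ext (h.center_fix hne c hc))
    (fun e => hc1 (congrArg Subtype.val e)) (x := ⟨z, hz⟩)).1 (Subtype.ext (h.center_fix hne z hz))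
  rcases this with e | e | e | e
  · exact Or.inl (congrArg Subtype.val e)
  · exact Or.inr (Or.inl (congrArg Subtype.val e))
  · exact Or.inr (Or.inr (Or.inl (congrArg Subtype.val e)))
  · exact Or.inr (Or.inr (Or.inr (congrArg Subtype.val e)))

theorem center_sq (hne : ¬ ∀ a b : T, a * b = b * a) {z : T} (hz : z ∈ Subgroup.center T) :
    z * z = 1 := h.vsq z (h.center_fix hne z hz)

theorem card_eq (hne : ¬ ∀ a b : T, a * b = b * a) : Nat.card T = 64 := by
  have : Subgroup.center T = S.eqLocus (MonoidHom.id T) :=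
    le_antisymm (fun z hz => h.center_fix hne z hz) fun z hz => h.vcen z hz
  rw [Subgroup.card_eq_card_quotient_mul_card_subgroup (Subgroup.center T), (h.quot_shape hne).2,
    this, h.vcard]

theorem span (hq : Nat.card (T ⧸ Subgroup.center T) = 16) (hsq : ∀ x : T, x * x ∈ Subgroup.center T)
    {a b : T} (ha : a ∉ Subgroup.center T) (hb : Indep R a b) (x : T) :
    ∃ u ∈ ({1, a, R a, a * R a} : Set T), ∃ v ∈ ({1, b, R b, b * R b} : Set T),
      ∃ z ∈ Subgroup.center T, x = u * v * z := by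
  have hinv : ∀ w : T ⧸ Subgroup.center T, w * w = 1 := fun w => by
    induction w using QuotientGroup.induction_on with
    | H w => exact (QuotientGroup.eq_one_iff _).2 (hsq w)
  have hcm := h.quot_comm
  letI : CommGroup (T ⧸ Subgroup.center T) :=
    { (inferInstance : Group (T ⧸ Subgroup.center T)) with mul_comm := hcm }
  let m : T → T ⧸ Subgroup.center T := fun w => QuotientGroup.mk w
  have hRm : ∀ w, h.AR (m w) = m (R w) := fun _ => rfl
  have hRRR : ∀ q, h.AR (h.AR (h.AR q)) = q := fun q => by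
    induction q using QuotientGroup.induction_on with
    | H w => exact congrArg m (h.RRR w)
  have four : ∀ c : T, ∃ H : Subgroup (T ⧸ Subgroup.center T),
      (H : Set (T ⧸ Subgroup.center T)) = m '' {1, c, R c, c * R c} := by
    intro c
    have key : ∀ A B : T ⧸ Subgroup.center T, A * (A * B) = B := fun A B => by
      rw [← mul_assoc, hinv, one_mul]
    refine ⟨{ carrier := m '' {1, c, R c, c * R c}
              one_mem' := ⟨1, Or.inl rfl, rfl⟩
              mul_mem' := ?_
              inv_mem' := ?_ }, rfl⟩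
    · simp only [Set.image_insert_eq, Set.image_singleton]
      rintro A B (rfl | rfl | rfl | rfl) (rfl | rfl | rfl | rfl) <;>
        simp [m, QuotientGroup.mk_mul, hinv, key, mul_comm, mul_left_comm]
    · rintro A hA
      rwa [inv_eq_of_mul_eq_one_right (hinv A)]
  obtain ⟨U, hU⟩ := four a
  obtain ⟨W, hW⟩ := four b
  have hbU : m b ∉ U := by
    intro hm
    rw [← SetLike.mem_coe, hU] at hm
    obtain ⟨u, hu, he⟩ := hm
    refine hb u hu ((QuotientGroup.eq_one_iff _).1 ?_)
    show m (u * b) = 1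
    rw [show m (u * b) = m u * m b from rfl, he, hinv]
  have hUR : ∀ w ∈ U, h.AR w ∈ U := by
    intro w hw
    rw [← SetLike.mem_coe, hU] at hw ⊢
    obtain ⟨u, hu, rfl⟩ := hw
    rcases hu with rfl | rfl | rfl | rfl
    · exact ⟨1, Or.inl rfl, by simp [hRm]⟩
    · exact ⟨R u, Or.inr (Or.inr (Or.inl rfl)), rfl⟩
    · refine ⟨a * R a, Or.inr (Or.inr (Or.inr rfl)), ?_⟩
      rw [hRm, eq_comm, ← mul_one (m (R (R a))), ← hinv (m (a * R a)), ← mul_assoc, eq_comm]
      have := congrArg m (h.norm a)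
      rw [show m (a * R a * R (R a)) = m (a * R a) * m (R (R a)) from rfl, mul_comm] at this
      rw [this, show m 1 = 1 from rfl, one_mul]
    · refine ⟨a, Or.inr (Or.inl rfl), ?_⟩
      rw [hRm, map_mul, show m (R a * R (R a)) = m (R a) * m (R (R a)) from rfl]
      have := congrArg m (h.norm a)
      rw [show m (a * R a * R (R a)) = m a * m (R a) * m (R (R a)) from rfl, mul_assoc] at this
      exact (eq_inv_of_mul_eq_one_right this).symm ▸ (inv_eq_of_mul_eq_one_right (hinv (m a))).symm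
  have hdisj : Disjoint U W := by
    rw [Subgroup.disjoint_def]
    intro w hwU hwW
    rw [← SetLike.mem_coe, hW] at hwW
    obtain ⟨v, hv, rfl⟩ := hwW
    rcases hv with rfl | rfl | rfl | rfl
    · rfl
    · exact absurd hwU hbU
    · refine absurd ?_ hbU
      have := hUR _ (hUR _ hwU)
      rw [← hRm, hRRR] at this
      exact this
    · refine absurd ?_ hbU
      have h1 := hUR _ hwU
      have h2 : h.AR (m (b * R b)) = m b := by
        rw [hRm, map_mul, show m (R b * R (R b)) = m (R b) * m (R (R b)) from rfl]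
        have := congrArg m (h.norm b)
        rw [show m (b * R b * R (R b)) = m b * m (R b) * m (R (R b)) from rfl, mul_assoc] at this
        exact (eq_inv_of_mul_eq_one_right this).trans (inv_eq_of_mul_eq_one_right (hinv (m b)))
      rwa [h2] at h1
  have hcard : ∀ c : T, c ∉ Subgroup.center T → ∀ H : Subgroup (T ⧸ Subgroup.center T),
      (H : Set _) = m '' {1, c, R c, c * R c} → Nat.card H = 4 := by
    intro c hc H hH
    have hmc : m c ≠ 1 := fun e => hc ((QuotientGroup.eq_one_iff _).1 e)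
    have n1 : m (R c) ≠ 1 := fun e => hmc (by
      rw [← hRRR (m c), hRm, e, map_one, map_one])
    have n2 : m (R c) ≠ m c := fun e => hmc (h.AR_fpf ((hRm c).trans e))
    have n3 : m c * m (R c) ≠ 1 := fun e => n2 (by
      rw [eq_inv_of_mul_eq_one_right e, inv_eq_of_mul_eq_one_right (hinv (m c))])
    have n4 : m c * m (R c) ≠ m c := fun e => n1 (mul_eq_left.1 e)
    have n5 : m c * m (R c) ≠ m (R c) := fun e => hmc (mul_eq_right.1 e)
    show Nat.card (H : Set (T ⧸ Subgroup.center T)) = 4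
    rw [hH, Nat.card_coe_set_eq, Set.image_insert_eq, Set.image_insert_eq, Set.image_insert_eq,
      Set.image_singleton, show m (c * R c) = m c * m (R c) from rfl, show m 1 = 1 from rfl,
      Set.ncard_insert_of_notMem (by simp [Ne.symm hmc, Ne.symm n1, Ne.symm n3]),
      Set.ncard_insert_of_notMem (by simp [Ne.symm n2, Ne.symm n4]),
      Set.ncard_pair (Ne.symm n5)]
  have hbc : b ∉ Subgroup.center T := by simpa using hb 1 (Or.inl rfl)
  have hinj := Subgroup.mul_injective_of_disjoint hdisj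
  have hbij : Function.Bijective fun g : U × W => (g.1 : T ⧸ Subgroup.center T) * g.2 :=
    hinj.bijective_of_nat_card_le (by rw [hq, Nat.card_prod, hcard a ha U hU, hcard b hbc W hW])
  obtain ⟨⟨⟨A, hA⟩, ⟨B, hB⟩⟩, hAB⟩ := hbij.2 (m x)
  rw [← SetLike.mem_coe, hU] at hA
  rw [← SetLike.mem_coe, hW] at hB
  obtain ⟨u, hu, rfl⟩ := hA
  obtain ⟨v, hv, rfl⟩ := hB
  exact ⟨u, hu, v, hv, _, QuotientGroup.eq.1 hAB, (mul_inv_cancel_left _ _).symm⟩

theorem exists_indep (hne : ¬ ∀ a b : T, a * b = b * a) (a : T) : ∃ b, Indep R a b := by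
  by_contra hc
  unfold Indep at hc
  push Not at hc
  have hsurj : Function.Surjective fun u : ({1, a, R a, a * R a} : Set T) =>
      ((u : T) : T ⧸ Subgroup.center T) := by
    intro q
    obtain ⟨b, rfl⟩ := QuotientGroup.mk_surjective q
    obtain ⟨u, hu, hub⟩ := hc b
    refine ⟨⟨u, hu⟩, ?_⟩
    show (u : T ⧸ Subgroup.center T) = b
    have h1 : ((u * b : T) : T ⧸ Subgroup.center T) = 1 := (QuotientGroup.eq_one_iff _).2 hub
    have h2 : ((b * b : T) : T ⧸ Subgroup.center T) = 1 :=
      (QuotientGroup.eq_one_iff _).2 ((h.quot_shape hne).1 b)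
    rw [QuotientGroup.mk_mul] at h1 h2
    exact mul_right_cancel (h1.trans h2.symm)
  have h1 := Nat.card_le_card_of_surjective _ hsurj
  rw [(h.quot_shape hne).2, Nat.card_coe_set_eq] at h1
  have h2 : ({1, a, R a, a * R a} : Set T).ncard ≤ 4 := by
    refine (Set.ncard_insert_le _ _).trans (Nat.succ_le_succ ?_)
    refine (Set.ncard_insert_le _ _).trans (Nat.succ_le_succ ?_)
    refine (Set.ncard_insert_le _ _).trans (Nat.succ_le_succ ?_)
    rw [Set.ncard_singleton]
  omega

/-- Commutator table of a pair. -/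
theorem table (hne : ¬ ∀ a b : T, a * b = b * a) {a b : T} (ha : a ∉ Subgroup.center T)
    (hb : Indep R a b) :
    ⁅a, b⁆ ≠ 1 ∧ ⁅a, R b⁆ = ⁅a, b⁆ * R ⁅a, b⁆ ∧ ⁅R a, b⁆ = ⁅a, b⁆ * R ⁅a, b⁆ ∧
      R (R ⁅a, b⁆) = ⁅a, b⁆ * R ⁅a, b⁆ := by
  set c := ⁅a, b⁆ with hcdef
  have ec : ∀ z, z ∈ Subgroup.center T → z⁻¹ = z := fun z hz =>
    inv_eq_of_mul_eq_one_right (h.center_sq hne hz)
  have hcZ := h.comm_mem_center a b
  have hRR : R (R c) = c * R c := by
    rw [eq_inv_of_mul_eq_one_right (h.norm c), ec _ (mul_mem hcZ (h.R_center hcZ))]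
  have e0 : ∀ x : T, ⁅x, R x⁆ = 1 := fun x =>
    commutatorElement_eq_one_iff_mul_comm.2 (h.eng x).eq
  have e1 : ⁅a, R b⁆ * ⁅b, R a⁆ = 1 := by
    have := e0 (a * b)
    rwa [map_mul, h.comm_mul_left', h.comm_mul_right' hne, h.comm_mul_right' hne, e0 a, one_mul,
      e0 b, mul_one] at this
  have e2 : ⁅R a, b⁆ = ⁅a, R b⁆ := by
    rw [h.comm_swap hne b (R a), eq_inv_of_mul_eq_one_right e1, ec _ (h.comm_mem_center _ _)]
  set c' := ⁅a, R b⁆ with hc'
  have hc'Z := h.comm_mem_center a (R b)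
  have e3 : R c' = c' * R c := by
    have h1 : R c' = ⁅R a, R (R b)⁆ := map_commutatorElement R a (R b)
    have h2 : R (R b) = (b * R b)⁻¹ := eq_inv_of_mul_eq_one_right (h.norm b)
    have h3 : ⁅R a, (b * R b)⁻¹⁆ = ⁅R a, b * R b⁆ := by
      have := h.comm_mul_right' hne (R a) (b * R b) (b * R b)⁻¹
      rw [mul_inv_cancel, commutatorElement_one_right] at this
      rw [eq_inv_of_mul_eq_one_right this.symm, ec _ (h.comm_mem_center _ _)]
    rw [h1, h2, h3, h.comm_mul_right' hne, e2]
    congr 1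
    exact (map_commutatorElement R a b).symm
  have e4 : c' = c * R c := by
    have h1 := h.norm c'
    rw [e3, ← mul_assoc, h.center_sq hne hc'Z, one_mul, map_mul, e3] at h1
    rw [← hRR]
    have h4 : R c * c' * R c * R (R c) = 1 := by rwa [mul_assoc (R c * c'), mul_assoc (R c), ← mul_assoc c']
    have hcc : R c * c' * R c = c' := by
      rw [mul_assoc, Subgroup.mem_center_iff.1 (h.R_center hcZ) c', ← mul_assoc,
        h.center_sq hne (h.R_center hcZ), one_mul]
    rw [hcc] at h4
    rw [eq_inv_of_mul_eq_one_left h4, ec _ (h.R_center (h.R_center hcZ))]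
  refine ⟨fun hc1 => ha ?_, e4, e2.trans e4, hRR⟩
  rw [Subgroup.mem_center_iff]
  intro x
  have hc'1 : ⁅a, R b⁆ = 1 := by rw [← hc', e4, hc1, map_one, one_mul]
  have hb1 : Commute a b := commutatorElement_eq_one_iff_mul_comm.1 hc1
  have hb2 : Commute a (R b) := commutatorElement_eq_one_iff_mul_comm.1 hc'1
  obtain ⟨u, hu, v, hv, z, hz, rfl⟩ := h.span (h.quot_shape hne).2 (h.quot_shape hne).1 ha hb x
  have hu' : Commute a u := by
    rcases hu with rfl | rfl | rfl | rfl
    exacts [Commute.one_right a, Commute.refl u, h.eng a, (Commute.refl a).mul_right (h.eng a)]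
  have hv' : Commute a v := by
    rcases hv with rfl | rfl | rfl | rfl
    exacts [Commute.one_right a, hb1, hb2, hb1.mul_right hb2]
  exact ((hu'.mul_right hv').mul_right (Subgroup.mem_center_iff.1 hz a)).symm.eq

/-- A normalised pair gives the relations. -/
theorem rels_of_pair (hne : ¬ ∀ a b : T, a * b = b * a) {a b : T} {ε : Bool}
    (ha : a ∉ Subgroup.center T) (hb : Indep R a b)
    (haa : a * a = if ε then ⁅a, b⁆ else 1) (hbb : b * b = if ε then R ⁅a, b⁆ else 1) :
    ∃ (x : Fin 4 → T) (c d : T), Sixty.Rels ε x c d ∧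
      Subgroup.closure (Sixty.gens x c d) = ⊤ ∧
      ∀ z ∈ Subgroup.center T, z = 1 ∨ z = c ∨ z = d ∨ z = c * d := by
  obtain ⟨hc1, h03, h12, hRR⟩ := h.table hne ha hb
  set c := ⁅a, b⁆ with hc
  have hcZ := h.comm_mem_center a b
  have hdZ := h.R_center hcZ
  have key : ∀ x y : T, x * y = ⁅x, y⁆ * (y * x) := fun x y => by
    simp [commutatorElement_def, mul_assoc]
  have hfour := fun z hz => h.center_four hne hcZ hc1 (z := z) hz
  refine ⟨![a, R a, b, R b], c, R c, ⟨h.center_sq hne hcZ, h.center_sq hne hdZ,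
    Subgroup.mem_center_iff.1 hdZ c, fun i => (Subgroup.mem_center_iff.1 hcZ _).symm,
    fun i => (Subgroup.mem_center_iff.1 hdZ _).symm, ?_, ?_, ?_, ?_, ?_, ?_, ?_, ?_, ?_, ?_⟩, ?_,
    hfour⟩
  · exact haa
  · show R a * R a = _
    rw [← map_mul, haa]
    cases ε <;> simp
  · exact hbb
  · show R b * R b = _
    rw [← map_mul, hbb]
    cases ε <;> simp [hRR]
  · exact (h.eng a).eq
  · exact (h.eng b).eq
  · exact key a b
  · show R a * R b = R c * (R b * R a)
    rw [← map_mul, key a b, map_mul, map_mul, ← hc]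
  · show a * R b = c * R c * (R b * a)
    rw [← h03]; exact key a (R b)
  · show R a * b = c * R c * (b * R a)
    rw [← h12]; exact key (R a) b
  · rw [eq_top_iff]
    intro x _
    obtain ⟨u, hu, v, hv, z, hz, rfl⟩ := h.span (h.quot_shape hne).2 (h.quot_shape hne).1 ha hb x
    set K := Subgroup.closure (Sixty.gens ![a, R a, b, R b] c (R c))
    have m : ∀ i, ![a, R a, b, R b] i ∈ K := fun i => Subgroup.subset_closure (Or.inl ⟨i, rfl⟩)
    have mc : c ∈ K := Subgroup.subset_closure (Or.inr (Or.inl rfl))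
    have md : R c ∈ K := Subgroup.subset_closure (Or.inr (Or.inr rfl))
    have hu' : u ∈ K := by
      rcases hu with rfl | rfl | rfl | rfl
      exacts [one_mem K, m 0, m 1, mul_mem (m 0) (m 1)]
    have hv' : v ∈ K := by
      rcases hv with rfl | rfl | rfl | rfl
      exacts [one_mem K, m 2, m 3, mul_mem (m 2) (m 3)]
    have hz' : z ∈ K := by
      rcases hfour z hz with rfl | rfl | rfl | rfl
      exacts [one_mem K, mc, md, mul_mem mc md]
    exact mul_mem (mul_mem hu' hv') hz'

theorem indep_R (hne : ¬ ∀ a b : T, a * b = b * a) {a b : T} (hb : Indep R a b) :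
    Indep R a (R b) := by
  intro u hu hub
  have hRRR := h.RRR
  have h2 := h.R_center (h.R_center hub)
  rw [map_mul, map_mul, hRRR] at h2
  have hinv : ∀ g, ((g : T) : T ⧸ Subgroup.center T) * g = 1 := fun g =>
    (QuotientGroup.eq_one_iff (g * g)).2 ((h.quot_shape hne).1 g)
  obtain ⟨u', hu', he⟩ : ∃ u' ∈ ({1, a, R a, a * R a} : Set T),
      ((u' : T) : T ⧸ Subgroup.center T) = (R (R u) : T) := by
    have hn : (((a * R a : T) : T ⧸ Subgroup.center T)) = (R (R a) : T) := by
      have := congrArg (fun g : T => (g : T ⧸ Subgroup.center T)) (h.norm a)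
      simp only [QuotientGroup.mk_mul, QuotientGroup.mk_one] at this ⊢
      exact (eq_inv_of_mul_eq_one_left this).trans
        (inv_eq_of_mul_eq_one_right (hinv (R (R a))))
    rcases hu with rfl | rfl | rfl | rfl
    · exact ⟨1, Or.inl rfl, by simp⟩
    · exact ⟨_, Or.inr (Or.inr (Or.inr rfl)), hn⟩
    · exact ⟨a, Or.inr (Or.inl rfl), by rw [hRRR]⟩
    · refine ⟨R a, Or.inr (Or.inr (Or.inl rfl)), ?_⟩
      rw [map_mul, map_mul, hRRR, QuotientGroup.mk_mul, ← hn, QuotientGroup.mk_mul,
        h.quot_comm, ← mul_assoc, hinv, one_mul]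
  refine hb u' hu' ((QuotientGroup.eq_one_iff _).1 ?_)
  rw [QuotientGroup.mk_mul, he, ← QuotientGroup.mk_mul]
  exact (QuotientGroup.eq_one_iff _).2 h2

/-- Some pair is normalised, possibly after inverting `R`. -/
theorem nonabelian_case (hne : ¬ ∀ a b : T, a * b = b * a) :
    ∃ (ε : Bool) (x : Fin 4 → T) (c d : T), Sixty.Rels ε x c d ∧
      Subgroup.closure (Sixty.gens x c d) = ⊤ ∧
      ∀ z ∈ Subgroup.center T, z = 1 ∨ z = c ∨ z = d ∨ z = c * d := by
  have cs := fun {z : T} (hz : z ∈ Subgroup.center T) => h.center_sq hne hz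
  have hq := h.quot_shape hne
  by_cases hinv : ∃ a, a ∉ Subgroup.center T ∧ a * a = 1
  · obtain ⟨a, ha, haa⟩ := hinv
    obtain ⟨b, hb⟩ := h.exists_indep hne a
    obtain ⟨hc1, h03, h12, hRR⟩ := h.table hne ha hb
    set c := ⁅a, b⁆ with hc
    have hcZ := h.comm_mem_center a b
    have hRaa : R a * R a = 1 := by rw [← map_mul, haa, map_one]
    have fin : ∀ u, u ∈ ({1, a, R a, a * R a} : Set T) → u * u = 1 → ⁅a, u⁆ = 1 →
        b * b * ⁅b, u⁆ = 1 → (∀ w ∈ ({1, a, R a, a * R a} : Set T), w * (b * u) ∉ Subgroup.center T) →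
        ∃ (ε : Bool) (x : Fin 4 → T) (c d : T), Sixty.Rels ε x c d ∧
          Subgroup.closure (Sixty.gens x c d) = ⊤ ∧
          ∀ z ∈ Subgroup.center T, z = 1 ∨ z = c ∨ z = d ∨ z = c * d := by
      intro u _ hu2 _ hbu hind
      have h2 : b * u * (b * u) = 1 := by rw [h.sq_mul hne, hu2, mul_one, hbu]
      exact ⟨false, h.rels_of_pair hne ha hind (by simpa using haa) (by simpa using h2)⟩
    have ind : ∀ u ∈ ({1, a, R a, a * R a} : Set T), ∀ w ∈ ({1, a, R a, a * R a} : Set T),
        w * (b * u) ∉ Subgroup.center T := by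
      intro u hu w hw hm
      have hval : ∀ g : T, g ∈ ({1, a, R a, a * R a} : Set T) → g * g ∈ Subgroup.center T :=
        fun g _ => hq.1 g
      have hsw : ((w * (b * u) : T) : T ⧸ Subgroup.center T) = ((w * u * b : T) : T ⧸ Subgroup.center T) := by
        simp only [QuotientGroup.mk_mul, mul_assoc]
        rw [h.quot_comm (b : T ⧸ Subgroup.center T) (u : T ⧸ Subgroup.center T)]
      have hm' : w * u * b ∈ Subgroup.center T := by
        rw [← QuotientGroup.eq_one_iff] at hm ⊢
        rw [← hsw]; exact hm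
      have hcomm : R a * a = a * R a := (h.eng a).eq.symm
      have e1 : a * (a * R a) = R a := by rw [← mul_assoc, haa, one_mul]
      have e2 : R a * (a * R a) = a := by rw [← mul_assoc, hcomm, mul_assoc, hRaa, mul_one]
      have e3 : a * R a * a = R a := by rw [mul_assoc, hcomm, e1]
      have e4 : a * R a * R a = a := by rw [mul_assoc, hRaa, mul_one]
      have e5 : a * R a * (a * R a) = 1 := by rw [← mul_assoc, e3, hRaa]
      have hwu : w * u ∈ ({1, a, R a, a * R a} : Set T) := by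
        rcases hw with rfl | rfl | rfl | rfl <;> rcases hu with rfl | rfl | rfl | rfl <;>
          simp [haa, hRaa, hcomm, e1, e2, e3, e4, e5]
      exact hb _ hwu hm'
    rcases h.center_four hne hcZ hc1 (hq.1 b) with e | e | e | e
    · exact fin 1 (Or.inl rfl) (one_mul 1) (commutatorElement_one_right a) (by simp [e]) (ind 1 (Or.inl rfl))
    · refine fin a (Or.inr (Or.inl rfl)) haa (commutatorElement_self a) ?_ (ind a (Or.inr (Or.inl rfl)))
      rw [e, h.comm_swap hne a b, ← hc, cs hcZ]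
    · have hu2 : a * R a * (a * R a) = 1 := by
        rw [h.sq_mul hne, haa, hRaa, commutatorElement_eq_one_iff_mul_comm.2 (h.eng a).eq]; simp
      refine fin (a * R a) (Or.inr (Or.inr (Or.inr rfl))) hu2 ?_ ?_ (ind _ (Or.inr (Or.inr (Or.inr rfl))))
      · rw [h.comm_mul_right' hne, commutatorElement_self, commutatorElement_eq_one_iff_mul_comm.2 (h.eng a).eq, one_mul]
      · rw [e, h.comm_mul_right' hne, h.comm_swap hne a b, h.comm_swap hne (R a) b, h12, ← hc,
          ← mul_assoc c c, cs hcZ, one_mul, cs (h.R_center hcZ)]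
    · refine fin (R a) (Or.inr (Or.inr (Or.inl rfl))) hRaa
        (commutatorElement_eq_one_iff_mul_comm.2 (h.eng a).eq) ?_ (ind _ (Or.inr (Or.inr (Or.inl rfl))))
      rw [e, h.comm_swap hne (R a) b, h12, cs (mul_mem hcZ (h.R_center hcZ))]
  push Not at hinv
  obtain ⟨a, ha⟩ : ∃ a, a ∉ Subgroup.center T := by
    by_contra hc
    push Not at hc
    exact hne fun x y => (Subgroup.mem_center_iff.1 (hc x) y).symm
  obtain ⟨b0, hb0⟩ := h.exists_indep hne a
  obtain ⟨b, hb, haa⟩ : ∃ b, Indep R a b ∧ a * a = ⁅a, b⁆ := by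
    obtain ⟨hc1, h03, -, hRR⟩ := h.table hne ha hb0
    rcases h.center_four hne (h.comm_mem_center a b0) hc1 (hq.1 a) with e | e | e | e
    · exact absurd e (hinv a ha)
    · exact ⟨b0, hb0, e⟩
    · refine ⟨R (R b0), h.indep_R hne (h.indep_R hne hb0), ?_⟩
      rw [e, eq_inv_of_mul_eq_one_right (h.norm b0)]
      have hh := h.comm_mul_right' hne a (b0 * R b0) (b0 * R b0)⁻¹
      rw [mul_inv_cancel, commutatorElement_one_right] at hh
      rw [eq_inv_of_mul_eq_one_right hh.symm,
        inv_eq_of_mul_eq_one_right (cs (h.comm_mem_center _ _)), h.comm_mul_right' hne, h03,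
        ← mul_assoc, cs (h.comm_mem_center a b0), one_mul]
    · exact ⟨R b0, h.indep_R hne hb0, e.trans h03.symm⟩
  obtain ⟨hc1, h03, h12, hRR⟩ := h.table hne ha hb
  set c := ⁅a, b⁆ with hc
  have hcZ := h.comm_mem_center a b
  rcases h.center_four hne hcZ hc1 (hq.1 b) with e | e | e | e
  · exact absurd e (hinv b (by simpa using hb 1 (Or.inl rfl)))
  · exfalso
    have hm : b * R a ∉ Subgroup.center T := fun hm => hb (R a) (Or.inr (Or.inr (Or.inl rfl))) (by
      rw [← QuotientGroup.eq_one_iff] at hm ⊢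
      rw [QuotientGroup.mk_mul] at hm ⊢
      rw [h.quot_comm]; exact hm)
    refine hinv _ hm ?_
    rw [h.sq_mul hne, e, ← map_mul, haa, h.comm_swap hne (R a) b, h12]
    exact cs (mul_mem hcZ (h.R_center hcZ))
  · exact ⟨true, h.rels_of_pair hne ha hb (by simpa using haa) (by simpa using e)⟩
  · refine ⟨true, h.symm.rels_of_pair hne ha ?_ (by simpa using haa)
      (by rw [if_pos rfl, MonoidHom.comp_apply, ← hc, hRR]; exact e)⟩
    -- independence with respect to the inverse automorphism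
    intro u hu hub
    have hinv' : ∀ g, ((g : T) : T ⧸ Subgroup.center T) * g = 1 := fun g =>
      (QuotientGroup.eq_one_iff (g * g)).2 (hq.1 g)
    have hn : ((R (R a) : T) : T ⧸ Subgroup.center T) = ((a * R a : T) : T ⧸ Subgroup.center T) := by
      have := congrArg (fun g : T => (g : T ⧸ Subgroup.center T)) (h.norm a)
      simp only [QuotientGroup.mk_mul, QuotientGroup.mk_one] at this ⊢
      exact ((eq_inv_of_mul_eq_one_left this).trans
        (inv_eq_of_mul_eq_one_right (hinv' (R (R a))))).symm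
    obtain ⟨u', hu', he⟩ : ∃ u' ∈ ({1, a, R a, a * R a} : Set T),
        ((u' : T) : T ⧸ Subgroup.center T) = u := by
      rcases hu with rfl | rfl | rfl | rfl
      · exact ⟨1, Or.inl rfl, rfl⟩
      · exact ⟨u, Or.inr (Or.inl rfl), rfl⟩
      · exact ⟨_, Or.inr (Or.inr (Or.inr rfl)), hn.symm⟩
      · refine ⟨R a, Or.inr (Or.inr (Or.inl rfl)), ?_⟩
        show ((R a : T) : T ⧸ Subgroup.center T) = ((a * R (R a) : T) : T ⧸ Subgroup.center T)
        rw [QuotientGroup.mk_mul, hn, QuotientGroup.mk_mul, ← mul_assoc, hinv', one_mul]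
    refine hb u' hu' ((QuotientGroup.eq_one_iff _).1 ?_)
    rw [QuotientGroup.mk_mul, he, ← QuotientGroup.mk_mul]
    exact (QuotientGroup.eq_one_iff _).2 hub

end Data

end Cfsg.Agent.H74.FixFour
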