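import Mathlib

/-!
Abelian 2-groups with an involutory automorphism fixing a four group and a commuting
fixed-point-free automorphism of order three.
-/

set_option autoImplicit false

namespace Cfsg.Agent.H74.FixFour

/-- The abelian setting. -/
structure AData {M : Type*} [CommGroup M] (S R : M →* M) : Prop where
  pgroup : IsPGroup 2 M
  SS : ∀ x, S (S x) = x
  SR : ∀ x, S (R x) = R (S x)
  norm : ∀ x, x * R x * R (R x) = 1
  fixCard : Nat.card (S.eqLocus (MonoidHom.id M)) = 4
  fixSq : ∀ x, S x = x → x * x = 1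

variable {M : Type*} [CommGroup M] {S R : M →* M}

namespace AData

variable (h : AData S R)
include h

theorem eq_one_of_R {x : M} (hx : R x = x) : x = 1 := by
  have h3 : x ^ 3 = 1 := by
    have := h.norm x
    rw [hx, hx] at this
    rw [pow_succ, pow_two, this]
  obtain ⟨k, hk⟩ := h.pgroup x
  have h1 := Nat.dvd_gcd (orderOf_dvd_of_pow_eq_one h3) (orderOf_dvd_of_pow_eq_one hk)
  rw [Nat.Coprime.gcd_eq_one (Nat.Coprime.pow_right k (by norm_num : Nat.Coprime 3 2))] at h1
  exact orderOf_eq_one_iff.1 (Nat.dvd_one.1 h1)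

theorem RRR (x : M) : R (R (R x)) = x := by
  have h1 := h.norm x
  have h2 := h.norm (R x)
  calc R (R (R x)) = (R x * R (R x))⁻¹ := eq_inv_of_mul_eq_one_right h2
    _ = x := (eq_inv_of_mul_eq_one_left (by rwa [← mul_assoc])).symm

/-- The four fixed elements, from one of them. -/
theorem mem_fix_iff [Finite M] {u : M} (hu : S u = u) (hu1 : u ≠ 1) {x : M} :
    S x = x ↔ x = 1 ∨ x = u ∨ x = R u ∨ x = u * R u := by
  have hRu : S (R u) = R u := by rw [h.SR, hu]
  have n1 : R u ≠ 1 := fun e => hu1 (h.eq_one_of_R (by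
    calc R u = 1 := e
      _ = u := by rw [← h.RRR u, e, map_one, map_one]))
  have n2 : R u ≠ u := fun e => hu1 (h.eq_one_of_R e)
  have n3 : u * R u ≠ 1 := fun e => n2 (by
    calc R u = u⁻¹ := eq_inv_of_mul_eq_one_right e
      _ = u := inv_eq_of_mul_eq_one_right (h.fixSq u hu))
  have n4 : u * R u ≠ u := fun e => n1 (mul_eq_left.1 e)
  have n5 : u * R u ≠ R u := fun e => hu1 (mul_eq_right.1 e)
  have hsub : ({1, u, R u, u * R u} : Set M) ⊆ (S.eqLocus (MonoidHom.id M) : Set M) := by
    rintro y (rfl | rfl | rfl | rfl)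
    · exact map_one S
    · exact hu
    · exact hRu
    · show S (u * R u) = u * R u
      rw [map_mul, hu, hRu]
  have hcard : ({1, u, R u, u * R u} : Set M).ncard = 4 := by
    rw [Set.ncard_insert_of_notMem (by simp [Ne.symm hu1, Ne.symm n1, Ne.symm n3]),
      Set.ncard_insert_of_notMem (by simp [Ne.symm n2, Ne.symm n4]),
      Set.ncard_pair (Ne.symm n5)]
  have heq := Set.eq_of_subset_of_ncard_le hsub
    (by rw [hcard, ← Nat.card_coe_set_eq]; exact h.fixCard.le) (Set.toFinite _)
  have := Set.ext_iff.1 heq x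
  exact this.symm

theorem exists_fix_ne [Finite M] : ∃ u, S u = u ∧ u ≠ 1 := by
  by_contra hc
  push Not at hc
  have : S.eqLocus (MonoidHom.id M) = ⊥ := (Subgroup.eq_bot_iff_forall _).2 hc
  have h4 := h.fixCard
  rw [this, Subgroup.card_bot] at h4
  omega

/-- A nontrivial invariant subgroup of fixed elements contains all of them. -/
theorem fix_le [Finite M] (I : Subgroup M) (hI : ∀ x ∈ I, R x ∈ I) {u : M} (huI : u ∈ I)
    (hu : S u = u) (hu1 : u ≠ 1) : S.eqLocus (MonoidHom.id M) ≤ I := by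
  intro x hx
  rcases (h.mem_fix_iff hu hu1).1 hx with rfl | rfl | rfl | rfl
  exacts [one_mem I, huI, hI u huI, mul_mem huI (hI u huI)]

theorem card_psi [Finite M] :
    Nat.card (S / MonoidHom.id M).range * 4 = Nat.card M := by
  have hk : (S / MonoidHom.id M).ker = S.eqLocus (MonoidHom.id M) := by
    ext x
    show S x / x = 1 ↔ S x = x
    exact div_eq_one
  rw [Subgroup.card_eq_card_quotient_mul_card_subgroup (S / MonoidHom.id M).ker,
    Nat.card_congr (QuotientGroup.quotientKerEquivRange _).toEquiv, hk, h.fixCard]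

/-- Either elementary of order 16 or the involutions are exactly the fixed elements. -/
theorem dichotomy [Finite M] :
    ((∀ x : M, x * x = 1) ∧ Nat.card M = 16 ∧ ∀ v, S v = v → ∃ e, S e * e⁻¹ = v) ∨
      ∀ x : M, x * x = 1 → S x = x := by
  by_cases hall : ∀ x : M, x * x = 1 → S x = x
  · exact Or.inr hall
  push Not at hall
  obtain ⟨o, ho, hoS⟩ := hall
  left
  -- the image of the involutions contains all fixed elements
  let Ω : Subgroup M :=
    { carrier := {x | x * x = 1}
      one_mem' := one_mul 1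
      mul_mem' := fun {a b} (ha : a * a = 1) (hb : b * b = 1) => by
        show a * b * (a * b) = 1
        rw [mul_mul_mul_comm, ha, hb, one_mul]
      inv_mem' := fun {a} (ha : a * a = 1) => by
        show a⁻¹ * a⁻¹ = 1
        rw [← mul_inv, ha, inv_one] }
  let ψ : M →* M := S / MonoidHom.id M
  have hψ : ∀ x, ψ x = S x * x⁻¹ := fun x => div_eq_mul_inv _ _
  have hψΩ : ∀ x ∈ Ω, S (ψ x) = ψ x := by
    intro x hx
    rw [hψ, map_mul, map_inv, h.SS, inv_eq_of_mul_eq_one_right (show x * x = 1 from hx),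
      inv_eq_of_mul_eq_one_right (show S x * S x = 1 by rw [← map_mul, show x * x = 1 from hx, map_one]),
      mul_comm]
  have hI : ∀ x ∈ Ω.map ψ, R x ∈ Ω.map ψ := by
    rintro _ ⟨x, hx, rfl⟩
    exact ⟨R x, show R x * R x = 1 by rw [← map_mul, show x * x = 1 from hx, map_one],
      by rw [hψ, hψ, h.SR, map_mul, map_inv]⟩
  have hne : ψ o ≠ 1 := fun e => hoS (by
    rw [hψ, mul_inv_eq_one] at e; exact e)
  have himg : ∀ v, S v = v → ∃ e ∈ Ω, S e * e⁻¹ = v := fun v hv => by
    obtain ⟨e, he, hev⟩ := h.fix_le _ hI ⟨o, ho, rfl⟩ (hψΩ o ho) hne (show S v = v from hv)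
    exact ⟨e, he, hψ e ▸ hev⟩
  have hexp : ∀ x : M, x * x = 1 := by
    by_contra hc
    push Not at hc
    obtain ⟨x, hx⟩ := hc
    obtain ⟨k, hk⟩ := h.pgroup (x * x)
    -- an involution among the squares
    obtain ⟨j, hj, hj'⟩ : ∃ j, (x * x) ^ 2 ^ j ≠ 1 ∧ (x * x) ^ 2 ^ (j + 1) = 1 := by
      by_contra hn
      push Not at hn
      have : ∀ j, (x * x) ^ 2 ^ j ≠ 1 := fun j => by
        induction j with
        | zero => simpa using hx
        | succ j ih => exact hn j ih
      exact this k hk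
    set w := (x * x) ^ 2 ^ j with hw
    have hw2 : w * w = 1 := by rw [hw, ← pow_add, ← two_mul, ← pow_succ']; exact hj'
    have hSsq : ∀ y : M, S (y * y) = (y * y)⁻¹ := fun y => by
      have hfix : S (y * S y) = y * S y := by rw [map_mul, h.SS, mul_comm]
      have := h.fixSq _ hfix
      rw [mul_mul_mul_comm, ← map_mul S] at this
      exact eq_inv_of_mul_eq_one_right this
    let Sq : Subgroup M := (powMonoidHom 2 : M →* M).range
    have hwSq : w ∈ Sq := ⟨x ^ 2 ^ j, by
      show (x ^ 2 ^ j) ^ 2 = w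
      rw [hw, ← pow_two x, ← pow_mul, ← pow_mul, mul_comm]⟩
    have hSw : S w = w := by
      obtain ⟨y, hy⟩ := hwSq
      have hy' : y * y = w := by rw [← pow_two]; exact hy
      rw [← hy', hSsq, hy', inv_eq_of_mul_eq_one_right hw2]
    obtain ⟨u, hu⟩ := h.fix_le Sq (by rintro _ ⟨y, rfl⟩; exact ⟨R y, by simp⟩) hwSq hSw hj
      (show S w = w from hSw)
    obtain ⟨e, he, hev⟩ := himg (u * S u * (u ^ 2)⁻¹) (by
      have hu2 : S (u ^ 2) = u ^ 2 := by rw [show u ^ 2 = w from hu]; exact hSw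
      rw [map_mul, map_mul, map_inv, h.SS, hu2, mul_comm (S u) u])
    have hfix : S (u * e⁻¹) = u * e⁻¹ := by
      rw [map_mul, map_inv]
      have h1 : S e = u * S u * (u ^ 2)⁻¹ * e := by rw [← hev, inv_mul_cancel_right]
      rw [h1, mul_inv, mul_inv, inv_inv, mul_inv, pow_two]
      group
      simp [mul_comm, mul_left_comm]
    have := h.fixSq _ hfix
    rw [mul_mul_mul_comm, ← mul_inv, show e * e = 1 from he, inv_one, mul_one, ← pow_two] at this
    exact hj ((show u ^ 2 = w from hu).symm.trans this)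
  refine ⟨hexp, ?_, fun v hv => (himg v hv).imp fun e he => he.2⟩
  have hr : ψ.range = S.eqLocus (MonoidHom.id M) := by
    apply le_antisymm
    · rintro _ ⟨x, rfl⟩
      exact hψΩ x (hexp x)
    · intro v hv
      obtain ⟨e, -, he⟩ := himg v hv
      exact ⟨e, (hψ e).trans he⟩
  have := h.card_psi
  rw [show (S / MonoidHom.id M) = ψ from rfl, hr, h.fixCard] at this
  omega

/-- If the involutions are fixed, the group is homocyclic of rank two, generated by `a`, `R a`. -/
theorem homocyclic [Finite M] (hΩ : ∀ x : M, x * x = 1 → S x = x) :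
    ∃ (n : ℕ) (a : M), 1 ≤ n ∧
      Nonempty (M ≃* Multiplicative (ZMod (2 ^ n)) × Multiplicative (ZMod (2 ^ n))) ∧
      ∀ x : M, ∃ i j : ℕ, x = a ^ i * R a ^ j := by
  obtain ⟨a, hmax⟩ := Finite.exists_max (fun x : M => orderOf x)
  obtain ⟨n, hn⟩ := (IsPGroup.iff_orderOf.1 h.pgroup) a
  obtain ⟨u, hu, hu1⟩ := h.exists_fix_ne
  have hn1 : 1 ≤ n := by
    by_contra hc
    rw [Nat.lt_one_iff.1 (not_le.1 hc), pow_zero] at hn
    have := hmax u
    simp only [hn] at this
    exact hu1 (orderOf_eq_one_iff.1 (le_antisymm this (orderOf_pos u)))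
  have hexp : ∀ x : M, x ^ 2 ^ n = 1 := fun x => by
    obtain ⟨k, hk⟩ := (IsPGroup.iff_orderOf.1 h.pgroup) x
    have := hmax x
    simp only [hk, hn] at this
    have hkn : k ≤ n := (Nat.pow_le_pow_iff_right (by norm_num)).1 this
    obtain ⟨d, rfl⟩ := Nat.exists_eq_add_of_le hkn
    rw [pow_add, pow_mul, ← hk, pow_orderOf_eq_one, one_pow]
  set b := a ^ 2 ^ (n - 1) with hb
  have hb1 : b ≠ 1 := by
    refine pow_ne_one_of_lt_orderOf (pow_ne_zero _ (by norm_num)) ?_
    rw [hn]
    exact Nat.pow_lt_pow_right (by norm_num) (by omega)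
  have hb2 : b * b = 1 := by
    rw [hb, ← pow_add, ← two_mul, ← pow_succ', Nat.sub_add_cancel hn1, hexp]
  haveI : NeZero (2 ^ n) := ⟨pow_ne_zero _ (by norm_num)⟩
  let f : ∀ c : M, Multiplicative (ZMod (2 ^ n)) →* M := fun c =>
    { toFun := fun z => c ^ (Multiplicative.toAdd z).val
      map_one' := by simp
      map_mul' := fun y z => by
        rw [toAdd_mul, ZMod.val_add, ← pow_eq_pow_mod _ (hexp c), pow_add] }
  let φ := (f a).coprod (f (R a))
  have hφ : ∀ i j : ℕ, a ^ i * R a ^ j ∈ φ.range := fun i j =>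
    ⟨(Multiplicative.ofAdd (i : ZMod (2 ^ n)), Multiplicative.ofAdd (j : ZMod (2 ^ n))), by
      show a ^ (i : ZMod (2 ^ n)).val * R a ^ (j : ZMod (2 ^ n)).val = _
      rw [ZMod.val_natCast, ZMod.val_natCast, ← pow_eq_pow_mod i (hexp a),
        ← pow_eq_pow_mod j (hexp (R a))]⟩
  have hsurj : ∀ k, ∀ x : M, x ^ 2 ^ k = 1 → x ∈ φ.range := by
    intro k
    induction k with
    | zero => intro x hx; rw [pow_zero, pow_one] at hx; rw [hx]; exact one_mem _
    | succ k ih =>
      intro x hx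
      by_cases hk : n ≤ k
      · refine ih x ?_
        obtain ⟨d, rfl⟩ := Nat.exists_eq_add_of_le hk
        rw [pow_add, pow_mul, hexp, one_pow]
      push Not at hk
      have hz : x ^ 2 ^ k * x ^ 2 ^ k = 1 := by rw [← pow_add, ← two_mul, ← pow_succ', hx]
      have hpow : ∀ c : M, (c ^ 2 ^ (n - 1 - k)) ^ 2 ^ k = c ^ 2 ^ (n - 1) := fun c => by
        rw [← pow_mul, ← pow_add, Nat.sub_add_cancel (by omega)]
      obtain ⟨y, hy, hyx⟩ : ∃ y ∈ φ.range, y ^ 2 ^ k = x ^ 2 ^ k := by
        rcases (h.mem_fix_iff (hΩ b hb2) hb1).1 (hΩ _ hz) with e | e | e | e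
        · exact ⟨1, one_mem _, by rw [one_pow, e]⟩
        · refine ⟨a ^ 2 ^ (n - 1 - k), ?_, by rw [e, hpow]⟩
          simpa using hφ (2 ^ (n - 1 - k)) 0
        · refine ⟨R a ^ 2 ^ (n - 1 - k), ?_, by rw [e, hpow, hb, map_pow]⟩
          simpa using hφ 0 (2 ^ (n - 1 - k))
        · exact ⟨_, hφ (2 ^ (n - 1 - k)) (2 ^ (n - 1 - k)),
            by rw [e, mul_pow, hpow, hpow, hb, map_pow]⟩
      have h1 := ih (x * y⁻¹) (by rw [mul_pow, inv_pow, hyx, mul_inv_cancel])
      have h2 := mul_mem h1 hy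
      rwa [inv_mul_cancel_right] at h2
  have hS : Function.Surjective φ := fun x => hsurj n x (hexp x)
  have hI : Function.Injective φ := by
    refine (injective_iff_map_eq_one φ).2 fun q hq => ?_
    obtain ⟨y, z⟩ := q
    have hyz : a ^ (Multiplicative.toAdd y).val * R a ^ (Multiplicative.toAdd z).val = 1 := hq
    have key : ∀ w, w ∈ Subgroup.zpowers a → w ∈ Subgroup.zpowers (R a) → w = 1 := by
      intro w hwa hwR
      by_contra hw1
      obtain ⟨k, hk⟩ := h.pgroup w
      obtain ⟨j, hj, hj'⟩ : ∃ j, w ^ 2 ^ j ≠ 1 ∧ w ^ 2 ^ (j + 1) = 1 := by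
        by_contra hn'
        push Not at hn'
        have : ∀ j, w ^ 2 ^ j ≠ 1 := fun j => by
          induction j with
          | zero => simpa using hw1
          | succ j ih => exact hn' j ih
        exact this k hk
      set v := w ^ 2 ^ j with hv
      have hv2 : v * v = 1 := by rw [hv, ← pow_add, ← two_mul, ← pow_succ', hj']
      -- the only involution of a cyclic group
      have uniq : ∀ c : M, orderOf c = 2 ^ n → v ∈ Subgroup.zpowers c → v = c ^ 2 ^ (n - 1) := by
        intro c hc hmem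
        rw [← (isOfFinOrder_of_finite c).mem_powers_iff_mem_zpowers] at hmem
        obtain ⟨m, hm⟩ := hmem
        have hm : c ^ m = v := hm
        have hdvd : 2 ^ n ∣ m + m := by
          rw [← hc]
          exact orderOf_dvd_of_pow_eq_one (by rw [pow_add, hm, hv2])
        have hdvd' : 2 ^ (n - 1) ∣ m := by
          rw [show n = (n - 1) + 1 by omega, pow_succ, ← two_mul, mul_comm] at hdvd
          exact Nat.dvd_of_mul_dvd_mul_left (by norm_num) hdvd
        obtain ⟨q, rfl⟩ := hdvd'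
        rcases Nat.even_or_odd q with ⟨r, rfl⟩ | ⟨r, rfl⟩
        · refine absurd ?_ hj
          rw [← hm, show 2 ^ (n - 1) * (r + r) = (2 ^ (n - 1) * 2) * r by ring, ← pow_succ,
            Nat.sub_add_cancel hn1, pow_mul, hexp, one_pow]
        · rw [← hm, show 2 ^ (n - 1) * (2 * r + 1) = (2 ^ (n - 1) * 2) * r + 2 ^ (n - 1) by ring,
            ← pow_succ, Nat.sub_add_cancel hn1, pow_add, pow_mul, hexp, one_pow, one_mul]
      have hRinj : Function.Injective R := fun p q e => by rw [← h.RRR p, e, h.RRR q]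
      have e1 := uniq a hn (pow_mem hwa _)
      have e2 := uniq (R a) (by rw [orderOf_injective R hRinj, hn]) (pow_mem hwR _)
      have : R b = b := by rw [hb, map_pow, ← e2, e1]
      exact hb1 (h.eq_one_of_R this)
    have ha1 : a ^ (Multiplicative.toAdd y).val = 1 := key _ (pow_mem (Subgroup.mem_zpowers a) _)
      (by rw [eq_inv_of_mul_eq_one_left hyz]
          exact inv_mem (pow_mem (Subgroup.mem_zpowers (R a)) _))
    rw [ha1, one_mul] at hyz
    have hoR : orderOf (R a) = 2 ^ n := by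
      rw [orderOf_injective R (fun p q e => by rw [← h.RRR p, e, h.RRR q]), hn]
    have zero : ∀ (c : M) (w : Multiplicative (ZMod (2 ^ n))), orderOf c = 2 ^ n →
        c ^ (Multiplicative.toAdd w).val = 1 → w = 1 := fun c w hc hw => by
      have hdvd := orderOf_dvd_of_pow_eq_one hw
      rw [hc] at hdvd
      have h0 := Nat.eq_zero_of_dvd_of_lt hdvd (ZMod.val_lt _)
      exact (ZMod.val_eq_zero _).1 h0
    exact Prod.ext (zero a y hn ha1) (zero (R a) z hoR hyz)
  refine ⟨n, a, hn1, ⟨(MulEquiv.ofBijective φ ⟨hI, hS⟩).symm⟩, fun x => ?_⟩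
  obtain ⟨⟨y, z⟩, rfl⟩ := hS x
  exact ⟨_, _, rfl⟩

end AData

end Cfsg.Agent.H74.FixFour
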