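import Mathlib

/-!
Computable fields of orders 4 and 16.
-/

set_option autoImplicit false
set_option maxHeartbeats 4000000

namespace Cfsg.Agent.H74.Gal

/-- The field with four elements. -/
structure K4 where
  v : Fin 4
deriving DecidableEq

namespace K4

def equivFin : K4 ≃ Fin 4 where
  toFun x := x.v
  invFun v := ⟨v⟩
  left_inv _ := rfl
  right_inv _ := rfl

instance : Fintype K4 := Fintype.ofEquiv _ equivFin.symm
instance : Zero K4 := ⟨⟨0⟩⟩
instance : One K4 := ⟨⟨1⟩⟩
instance : Add K4 := ⟨fun a b => ⟨⟨(a.v.val ^^^ b.v.val) % 4, Nat.mod_lt _ (by omega)⟩⟩⟩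
instance : Neg K4 := ⟨fun a => a⟩
instance : Sub K4 := ⟨fun a b => a + b⟩

/-- Multiplication: `x = 2` has square `3`. -/
instance : Mul K4 := ⟨fun a b => ⟨![![0, 0, 0, 0], ![0, 1, 2, 3], ![0, 2, 3, 1], ![0, 3, 1, 2]] a.v b.v⟩⟩

instance : Inv K4 := ⟨fun a => ⟨![0, 1, 3, 2] a.v⟩⟩

lemma add_assoc' : ∀ a b c : K4, a + b + c = a + (b + c) := by decide +kernel
lemma zero_add' : ∀ a : K4, 0 + a = a := by decide +kernel
lemma add_zero' : ∀ a : K4, a + 0 = a := by decide +kernel
lemma neg_add' : ∀ a : K4, -a + a = 0 := by decide +kernel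
lemma add_comm' : ∀ a b : K4, a + b = b + a := by decide +kernel
lemma mul_assoc' : ∀ a b c : K4, a * b * c = a * (b * c) := by decide +kernel
lemma mul_comm' : ∀ a b : K4, a * b = b * a := by decide +kernel
lemma one_mul' : ∀ a : K4, 1 * a = a := by decide +kernel
lemma mul_one' : ∀ a : K4, a * 1 = a := by decide +kernel
lemma zero_mul' : ∀ a : K4, 0 * a = 0 := by decide +kernel
lemma mul_zero' : ∀ a : K4, a * 0 = 0 := by decide +kernel
lemma left_distrib' : ∀ a b c : K4, a * (b + c) = a * b + a * c := by decide +kernel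
lemma right_distrib' : ∀ a b c : K4, (a + b) * c = a * c + b * c := by decide +kernel
lemma mul_inv' : ∀ a : K4, a ≠ 0 → a * a⁻¹ = 1 := by decide +kernel

instance : CommRing K4 where
  add_assoc := add_assoc'
  zero_add := zero_add'
  add_zero := add_zero'
  neg_add_cancel := neg_add'
  add_comm := add_comm'
  mul_assoc := mul_assoc'
  mul_comm := mul_comm'
  one_mul := one_mul'
  mul_one := mul_one'
  zero_mul := zero_mul'
  mul_zero := mul_zero'
  left_distrib := left_distrib'
  right_distrib := right_distrib'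
  sub_eq_add_neg _ _ := rfl
  nsmul := nsmulRec
  zsmul := zsmulRec

instance : Field K4 where
  inv := (·⁻¹)
  exists_pair_ne := ⟨0, 1, by decide⟩
  mul_inv_cancel := mul_inv'
  inv_zero := by decide
  nnqsmul := _
  qsmul := _

lemma card : Fintype.card K4 = 4 := by
  rw [Fintype.card_congr equivFin, Fintype.card_fin]

end K4

/-- The field with sixteen elements. -/
structure K16 where
  v : Fin 16
deriving DecidableEq

namespace K16

def equivFin : K16 ≃ Fin 16 where
  toFun x := x.v
  invFun v := ⟨v⟩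
  left_inv _ := rfl
  right_inv _ := rfl

/-- Row `a` of the multiplication table (`x ^ 4 = x + 1`), sixteen hexadecimal digits. -/
def row : List ℕ :=
  [0x0, 0xfedcba9876543210, 0xdf9b5713eca86420, 0x2147ed8b9afc5630, 0x9d15ae26fb73c840,
   0x63c914be8d27fa50, 0x428ef93517dbac60, 0xbc5243ad618f9e70, 0x192a7f4cd5e6b380,
   0xe7f6c5d4a3b28190, 0xc6b1285f394ed7a0, 0x386d92c74f1ae5b0, 0x843fd16a2e957bc0,
   0x7ae36bf258c149d0, 0x5ba48679c23d1fe0, 0xa5783ce1b4692df0]

instance : Fintype K16 := Fintype.ofEquiv _ equivFin.symm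
instance : Zero K16 := ⟨⟨0⟩⟩
instance : One K16 := ⟨⟨1⟩⟩
instance : Add K16 := ⟨fun a b => ⟨⟨(a.v.val ^^^ b.v.val) % 16, Nat.mod_lt _ (by omega)⟩⟩⟩
instance : Neg K16 := ⟨fun a => a⟩
instance : Sub K16 := ⟨fun a b => a + b⟩
instance : Mul K16 :=
  ⟨fun a b => ⟨⟨row.getD a.v.val 0 / 16 ^ b.v.val % 16, Nat.mod_lt _ (by omega)⟩⟩⟩
instance : Inv K16 := ⟨fun a => ⟨⟨0x834a5c2f67bde910 / 16 ^ a.v.val % 16, Nat.mod_lt _ (by omega)⟩⟩⟩

lemma add_assoc' : ∀ a b c : K16, a + b + c = a + (b + c) := by decide +kernel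
lemma zero_add' : ∀ a : K16, 0 + a = a := by decide +kernel
lemma add_zero' : ∀ a : K16, a + 0 = a := by decide +kernel
lemma neg_add' : ∀ a : K16, -a + a = 0 := by decide +kernel
lemma add_comm' : ∀ a b : K16, a + b = b + a := by decide +kernel
lemma mul_assoc' : ∀ a b c : K16, a * b * c = a * (b * c) := by decide +kernel
lemma mul_comm' : ∀ a b : K16, a * b = b * a := by decide +kernel
lemma one_mul' : ∀ a : K16, 1 * a = a := by decide +kernel
lemma mul_one' : ∀ a : K16, a * 1 = a := by decide +kernel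
lemma zero_mul' : ∀ a : K16, 0 * a = 0 := by decide +kernel
lemma mul_zero' : ∀ a : K16, a * 0 = 0 := by decide +kernel
lemma left_distrib' : ∀ a b c : K16, a * (b + c) = a * b + a * c := by decide +kernel
lemma right_distrib' : ∀ a b c : K16, (a + b) * c = a * c + b * c := by decide +kernel
lemma mul_inv' : ∀ a : K16, a ≠ 0 → a * a⁻¹ = 1 := by decide +kernel

instance : CommRing K16 where
  add_assoc := add_assoc'
  zero_add := zero_add'
  add_zero := add_zero'
  neg_add_cancel := neg_add'
  add_comm := add_comm'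
  mul_assoc := mul_assoc'
  mul_comm := mul_comm'
  one_mul := one_mul'
  mul_one := mul_one'
  zero_mul := zero_mul'
  mul_zero := mul_zero'
  left_distrib := left_distrib'
  right_distrib := right_distrib'
  sub_eq_add_neg _ _ := rfl
  nsmul := nsmulRec
  zsmul := zsmulRec

instance : Field K16 where
  inv := (·⁻¹)
  exists_pair_ne := ⟨0, 1, by decide⟩
  mul_inv_cancel := mul_inv'
  inv_zero := by decide +kernel
  nnqsmul := _
  qsmul := _

lemma card : Fintype.card K16 = 16 := by
  rw [Fintype.card_congr equivFin, Fintype.card_fin]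

end K16

end Cfsg.Agent.H74.Gal
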