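import Cfsg.Agent.H74.JFar
import Cfsg.Agent.H91.Sims.Recognition

/-!
Non-commuting planes: both containers are `S₄` or `S₄ × C₂`.
-/

set_option autoImplicit false

namespace Cfsg.Agent.H74.JB

open Subgroup Cfsg
open scoped commutatorElement Pointwise

variable {G : Type*} [Group G] [Finite G]

/-- The complement to `W_K` in `O₂` of the parabolic attached to an involution with commutators in `⟨z⟩`. -/
theorem Plane.complement (hZN : ZN G) {T K L : Subgroup G} (h : Plane T K L) {z y : G} (hzW : z ∈ wOf K)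
    (hz1 : z ≠ 1) (hy : y ∈ T) (hyR : y ∉ pR T K) (hyy : y * y = 1)
    (hzy : ∀ t ∈ T, y * t * y⁻¹ = t ∨ y * t * y⁻¹ = z * t) :
    ∃ k ∈ K, k ^ 3 = 1 ∧ k ∉ T ∧ y * k * y⁻¹ = k⁻¹ ∧ (∀ w ∈ wOf K, k * w * k⁻¹ = w → w = 1) ∧
      (∀ r ∈ pR T K, ∃ v ∈ wOf K, r * v ∈ pR T K ⊓ centralizer ({k} : Set G)) ∧
      ∀ e ∈ pR T K ⊓ centralizer ({k} : Set G), y * e = e * y := by
  haveI : Fact (Nat.Prime 2) := ⟨Nat.prime_two⟩
  obtain ⟨d, hd, hd3, hdT, -, hRT, hQR, hPR, hinv, -, -, -, -, -⟩ := Plane.facts hZN h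
  obtain ⟨d₀, hd₀, hd₀3, -, hdec, hQW, hfpf⟩ := exists_generator h.comp
  obtain ⟨-, -, hWQ, -⟩ := wOf_facts h.comp
  set R := pR T K with hR
  set W := wOf K with hW
  have hWR : W ≤ R := hWQ.trans hQR
  have hyi : y⁻¹ = y := inv_eq_of_mul_eq_one_left hyy
  have hKW : K ≤ normalizer (W : Set G) := le_normalizer.trans (normalizer_le_normalizer_wOf K)
  have hWc : ∀ r ∈ R, ∀ w ∈ W, w * r = r * w := fun r hr w hw => mem_centralizer_iff.mp hr.2 w hw
  -- an element of order three inverted by `y`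
  obtain ⟨q, hq, hqe⟩ := hinv y hy hyR
  have hdP : d ∈ K ⊔ T := mem_sup_left hd
  set x := y * d * y⁻¹ * d⁻¹ with hx
  have hxK : x ∈ K := mul_mem ((mem_normalizer_iff.mp (h.norm hy) d).mp hd) (inv_mem hd)
  have hx1 : x = d * (d * q * d⁻¹) := by rw [hx, hqe, pow_two]; group
  have hr₀ : d * q * d⁻¹ ∈ R := (mem_normalizer_iff.mp (hPR hdP) q).mp (hQR hq)
  have hxT : x ∉ T := fun hh => hdT (by
    have := mul_mem hh (inv_mem (hRT hr₀))
    rwa [hx1, mul_inv_cancel_right] at this)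
  have hx3 : x ^ 3 ∈ R := by
    set r := d * q * d⁻¹ with hr
    have e : x ^ 3 = (d * r * d⁻¹) * (d ^ 2 * r * (d ^ 2)⁻¹) * (d ^ 3 * r) := by rw [hx1, pow_three', pow_two, pow_three']; group
    rw [e, hd3, one_mul]
    exact mul_mem (mul_mem ((mem_normalizer_iff.mp (hPR hdP) r).mp hr₀)
      ((mem_normalizer_iff.mp (hPR (pow_mem hdP 2)) r).mp hr₀)) hr₀
  obtain ⟨a, ha⟩ := h.two ⟨x ^ 3, hRT hx3⟩
  have ha' : (x ^ 3) ^ 2 ^ a = 1 := by simpa using congrArg Subtype.val ha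
  set k := x ^ 2 ^ a with hk
  have hk3 : k ^ 3 = 1 := by rw [hk, ← pow_mul, mul_comm, pow_mul]; exact ha'
  have hkK : k ∈ K := pow_mem hxK _
  have hkT : k ∉ T := by
    intro hkT
    have hm : ∀ j : ℕ, x ^ (3 * j) ∈ T := fun j => by rw [pow_mul]; exact pow_mem (hRT hx3) j
    have h3 : 2 ^ a % 3 = 1 ∨ 2 ^ a % 3 = 2 := by
      have : ¬ 3 ∣ 2 ^ a := fun hd' => absurd (Nat.prime_three.dvd_of_dvd_pow hd') (by omega)
      omega
    rw [hk, ← Nat.mod_add_div (2 ^ a) 3, pow_add] at hkT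
    have h1 := (mul_mem_cancel_right (hm _)).mp hkT
    rcases h3 with e | e <;> rw [e] at h1
    · exact hxT (by rwa [pow_one] at h1)
    · have := mul_mem (inv_mem h1) (hm 1)
      rw [mul_one, pow_two, pow_three'] at this
      exact hxT (by simpa [mul_assoc] using this)
  have hyx : y * x * y⁻¹ = x⁻¹ := by
    rw [hx, hyi]
    calc y * (y * d * y * d⁻¹) * y = (y * y) * (d * y * d⁻¹ * y) := by group
      _ = d * y * d⁻¹ * y := by rw [hyy, one_mul]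
      _ = d * y⁻¹ * d⁻¹ * y⁻¹ := by rw [hyi]
      _ = _ := by group
  have hyk : y * k * y⁻¹ = k⁻¹ := by rw [hk, ← conj_pow, hyx, inv_pow]
  have hyk' : y * k⁻¹ * y⁻¹ = k := by
    calc y * k⁻¹ * y⁻¹ = (y * k * y⁻¹)⁻¹ := by group
      _ = k := by rw [hyk, inv_inv]
  have hkfix : ∀ w ∈ W, k * w * k⁻¹ = w → w = 1 := by
    intro w hw he
    obtain ⟨n, q', hq', hkn⟩ := hdec k hkK
    have hq'T : q' ∈ T := hRT (hQR hq')
    rw [hkn] at he
    have e1 : d₀ ^ n * w * (d₀ ^ n)⁻¹ = w := by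
      calc d₀ ^ n * w * (d₀ ^ n)⁻¹ = d₀ ^ n * (q' * w * q'⁻¹) * (d₀ ^ n)⁻¹ := by
            rw [hQW q' hq' w hw, mul_inv_cancel_right]
        _ = d₀ ^ n * q' * w * (d₀ ^ n * q')⁻¹ := by group
        _ = _ := he
    rw [pow_eq_pow_mod n hd₀3] at e1 hkn
    rcases (show n % 3 = 0 ∨ n % 3 = 1 ∨ n % 3 = 2 by omega) with h3 | h3 | h3 <;> rw [h3] at e1 hkn
    · exact absurd (by rw [hkn, pow_zero, one_mul]; exact hq'T) hkT
    · rw [pow_one] at e1
      exact hfpf w hw e1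
    · refine hfpf w hw ?_
      calc d₀ * w * d₀⁻¹ = d₀ * (d₀ ^ 2 * w * (d₀ ^ 2)⁻¹) * d₀⁻¹ := by rw [e1]
        _ = d₀ ^ 3 * w * (d₀ ^ 3)⁻¹ := by rw [pow_three', pow_two]; group
        _ = w := by rw [hd₀3]; group
  -- `k` centralizes `R` modulo `W`
  have hkP : k ∈ K ⊔ T := mem_sup_left hkK
  have hkW : ∀ w ∈ W, k * w * k⁻¹ ∈ W := fun w hw => (mem_normalizer_iff.mp (hKW hkK) w).mp hw
  have hstep : ∀ r ∈ R, k * k * r * (k * k)⁻¹ * r⁻¹ ∈ W := by
    intro r hr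
    have hr1 : k⁻¹ * r * k ∈ R := by
      have := (mem_normalizer_iff.mp (hPR (inv_mem hkP)) r).mp hr
      rwa [inv_inv] at this
    have ht1 : y * (k⁻¹ * r * k) * y⁻¹ * (k⁻¹ * r * k)⁻¹ ∈ W := by
      rcases hzy _ (hRT hr1) with e | e <;> rw [e]
      · rw [mul_inv_cancel]; exact one_mem _
      · rw [mul_inv_cancel_right]; exact hzW
    have h2 := hkW _ ht1
    have h3 : k * k * (y * r * y⁻¹) * (k * k)⁻¹ * r⁻¹ ∈ W := by
      convert h2 using 1
      have e : k * y * k⁻¹ = k * k * y := by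
        calc k * y * k⁻¹ = k * (y * k⁻¹ * y⁻¹) * y := by group
          _ = _ := by rw [hyk']
      calc k * k * (y * r * y⁻¹) * (k * k)⁻¹ * r⁻¹ = (k * k * y) * r * (k * k * y)⁻¹ * r⁻¹ := by group
        _ = (k * y * k⁻¹) * r * (k * y * k⁻¹)⁻¹ * r⁻¹ := by rw [e]
        _ = _ := by group
    obtain ⟨t₀, ht₀, he₀⟩ : ∃ t₀ ∈ W, y * r * y⁻¹ = t₀ * r := by
      rcases hzy r (hRT hr) with e | e
      · exact ⟨1, one_mem _, by rw [one_mul]; exact e⟩
      · exact ⟨z, hzW, e⟩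
    rw [he₀] at h3
    have h4 : k * k * t₀ * (k * k)⁻¹ ∈ W :=
      (mem_normalizer_iff.mp (hKW (mul_mem hkK hkK)) t₀).mp ht₀
    have := mul_mem (inv_mem h4) h3
    rwa [show (k * k * t₀ * (k * k)⁻¹)⁻¹ * (k * k * (t₀ * r) * (k * k)⁻¹ * r⁻¹) = k * k * r * (k * k)⁻¹ * r⁻¹ by generalize k * k = b; group]
      at this
  have hkR : ∀ r ∈ R, k * r * k⁻¹ * r⁻¹ ∈ W := by
    intro r hr
    have hr' : k * k * r * (k * k)⁻¹ ∈ R := (mem_normalizer_iff.mp (hPR (mul_mem hkP hkP)) r).mp hr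
    have := mul_mem (hstep _ hr') (hstep r hr)
    have hk4 : k * k * (k * k) = k := by
      calc k * k * (k * k) = k ^ 3 * k := by rw [pow_three']; group
        _ = k := by rw [hk3, one_mul]
    rwa [show k * k * (k * k * r * (k * k)⁻¹) * (k * k)⁻¹ * (k * k * r * (k * k)⁻¹)⁻¹ * (k * k * r * (k * k)⁻¹ * r⁻¹) =
        (k * k * (k * k)) * r * (k * k * (k * k))⁻¹ * r⁻¹ by generalize k * k = b; group, hk4] at this
  -- the complement `E`
  set E := R ⊓ centralizer ({k} : Set G) with hE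
  have hsplit : ∀ r ∈ R, ∃ v ∈ W, r * v ∈ E := by
    intro r hr
    have hinj : Function.Injective (fun v : ↥W => (⟨(v : G) * (k * v * k⁻¹)⁻¹, mul_mem v.2 (inv_mem (hkW v v.2))⟩ : ↥W)) := by
      intro v v' e
      have e' : (v : G) * (k * v * k⁻¹)⁻¹ = (v' : G) * (k * v' * k⁻¹)⁻¹ := congrArg Subtype.val e
      refine Subtype.ext (inv_mul_eq_one.mp (hkfix _ (mul_mem (inv_mem v.2) v'.2) ?_))
      calc k * ((v : G)⁻¹ * v') * k⁻¹ = (k * v * k⁻¹)⁻¹ * (k * v' * k⁻¹) := by group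
        _ = (v : G)⁻¹ * ((v : G) * (k * v * k⁻¹)⁻¹) * (k * v' * k⁻¹) := by group
        _ = (v : G)⁻¹ * v' := by rw [e']; group
    obtain ⟨v, hv⟩ := Finite.injective_iff_surjective.mp hinj ⟨_, hkR r hr⟩
    have hv' : (v : G) * (k * v * k⁻¹)⁻¹ = k * r * k⁻¹ * r⁻¹ := congrArg Subtype.val hv
    refine ⟨v, v.2, mul_mem hr (hWR v.2), mem_centralizer_singleton_iff.mpr (mul_inv_eq_iff_eq_mul.mp ?_).symm⟩
    calc k * (r * v) * k⁻¹ = (k * r * k⁻¹ * r⁻¹) * r * (k * v * k⁻¹) := by group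
      _ = (v : G) * ((k * v * k⁻¹)⁻¹ * r) * (k * v * k⁻¹) := by rw [← hv']; group
      _ = (v : G) * r := by rw [hWc r hr _ (inv_mem (hkW v v.2))]; group
      _ = _ := hWc r hr v v.2
  have hEk : ∀ e ∈ E, e * k = k * e := fun e he => mem_centralizer_singleton_iff.mp he.2
  have hEy : ∀ e ∈ E, y * e = e * y := by
    intro e he
    rcases hzy e (hRT he.1) with e' | e'
    · exact mul_inv_eq_iff_eq_mul.mp e'
    · exfalso
      have hc : k * (y * e * y⁻¹) = (y * e * y⁻¹) * k := by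
        calc k * (y * e * y⁻¹) = (y * k⁻¹ * y⁻¹) * (y * e * y⁻¹) := by rw [hyk']
          _ = y * (k⁻¹ * e) * y⁻¹ := by group
          _ = y * (e * k⁻¹) * y⁻¹ := by rw [((show Commute e k from hEk e he).inv_right).eq]
          _ = (y * e * y⁻¹) * (y * k⁻¹ * y⁻¹) := by group
          _ = _ := by rw [hyk']
      rw [e'] at hc
      refine hz1 (hkfix z hzW (mul_inv_eq_iff_eq_mul.mpr ?_))
      refine mul_right_cancel (b := e) ?_
      calc k * z * e = z * e * k := by rw [mul_assoc]; exact hc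
        _ = z * (e * k) := mul_assoc _ _ _
        _ = z * k * e := by rw [hEk e he, mul_assoc]
  exact ⟨k, hkK, hk3, hkT, hyk, hkfix, hsplit, hEy⟩

end Cfsg.Agent.H74.JB
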