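import Mathlib
import Cfsg.Agent.H1.PSLSimple
import Cfsg.Agent.H1.Orders
import Cfsg.Agent.H69.SL2Classes
import Cfsg.Agent.H64.SL2Sylow
import Cfsg.Agent.H64.SL2Unipotent
import Cfsg.Agent.H74.CharP
import Cfsg.Agent.H74.Zsigmondy

/-!
Facts on `PSL₂` over a finite field used in pushing up: Sylow subgroups in the defining characteristic, and
products of two conjugate unipotent elements of large prime power order.
-/

set_option autoImplicit false

namespace Cfsg.Agent.H74.PSLTwo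

open Matrix Cfsg.Agent.H64.SL2

variable {F : Type*} [Field F]

local notation "SL₂" => Matrix.SpecialLinearGroup (Fin 2) F
local notation "PSL₂" => Matrix.ProjectiveSpecialLinearGroup (Fin 2) F

/-- The projection `SL₂ → PSL₂`. -/
def proj : SL₂ →* PSL₂ := QuotientGroup.mk' (Subgroup.center SL₂)

theorem proj_surjective : Function.Surjective (proj (F := F)) := QuotientGroup.mk'_surjective _

/-- The lower unitriangular matrix. -/
def lowerU (s : F) : SL₂ := ⟨!![1, 0; s, 1], by simp [Matrix.det_fin_two]⟩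

/-- The Weyl element. -/
def weyl : SL₂ := ⟨!![0, 1; -1, 0], by simp [Matrix.det_fin_two]⟩

theorem lowerU_coe (s : F) : (lowerU s : Matrix (Fin 2) (Fin 2) F) = !![1, 0; s, 1] := rfl

theorem weyl_coe : ((weyl : SL₂) : Matrix (Fin 2) (Fin 2) F) = !![0, 1; -1, 0] := rfl

theorem mem_center_iff_scalar (M : SL₂) :
    M ∈ Subgroup.center SL₂ ↔ H69.IsScalar2 (M : Matrix (Fin 2) (Fin 2) F) := by
  constructor
  · intro h
    have h1 := congrArg (fun N : SL₂ => (N : Matrix (Fin 2) (Fin 2) F))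
      (Subgroup.mem_center_iff.mp h (upperU 1))
    have h2 := congrArg (fun N : SL₂ => (N : Matrix (Fin 2) (Fin 2) F))
      (Subgroup.mem_center_iff.mp h (lowerU 1))
    have e1 := congrFun (congrFun h1 0) 0
    have e2 := congrFun (congrFun h1 0) 1
    have e3 := congrFun (congrFun h2 0) 0
    simp [upperU_coe, lowerU_coe, Matrix.SpecialLinearGroup.coe_mul, Matrix.mul_apply, Fin.sum_univ_two] at e1 e2 e3
    exact ⟨e3, e1, by linear_combination -e2⟩
  · rintro ⟨a, b, c⟩
    refine Subgroup.mem_center_iff.mpr fun N => ?_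
    ext i j
    fin_cases i <;> fin_cases j <;>
      simp [Matrix.mul_apply, Fin.sum_univ_two, a, b, c, mul_comm]

theorem proj_eq_one_iff (M : SL₂) :
    proj M = 1 ↔ H69.IsScalar2 (M : Matrix (Fin 2) (Fin 2) F) := by
  rw [← mem_center_iff_scalar, proj, QuotientGroup.mk'_apply, QuotientGroup.eq_one_iff]

/-- Equality of images gives a scalar quotient. -/
theorem scalar_of_proj_eq {A B : SL₂} (h : proj A = proj B) :
    H69.IsScalar2 ((A⁻¹ * B : SL₂) : Matrix (Fin 2) (Fin 2) F) := by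
  rw [← proj_eq_one_iff, map_mul, map_inv, h, inv_mul_cancel]

theorem upperU_neg (s : F) : (upperU s : SL₂)⁻¹ = upperU (-s) := by
  refine inv_eq_of_mul_eq_one_right ?_
  rw [← upperU_add, add_neg_cancel]
  ext i j
  fin_cases i <;> fin_cases j <;> simp [upperU_coe]

theorem proj_upperU_inj {s t : F} (h : proj (upperU s : SL₂) = proj (upperU t)) : s = t := by
  have := (scalar_of_proj_eq h).1
  rw [upperU_neg, ← upperU_add] at this
  simp [upperU_coe] at this
  linear_combination -this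

variable (p : ℕ) [hp : Fact p.Prime] [CharP F p] [Finite F]

/-- The standard Sylow `p`-subgroup of `PSL₂`. -/
noncomputable def stdSylow : Sylow p PSL₂ :=
  (upperSylow (F := F) p).mapSurjective (f := proj) proj_surjective

theorem mem_stdSylow {x : PSL₂} :
    x ∈ (stdSylow (F := F) p : Subgroup PSL₂) ↔ ∃ s : F, proj (upperU s) = x := by
  show x ∈ (upperGroup (F := F)).map proj ↔ _
  constructor
  · rintro ⟨y, hy, rfl⟩
    obtain ⟨s, rfl⟩ := mem_upperGroup.mp hy
    exact ⟨s, rfl⟩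
  · rintro ⟨s, rfl⟩
    exact ⟨_, mem_upperGroup.mpr ⟨s, rfl⟩, rfl⟩

theorem card_stdSylow : Nat.card (stdSylow (F := F) p : Subgroup PSL₂) = Nat.card F := by
  refine (Nat.card_congr (Equiv.ofBijective
    (fun s : F => (⟨proj (upperU s), (mem_stdSylow p).mpr ⟨s, rfl⟩⟩ : (stdSylow (F := F) p : Subgroup PSL₂)))
    ⟨fun s t h => proj_upperU_inj (congrArg Subtype.val h), ?_⟩)).symm
  rintro ⟨x, hx⟩
  obtain ⟨s, rfl⟩ := (mem_stdSylow p).mp hx
  exact ⟨s, rfl⟩

/-- `PSL₂` has trivial `p`-core. -/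
theorem pCore_eq_bot : Cfsg.pCore p PSL₂ = ⊥ := by
  rw [eq_bot_iff]
  intro x hx
  obtain ⟨s, rfl⟩ := (mem_stdSylow p).mp (pCore_le_sylow (stdSylow p) hx)
  have hc : proj (weyl : SL₂) * proj (upperU s) * (proj (weyl : SL₂))⁻¹ ∈ Cfsg.pCore p PSL₂ :=
    pCore_normal.conj_mem _ hx _
  obtain ⟨t, ht⟩ := (mem_stdSylow p).mp (pCore_le_sylow (stdSylow p) hc)
  rw [← map_inv, ← map_mul, ← map_mul] at ht
  have := (scalar_of_proj_eq ht).2.1
  rw [upperU_neg] at this
  simp [upperU_coe, weyl_coe, Matrix.adjugate_fin_two, Matrix.mul_apply, Fin.sum_univ_two] at this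
  rw [Subgroup.mem_bot, proj_eq_one_iff, H69.IsScalar2]
  simp [upperU_coe, this]

/-- `PSL₂` is not a `p`-group. -/
theorem not_isPGroup : ¬ IsPGroup p PSL₂ := by
  intro h
  have h1 : (⊤ : Subgroup PSL₂) ≤ Cfsg.pCore p PSL₂ :=
    le_pCore_of_normal inferInstance (h.to_subgroup ⊤)
  rw [pCore_eq_bot p] at h1
  have h2 : ((⟨proj (upperU (1 : F)), (mem_stdSylow p).mpr ⟨1, rfl⟩⟩ :
      (stdSylow (F := F) p : Subgroup PSL₂)) : PSL₂) = 1 := Subgroup.mem_bot.mp (h1 (Subgroup.mem_top _))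
  have := ((proj_eq_one_iff _).mp h2).1
  simp [upperU_coe] at this

/-- Every `p`-subgroup is conjugate into the standard one. -/
theorem exists_conj_le {Q : Subgroup PSL₂} (hQ : IsPGroup p Q) :
    ∃ g : PSL₂, ∀ x ∈ Q, ∃ s : F, x = g * proj (upperU s) * g⁻¹ := by
  obtain ⟨P, hP⟩ := hQ.exists_le_sylow
  obtain ⟨g, hg⟩ := MulAction.exists_smul_eq PSL₂ (stdSylow (F := F) p) P
  refine ⟨g, fun x hx => ?_⟩
  have hx' : x ∈ (P : Subgroup PSL₂) := hP hx
  rw [← hg, Sylow.coe_subgroup_smul] at hx'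
  obtain ⟨y, hy, rfl⟩ := hx'
  obtain ⟨s, rfl⟩ := (mem_stdSylow p).mp hy
  exact ⟨s, by simp⟩

/-- `p`-subgroups of `PSL₂` are elementary abelian. -/
theorem pSubgroup_elementary {Q : Subgroup PSL₂} (hQ : IsPGroup p Q) :
    (∀ x ∈ Q, ∀ y ∈ Q, x * y = y * x) ∧ (∀ x ∈ Q, x ^ p = 1) := by
  obtain ⟨g, hg⟩ := exists_conj_le p hQ
  constructor
  · intro x hx y hy
    obtain ⟨s, rfl⟩ := hg x hx
    obtain ⟨t, rfl⟩ := hg y hy
    calc g * proj (upperU s) * g⁻¹ * (g * proj (upperU t) * g⁻¹)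
        = g * proj (upperU s * upperU t) * g⁻¹ := by rw [map_mul]; group
      _ = g * proj (upperU t * upperU s) * g⁻¹ := by rw [← upperU_add, add_comm, upperU_add]
      _ = _ := by rw [map_mul]; group
  · intro x hx
    obtain ⟨s, rfl⟩ := hg x hx
    have hpow : ∀ k : ℕ, (upperU s : SL₂) ^ k = upperU ((k : F) * s) := by
      intro k
      induction k with
      | zero => ext i j; fin_cases i <;> fin_cases j <;> simp [upperU_coe]
      | succ k ih => rw [pow_succ, ih, ← upperU_add]; push_cast; ring_nf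
    rw [conj_pow, ← map_pow, hpow, CharP.cast_eq_zero, zero_mul]
    have : (upperU (0 : F) : SL₂) = 1 := by ext i j; fin_cases i <;> fin_cases j <;> simp [upperU_coe]
    rw [this, map_one, mul_one, mul_inv_cancel]

/-- The prime power used for large orders. -/
theorem exists_primitive_prime_power {n : ℕ} (hn : 2 ≤ n) :
    ∃ r e : ℕ, r.Prime ∧ r ≠ p ∧ r ≠ 2 ∧ 1 ≤ e ∧ r ^ e ∣ p ^ n + 1 ∧
      ∀ m : ℕ, r ^ e ∣ p ^ m - 1 → 2 * n ∣ m := by
  by_cases h6 : p = 2 ∧ n = 3
  · obtain ⟨rfl, rfl⟩ := h6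
    refine ⟨3, 2, by norm_num, by norm_num, by norm_num, by norm_num, by norm_num, fun m hm => ?_⟩
    have h2 : 2 ^ m % 9 = 1 := by
      have : 1 ≤ 2 ^ m := Nat.one_le_two_pow
      omega
    rw [← Nat.div_add_mod m 6, pow_add, pow_mul, Nat.mul_mod, Nat.pow_mod] at h2
    norm_num at h2
    have h6 : m % 6 < 6 := Nat.mod_lt _ (by norm_num)
    refine Nat.dvd_of_mod_eq_zero ?_
    generalize m % 6 = b at h2 h6 ⊢
    interval_cases b <;> simp_all
  obtain ⟨r, hr, hdvd, hord⟩ := exists_prime_orderOf_eq (a := p) (n := 2 * n) hp.out.one_lt (by omega)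
    (fun h => h6 ⟨h.1, by omega⟩) (fun h => absurd h.1 (by omega))
  haveI := Fact.mk hr
  have hiff : ∀ m, r ∣ p ^ m - 1 ↔ 2 * n ∣ m := fun m => by
    rw [← ZMod.natCast_eq_zero_iff, Nat.cast_sub (Nat.one_le_pow _ _ hp.out.pos), Nat.cast_pow,
      Nat.cast_one, sub_eq_zero, ← orderOf_dvd_iff_pow_eq_one, hord]
  have hrp : r ≠ p := by
    rintro rfl
    have h1 : r ∣ r ^ (2 * n) := dvd_pow_self r (by omega)
    have := Nat.dvd_sub h1 hdvd
    rw [Nat.sub_sub_self (Nat.one_le_pow _ _ hr.pos)] at this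
    exact hr.not_dvd_one this
  refine ⟨r, 1, hr, hrp, ?_, le_rfl, ?_, fun m hm => (hiff m).mp (by simpa using hm)⟩
  · rintro rfl
    have hodd : Odd p := hp.out.odd_of_ne_two (Ne.symm hrp)
    have : 2 * n ∣ 1 := (hiff 1).mp (by rw [pow_one]; exact even_iff_two_dvd.mp (Nat.Odd.sub_odd hodd odd_one))
    have := Nat.le_of_dvd one_pos this
    omega
  · have hfac : p ^ (2 * n) - 1 = (p ^ n + 1) * (p ^ n - 1) := by
      rw [← Nat.sq_sub_sq, one_pow, ← pow_mul, mul_comm n]
    rw [hfac] at hdvd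
    rw [pow_one]
    rcases (Nat.Prime.dvd_mul hr).mp hdvd with h | h
    · exact h
    · have := Nat.le_of_dvd (by omega) ((hiff n).mp h)
      omega

/-- A nontrivial `p`-element times a suitable conjugate has prime power order with a large multiplicative order. -/
theorem exists_conj_product {n : ℕ} (hn : 2 ≤ n) (hF : Nat.card F = p ^ n) {x : PSL₂} (hx : x ≠ 1)
    (hxp : IsPGroup p (Subgroup.zpowers x)) :
    ∃ (g : PSL₂) (r e : ℕ), r.Prime ∧ r ≠ p ∧ 1 ≤ e ∧ orderOf (x * (g * x * g⁻¹)) = r ^ e ∧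
      ∀ m : ℕ, r ^ e ∣ p ^ m - 1 → 2 * n ∣ m := by
  obtain ⟨r, e, hr, hrp, hr2, he, hdvd, hord⟩ := exists_primitive_prime_power p hn
  haveI := Fact.mk hr
  haveI : Fintype F := Fintype.ofFinite F
  have hcard : r ^ e ∣ Nat.card SL₂ := by
    have hq2 : 2 ≤ p ^ n := le_trans hp.out.two_le (Nat.le_self_pow (by omega) p)
    have h := H1.sub_one_mul_card_SL (F := F) (q := p ^ n) (by rw [← Nat.card_eq_fintype_card, hF]) 2 one_le_two
    simp only [Fin.prod_univ_two, Fin.val_zero, Fin.val_one, pow_zero, pow_one] at h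
    have h' : (p ^ n - 1) * Nat.card SL₂ = (p ^ n - 1) * ((p ^ n + 1) * ((p ^ n) ^ 2 - p ^ n)) := by
      rw [h, ← mul_assoc, mul_comm (p ^ n - 1) (p ^ n + 1), ← Nat.sq_sub_sq, one_pow]
    rw [Nat.eq_of_mul_eq_mul_left (by omega) h']
    exact hdvd.mul_right _
  obtain ⟨R, hR⟩ := Sylow.exists_subgroup_card_pow_prime r hcard
  haveI : IsCyclic R := isCyclic_of_isPGroup p hr2 hrp R (IsPGroup.of_card hR)
  obtain ⟨⟨M, hMR⟩, hM⟩ := IsCyclic.exists_ofOrder_eq_natCard (α := R)
  rw [hR, Subgroup.orderOf_mk] at hM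
  obtain ⟨j, hj⟩ : Odd (r ^ e) := (hr.odd_of_ne_two hr2).pow
  have hscal : ∀ k : ℕ, H69.IsScalar2 ((M ^ k : SL₂) : Matrix (Fin 2) (Fin 2) F) → r ^ e ∣ k := by
    intro k hk
    have h2 : (M ^ k) ^ 2 = 1 := by
      generalize M ^ k = X at hk ⊢
      obtain ⟨a, b, c⟩ := hk
      have hd := X.2
      rw [Matrix.det_fin_two, a, b, ← c, mul_zero, sub_zero] at hd
      ext i j
      fin_cases i <;> fin_cases j <;>
        simp [pow_two, Matrix.mul_apply, Fin.sum_univ_two, a, b, ← c, hd]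
    rw [← pow_mul] at h2
    have h3 : r ^ e ∣ k * 2 := hM ▸ orderOf_dvd_of_pow_eq_one h2
    exact (Nat.Coprime.dvd_of_dvd_mul_right
      (((Nat.coprime_primes hr Nat.prime_two).mpr hr2).pow_left e) h3)
  have hM1 : ¬ H69.IsScalar2 ((M : SL₂) : Matrix (Fin 2) (Fin 2) F) := fun h => by
    have h1 := hscal 1 (by rwa [pow_one])
    have := Nat.le_of_dvd one_pos h1
    have := Nat.le_self_pow (show e ≠ 0 by omega) r
    have := hr.two_le
    omega
  set M' : SL₂ := M ^ (j + 1) with hM'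
  have hMM : M' * M' = M := by
    rw [hM', ← pow_add, show (j + 1) + (j + 1) = r ^ e + 1 by omega, pow_succ, ← hM,
      pow_orderOf_eq_one, one_mul]
  set τ : F := (M' : Matrix (Fin 2) (Fin 2) F).trace with hτ
  have htr : (M : Matrix (Fin 2) (Fin 2) F).trace = τ ^ 2 - 2 := by
    have hd := M'.2
    rw [Matrix.det_fin_two] at hd
    rw [← hMM, hτ]
    simp only [Matrix.SpecialLinearGroup.coe_mul, Matrix.trace_fin_two, Matrix.mul_apply, Fin.sum_univ_two]
    linear_combination (-2 : F) * hd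
  have hτ0 : τ ≠ 0 := by
    intro h0
    apply hM1
    have hd := M'.2
    rw [Matrix.det_fin_two] at hd
    have h1 : (M' : Matrix (Fin 2) (Fin 2) F) 0 0 + (M' : Matrix (Fin 2) (Fin 2) F) 1 1 = 0 := by
      rw [← Matrix.trace_fin_two, ← hτ, h0]
    rw [← hMM]
    simp only [H69.IsScalar2, Matrix.SpecialLinearGroup.coe_mul, Matrix.mul_apply, Fin.sum_univ_two]
    refine ⟨?_, ?_, ?_⟩
    · linear_combination (M' : Matrix (Fin 2) (Fin 2) F) 0 1 * h1
    · linear_combination (M' : Matrix (Fin 2) (Fin 2) F) 1 0 * h1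
    · linear_combination ((M' : Matrix (Fin 2) (Fin 2) F) 0 0 - (M' : Matrix (Fin 2) (Fin 2) F) 1 1) * h1
  obtain ⟨c, hc⟩ := exists_conj_le p hxp
  obtain ⟨s, hs⟩ := hc x (Subgroup.mem_zpowers x)
  have hs0 : s ≠ 0 := by
    rintro rfl
    apply hx
    rw [hs, show (upperU (0 : F) : SL₂) = 1 by ext i j; fin_cases i <;> fin_cases j <;> simp [upperU_coe]]
    simp
  set P : SL₂ := upperU s * (lowerU (τ / s) * upperU s * (lowerU (τ / s))⁻¹) with hP
  refine ⟨c * proj (lowerU (τ / s)) * c⁻¹, r, e, hr, hrp, he, ?_, hord⟩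
  have hxg : x * (c * proj (lowerU (τ / s)) * c⁻¹ * x * (c * proj (lowerU (τ / s)) * c⁻¹)⁻¹) =
      MulAut.conj c (proj P) := by
    rw [MulAut.conj_apply, hs, hP]
    simp only [map_mul, map_inv]
    group
  rw [hxg, MulEquiv.orderOf_eq]
  have hPval : (P : Matrix (Fin 2) (Fin 2) F) =
      !![1 - τ - τ ^ 2, s + s * (1 + τ); -(τ ^ 2 / s), 1 + τ] := by
    rw [hP]
    ext i j
    fin_cases i <;> fin_cases j <;>
      simp [upperU_coe, lowerU_coe, Matrix.adjugate_fin_two, Matrix.mul_apply, Fin.sum_univ_two] <;> field_simp <;> (first | ring1 | (simp [hs0]; done) | (simp [hs0]; ring1) | (left; ring1) | (ring_nf; simp [hs0]))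
  set N : Matrix (Fin 2) (Fin 2) F := -(M : Matrix (Fin 2) (Fin 2) F) with hN
  have hNs : ¬ H69.IsScalar2 N := by
    rintro ⟨a, b, c'⟩
    exact hM1 ⟨by simpa [hN] using a, by simpa [hN] using b, by simpa [hN] using c'⟩
  have hPs : ¬ H69.IsScalar2 (P : Matrix (Fin 2) (Fin 2) F) := by
    rintro ⟨-, b, -⟩
    rw [hPval] at b
    simp [hτ0, hs0] at b
  obtain ⟨C, hC, hCe⟩ := H69.exists_mul_eq_mul_of_trace_det hPs hNs
    (by rw [hN, Matrix.trace_neg, htr, hPval, Matrix.trace_fin_two]; simp; ring)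
    (by rw [P.2, hN, Matrix.det_neg, M.2]; simp)
  have hCu : IsUnit C.det := isUnit_iff_ne_zero.mpr hC
  have hCpow : ∀ k : ℕ, C * (P : Matrix (Fin 2) (Fin 2) F) ^ k = N ^ k * C := by
    intro k
    induction k with
    | zero => simp
    | succ k ih => rw [pow_succ, ← mul_assoc, ih, mul_assoc, hCe, ← mul_assoc, ← pow_succ]
  have hiff : ∀ k : ℕ, (proj P) ^ k = 1 ↔ r ^ e ∣ k := by
    intro k
    rw [← map_pow, proj_eq_one_iff, Matrix.SpecialLinearGroup.coe_pow]
    have hNM : N ^ k = ((-1 : F) ^ k) • (M : Matrix (Fin 2) (Fin 2) F) ^ k := by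
      rw [← smul_pow, neg_one_smul]
    constructor
    · intro h
      apply hscal
      rw [Matrix.SpecialLinearGroup.coe_pow]
      have h1 : N ^ k = ((P : Matrix (Fin 2) (Fin 2) F) ^ k) 0 0 • (1 : Matrix (Fin 2) (Fin 2) F) := by
        have := hCpow k
        rw [(H69.isScalar2_iff _).mp h, mul_smul_comm, mul_one] at this
        have h3 := congrArg (· * C⁻¹) this
        simp only [smul_mul_assoc, Matrix.mul_nonsing_inv _ hCu, mul_assoc, mul_one] at h3
        exact h3.symm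
      rw [hNM] at h1
      have h4 := congrArg (fun X => ((-1 : F) ^ k) • X) h1
      simp only [smul_smul, ← mul_pow, mul_neg, mul_one, neg_neg, one_pow, one_smul] at h4
      rw [h4]
      exact H69.isScalar2_smul_one _
    · intro h
      obtain ⟨l, rfl⟩ := h
      have hMk : (M : Matrix (Fin 2) (Fin 2) F) ^ (r ^ e * l) = 1 := by
        rw [← Matrix.SpecialLinearGroup.coe_pow, pow_mul, ← hM, pow_orderOf_eq_one, one_pow]
        rfl
      have h1 := hCpow (r ^ e * l)
      rw [hNM, hMk, smul_mul_assoc, one_mul] at h1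
      have h3 := congrArg (C⁻¹ * ·) h1
      simp only [← mul_assoc, Matrix.nonsing_inv_mul _ hCu, one_mul, mul_smul_comm] at h3
      rw [h3]
      exact H69.isScalar2_smul_one _
  exact Nat.dvd_antisymm (orderOf_dvd_of_pow_eq_one ((hiff _).mpr dvd_rfl))
    ((hiff _).mp (pow_orderOf_eq_one _))

/-- `PSL₂(q)` is simple for `q = p ^ n`, `n ≥ 2`. -/
theorem isSimpleGroup {n : ℕ} (hn : 2 ≤ n) (hF : Nat.card F = p ^ n) : IsSimpleGroup PSL₂ := by
  refine H1.isSimpleGroup_PSL (Or.inr ?_)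
  classical
  haveI : Fintype F := Fintype.ofFinite F
  by_contra hcon
  push Not at hcon
  have h : (Finset.univ : Finset F) ⊆ {0, 1, -1} := fun x _ => by
    simp only [Finset.mem_insert, Finset.mem_singleton]
    by_cases hx : x = 0
    · exact Or.inl hx
    · exact Or.inr ((sq_eq_one_iff).mp (hcon x hx))
  have := (Finset.card_le_card h).trans Finset.card_le_three
  rw [Finset.card_univ, ← Nat.card_eq_fintype_card, hF] at this
  have := (Nat.pow_le_pow_left hp.out.two_le 2).trans (Nat.pow_le_pow_right hp.out.pos hn)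
  omega

end Cfsg.Agent.H74.PSLTwo
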