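import Cfsg.Prelude.Def_BaumannBlocks
import Cfsg.Agent.H74.PSLTwo
import Cfsg.Agent.H75.Basic
import Cfsg.Agent.H44.TISylow

/-!
The basic pushing-up situation: structure of `G / C_G(W)` and the bound `|S : O_p(G)| ≤ |W : C_W(A)|`.
-/

set_option autoImplicit false

namespace Cfsg.Agent.H74

open Subgroup

variable {G : Type*} [Group G] [Finite G]

/-- If an element `h` of order `r ^ j` normalizes `W`, the points of `W` moved by `h ^ (r ^ (e-1))`
come in orbits of size divisible by `r ^ e`. -/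
theorem pow_dvd_card_sub {W : Subgroup G} {h : G} {r j e : ℕ} (hr : r.Prime) (hord : orderOf h = r ^ j)
    (he : 1 ≤ e) (hW : h ∈ normalizer (W : Set G)) :
    r ^ e ∣ Nat.card W - Nat.card ↥(W ⊓ centralizer ({h ^ r ^ (e - 1)} : Set G)) := by
  set y := h ^ r ^ (e - 1) with hy
  let X := {w : W // ¬ Commute y (w : G)}
  haveI : Finite X := Subtype.finite
  have hgW : ∀ g : zpowers h, (g : G) ∈ normalizer (W : Set G) := fun g =>
    (zpowers_le.mpr hW) g.2
  have hgy : ∀ g : zpowers h, Commute (g : G) y := by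
    intro g
    obtain ⟨k, hk⟩ := mem_zpowers_iff.mp g.2
    rw [← hk, hy]
    exact ((Commute.refl h).pow_right _).zpow_left k
  have hmove : ∀ (g : zpowers h) (w : G), Commute y ((g : G) * w * (g : G)⁻¹) → Commute y w := by
    intro g w hc
    have h1 : (g : G)⁻¹ * y * (g : G) = y := by
      rw [mul_assoc, ← (hgy g).eq, ← mul_assoc, inv_mul_cancel, one_mul]
    show y * w = w * y
    calc y * w = (g : G)⁻¹ * (y * ((g : G) * w * (g : G)⁻¹)) * (g : G) := by
          conv_lhs => rw [← h1]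
          group
      _ = (g : G)⁻¹ * (((g : G) * w * (g : G)⁻¹) * y) * (g : G) := by rw [hc.eq]
      _ = w * ((g : G)⁻¹ * y * (g : G)) := by group
      _ = w * y := by rw [h1]
  letI act : MulAction (zpowers h) X :=
    { smul := fun g x => ⟨⟨(g : G) * (x.1 : G) * (g : G)⁻¹,
          (mem_normalizer_iff.mp (hgW g) _).mp x.1.2⟩, fun hc => x.2 (hmove g _ hc)⟩
      one_smul := fun x => Subtype.ext (Subtype.ext (by
        show ((1 : zpowers h) : G) * (x.1 : G) * ((1 : zpowers h) : G)⁻¹ = (x.1 : G)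
        simp))
      mul_smul := fun a b x => Subtype.ext (Subtype.ext (by
        show ((a * b : zpowers h) : G) * (x.1 : G) * ((a * b : zpowers h) : G)⁻¹ =
          (a : G) * ((b : G) * (x.1 : G) * (b : G)⁻¹) * (a : G)⁻¹
        push_cast
        group)) }
  have horb : ∀ x : X, r ^ e ∣ Nat.card (MulAction.orbit (zpowers h) x) := by
    intro x
    rw [Nat.card_coe_set_eq, ← MulAction.index_stabilizer]
    set St := MulAction.stabilizer (zpowers h) x with hSt
    obtain ⟨i, hi, hi'⟩ := (Nat.dvd_prime_pow hr).mp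
      (hord ▸ Nat.card_zpowers h ▸ St.index_dvd_card)
    rw [hi']
    refine pow_dvd_pow r ?_
    by_contra hlt
    haveI : St.Normal := ⟨fun a ha g => by
      have : g * a * g⁻¹ = a := by rw [mul_comm' g a, mul_inv_cancel_right]
      rwa [this]⟩
    have h1 := St.pow_index_mem (⟨h, mem_zpowers h⟩ : zpowers h)
    rw [hi'] at h1
    have h2 : (⟨y, pow_mem (mem_zpowers h) _⟩ : zpowers h) ∈ St := by
      have : (⟨y, pow_mem (mem_zpowers h) _⟩ : zpowers h) =
          ((⟨h, mem_zpowers h⟩ : zpowers h) ^ r ^ i) ^ r ^ (e - 1 - i) := by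
        apply Subtype.ext
        push_cast
        rw [← pow_mul, ← pow_add, Nat.add_sub_cancel' (by omega)]
      rw [this]
      exact pow_mem h1 _
    have h3 := congrArg (fun z : X => (z.1 : G)) (MulAction.mem_stabilizer_iff.mp h2)
    change y * (x.1 : G) * y⁻¹ = (x.1 : G) at h3
    exact x.2 (mul_inv_eq_iff_eq_mul.mp h3)
  have hX : r ^ e ∣ Nat.card X := by
    classical
    haveI := Fintype.ofFinite (Quotient (MulAction.orbitRel (zpowers h) X))
    rw [Nat.card_congr (MulAction.selfEquivSigmaOrbits (zpowers h) X), Nat.card_sigma]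
    exact Finset.dvd_sum fun ω _ => horb _
  classical
  have hcard : Nat.card W = Nat.card {w : W // Commute y (w : G)} + Nat.card X := by
    rw [← Nat.card_sum]
    exact (Nat.card_congr (Equiv.sumCompl fun w : W => Commute y (w : G))).symm
  have hF : Nat.card {w : W // Commute y (w : G)} = Nat.card ↥(W ⊓ centralizer ({y} : Set G)) :=
    Nat.card_congr
      { toFun := fun w => ⟨w.1, mem_inf.mpr ⟨w.1.2, mem_centralizer_singleton_iff.mpr w.2.eq.symm⟩⟩
        invFun := fun w => ⟨⟨w, (mem_inf.mp w.2).1⟩, (mem_centralizer_singleton_iff.mp (mem_inf.mp w.2).2).symm⟩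
        left_inv := fun _ => rfl
        right_inv := fun _ => rfl }
  rw [← hF, hcard, Nat.add_sub_cancel_left]
  exact hX
where
  mul_comm' {h : G} (a b : zpowers h) : a * b = b * a := by
    obtain ⟨m, hm⟩ := mem_zpowers_iff.mp a.2
    obtain ⟨k, hk⟩ := mem_zpowers_iff.mp b.2
    apply Subtype.ext
    push_cast
    rw [← hm, ← hk, ← zpow_add, ← zpow_add, add_comm]

variable {p : ℕ} [hp : Fact p.Prime] {S : Subgroup G}

/-- In the pushing-up situation a normal subgroup either supplements `S` or meets it in `O_p(G)`. -/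
theorem pu_dichotomy (hE : Cfsg.IsPushingUpSituation p S) (N : Subgroup G) [N.Normal] :
    N ⊔ S = ⊤ ∨ N ⊓ S ≤ Cfsg.pCore p G := by
  obtain ⟨-, ⟨P, hPS⟩, -, ⟨M, -, huniq⟩, -⟩ := hE
  subst hPS
  by_cases htop : N ⊔ (P : Subgroup G) = ⊤
  · exact Or.inl htop
  right
  obtain ⟨M1, hM1, hle1⟩ := (eq_top_or_exists_le_coatom (N ⊔ (P : Subgroup G))).resolve_left htop
  have hNM : N ≤ M := (huniq M1 ⟨hM1, le_sup_right.trans hle1⟩) ▸ le_sup_left.trans hle1
  have hMne : M ≠ ⊤ := (huniq M1 ⟨hM1, le_sup_right.trans hle1⟩) ▸ hM1.1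
  have hTn : (P : Subgroup G) ≤ normalizer ((N ⊓ (P : Subgroup G) : Subgroup G) : Set G) :=
    le_trans (le_inf le_normalizer_of_normal le_normalizer) inf_normalizer_le_normalizer_inf
  have htop' : normalizer ((N ⊓ (P : Subgroup G) : Subgroup G) : Set G) = ⊤ := by
    by_contra hne
    obtain ⟨M2, hM2, hle2⟩ := (eq_top_or_exists_le_coatom _).resolve_left hne
    have hM2M : M2 = M := huniq M2 ⟨hM2, hTn.trans hle2⟩
    obtain ⟨Q, hQ⟩ : ∃ Q : Sylow p ↥N, (Q : Subgroup ↥N) = (P : Subgroup G).subgroupOf N :=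
      H44.exists_sylow_eq_subgroupOf P N
    have h1 := Sylow.normalizer_sup_eq_top Q
    rw [hQ, subgroupOf_map_subtype, inf_comm] at h1
    exact hMne (top_le_iff.mp (h1 ▸ sup_le (hM2M ▸ hle2) hNM))
  exact le_pCore_of_normal (normalizer_eq_top_iff.mp htop') (P.isPGroup'.to_le inf_le_right)

/-- The bound: `S / O_p(G)` is elementary abelian of order `q`, and `q |C_W(A)| ≤ |W|` when `A ≤ S`, `A ≰ O_p(G)`. -/
theorem pushing_bound (hE : Cfsg.IsPushingUpSituation p S) :
    ∃ q : ℕ, 1 < q ∧ Nat.card S = q * Nat.card ↥(Cfsg.pCore p G) ∧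
      (∀ x ∈ S, ∀ y ∈ S, x * y * x⁻¹ * y⁻¹ ∈ Cfsg.pCore p G) ∧ (∀ x ∈ S, x ^ p ∈ Cfsg.pCore p G) ∧
      ∀ W : Subgroup G, W.Normal → W ≤ Cfsg.pCore p G → Cfsg.pCore p G ≤ centralizer (W : Set G) →
        centralizer (W : Set G) ⊔ S ≠ ⊤ → ∀ A : Subgroup G, A ≤ S → ¬ A ≤ Cfsg.pCore p G →
          q * Nat.card ↥(W ⊓ centralizer (A : Set G)) ≤ Nat.card W := by
  obtain ⟨P, hPS⟩ := hE.2.1
  obtain ⟨K, hKn, F, _, _, n, hFcard, ⟨e⟩⟩ := hE.2.2.2.2
  have hn0 : n ≠ 0 := by
    rintro rfl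
    rw [pow_zero] at hFcard
    exact absurd hFcard (Fintype.one_lt_card (α := F)).ne'
  haveI : CharP F p := charP_of_card_eq_prime_pow hFcard
  set π : G →* Matrix.ProjectiveSpecialLinearGroup (Fin 2) F :=
    e.toMonoidHom.comp (QuotientGroup.mk' K) with hπ
  have hπs : Function.Surjective π := e.surjective.comp (QuotientGroup.mk'_surjective K)
  have hπK : π.ker = K := by
    ext x
    rw [MonoidHom.mem_ker, hπ, MonoidHom.comp_apply]
    simp [map_eq_one_iff _ e.injective, QuotientGroup.eq_one_iff]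
  have hRK : Cfsg.pCore p G ≤ K := by
    rw [← hπK]
    intro x hx
    have h1 : (Cfsg.pCore p G).map π ≤ Cfsg.pCore p _ :=
      le_pCore_of_normal (pCore_normal.map π hπs) (pCore_isPGroup.map π)
    rw [PSLTwo.pCore_eq_bot p] at h1
    exact MonoidHom.mem_ker.mpr (mem_bot.mp (h1 ⟨x, hx, rfl⟩))
  have hSp : IsPGroup p S := hPS ▸ P.isPGroup'
  have hRS : Cfsg.pCore p G ≤ S := hPS ▸ pCore_le_sylow P
  have hKS : K ⊔ S ≠ ⊤ := by
    intro htop
    have h1 : S.map π = ⊤ := by
      have h2 := congrArg (Subgroup.map π) htop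
      rwa [Subgroup.map_sup, (map_eq_bot_iff K).mpr hπK.ge, bot_sup_eq, map_top_of_surjective π hπs] at h2
    refine PSLTwo.not_isPGroup (F := F) p fun x => ?_
    obtain ⟨k, hk⟩ := (hSp.map π) ⟨x, h1 ▸ mem_top x⟩
    exact ⟨k, by simpa using congrArg Subtype.val hk⟩
  haveI := hKn
  have hKR : K ⊓ S = Cfsg.pCore p G :=
    le_antisymm ((pu_dichotomy hE K).resolve_left hKS) (le_inf hRK hRS)
  let P' : Sylow p (Matrix.ProjectiveSpecialLinearGroup (Fin 2) F) := P.mapSurjective hπs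
  have hP' : (P' : Subgroup _) = S.map π := by rw [← hPS]; rfl
  have hcardP' : Nat.card ↥(S.map π) = p ^ n := by
    rw [← hP', Sylow.card_eq_multiplicity, ← Sylow.card_eq_multiplicity (PSLTwo.stdSylow (F := F) p),
      PSLTwo.card_stdSylow p, Nat.card_eq_fintype_card, hFcard]
  have hScard : Nat.card S = p ^ n * Nat.card ↥(Cfsg.pCore p G) := by
    have h1 := (MonoidHom.ker (π.comp S.subtype)).card_mul_index
    rw [index_ker, MonoidHom.range_comp, range_subtype, hcardP'] at h1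
    have h2 : Nat.card ↥(MonoidHom.ker (π.comp S.subtype)) = Nat.card ↥(Cfsg.pCore p G) := by
      rw [← MonoidHom.comap_ker, hπK, ← hKR, inf_comm]
      rw [Nat.card_congr ((K.comap S.subtype).equivMapOfInjective _ S.subtype_injective).toEquiv]
      rw [show (K.comap S.subtype).map S.subtype = S ⊓ K by rw [inf_comm]; exact subgroupOf_map_subtype K S]
    rw [← h1, h2, mul_comm]
  have helem := PSLTwo.pSubgroup_elementary p (hSp.map π)
  have hcomm : ∀ x ∈ S, ∀ y ∈ S, x * y * x⁻¹ * y⁻¹ ∈ Cfsg.pCore p G := by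
    intro x hx y hy
    rw [← hKR, ← hπK]
    refine mem_inf.mpr ⟨?_, mul_mem (mul_mem (mul_mem hx hy) (inv_mem hx)) (inv_mem hy)⟩
    rw [MonoidHom.mem_ker, map_mul, map_mul, map_mul, map_inv, map_inv,
      helem.1 _ ⟨x, hx, rfl⟩ _ ⟨y, hy, rfl⟩]
    group
  have hpow : ∀ x ∈ S, x ^ p ∈ Cfsg.pCore p G := by
    intro x hx
    rw [← hKR, ← hπK]
    exact mem_inf.mpr ⟨by rw [MonoidHom.mem_ker, map_pow]; exact helem.2 _ ⟨x, hx, rfl⟩, pow_mem hx _⟩
  refine ⟨p ^ n, Nat.one_lt_pow hn0 hp.out.one_lt, hScard, hcomm, hpow, ?_⟩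
  intro W hW hWR hRCW hCWS A hAS hAR
  haveI := hW
  obtain ⟨a, haA, haR⟩ := SetLike.not_le_iff_exists.mp hAR
  have haS : a ∈ S := hAS haA
  obtain ⟨w, hw⟩ := (pCore_isPGroup.to_le hWR : IsPGroup p W).exists_card_eq
  haveI hCn : (centralizer (W : Set G)).Normal := normal_centralizer
  have hCR : centralizer (W : Set G) ⊓ S ≤ Cfsg.pCore p G := (pu_dichotomy hE _).resolve_left hCWS
  have hle : W ⊓ centralizer (A : Set G) ≤ W ⊓ centralizer ({a} : Set G) :=
    inf_le_inf_left _ (centralizer_le (Set.singleton_subset_iff.mpr haA))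
  refine le_trans (Nat.mul_le_mul_left _ (Nat.le_of_dvd Nat.card_pos (card_dvd_of_le hle))) ?_
  have hUlt : W ⊓ centralizer ({a} : Set G) < W := by
    refine lt_of_le_of_ne inf_le_left fun heq => haR (hCR ⟨?_, haS⟩)
    refine mem_centralizer_iff.mpr fun u hu => ?_
    exact (mem_centralizer_singleton_iff.mp ((inf_eq_left.mp heq) hu))
  obtain ⟨i, hiw, hi⟩ := (Nat.dvd_prime_pow hp.out).mp (hw ▸ card_dvd_of_le hUlt.le)
  have hiltw : i < w := by
    have := card_lt_card_of_lt hUlt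
    rw [hi, hw] at this
    exact (Nat.pow_lt_pow_iff_right hp.out.one_lt).mp this
  by_cases hn : n ≤ 1
  · obtain rfl : n = 1 := le_antisymm hn (Nat.one_le_iff_ne_zero.mpr hn0)
    rw [hw, hi, ← pow_add]
    exact Nat.pow_le_pow_right hp.out.pos (by omega)
  push Not at hn
  have hFc : Nat.card F = p ^ n := by rw [Nat.card_eq_fintype_card, hFcard]
  haveI := PSLTwo.isSimpleGroup (F := F) p hn hFc
  have hπa : π a ≠ 1 := fun h => haR (hKR ▸ mem_inf.mpr ⟨hπK ▸ MonoidHom.mem_ker.mpr h, haS⟩)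
  have hap : IsPGroup p (zpowers (π a)) :=
    (hSp.map π).to_le (zpowers_le.mpr ⟨a, haS, rfl⟩)
  obtain ⟨g, r, e', hr, hrp, he, hord, hmod⟩ := PSLTwo.exists_conj_product p hn hFc hπa hap
  obtain ⟨g0, rfl⟩ := hπs g
  set b := g0 * a * g0⁻¹ with hb
  set h1 := a * b with hh1
  have hπh1 : orderOf (π h1) = r ^ e' := by rw [hh1, hb, map_mul, map_mul, map_mul, map_inv]; exact hord
  obtain ⟨j, m, hm, hordh1⟩ :=
    Nat.exists_eq_pow_mul_and_not_dvd (n := orderOf h1) (orderOf_pos h1).ne' r hr.ne_one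
  have hm0 : m ≠ 0 := fun h0 => hm (by rw [h0]; exact dvd_zero r)
  set h := h1 ^ m with hh
  have hhord : orderOf h = r ^ j := by
    rw [hh, orderOf_pow' _ hm0, hordh1, Nat.gcd_eq_right (dvd_mul_left _ _),
      Nat.mul_div_cancel _ (Nat.pos_of_ne_zero hm0)]
  have hπh : orderOf (π h) = r ^ e' := by
    rw [hh, map_pow, Nat.Coprime.orderOf_pow, hπh1]
    rw [hπh1]
    exact Nat.Coprime.pow_left _ ((hr.coprime_iff_not_dvd).mpr hm)
  set y := h ^ r ^ (e' - 1) with hy
  have hπy : π y ≠ 1 := by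
    intro hy1
    rw [hy, map_pow] at hy1
    have h2 := Nat.le_of_dvd (pow_pos hr.pos _) (orderOf_dvd_of_pow_eq_one hy1)
    rw [hπh] at h2
    have := (Nat.pow_le_pow_iff_right hr.one_lt).mp h2
    omega
  have hCK : π y ∉ (centralizer (W : Set G)).map π := by
    have hn' : ((centralizer (W : Set G)).map π).Normal := hCn.map π hπs
    rcases hn'.eq_bot_or_eq_top with hb' | ht'
    · rw [hb']; exact fun h' => hπy (mem_bot.mp h')
    · exfalso
      apply hKS
      have h2 : centralizer (W : Set G) ⊔ K = ⊤ := by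
        rw [← hπK, ← comap_map_eq, ht', comap_top]
      obtain ⟨-, ⟨_, _⟩, -, ⟨M, hM, huniq⟩, -⟩ := hE
      exfalso
      obtain ⟨M1, hM1, hle1⟩ := (eq_top_or_exists_le_coatom _).resolve_left hCWS
      obtain ⟨M2, hM2, hle2⟩ := (eq_top_or_exists_le_coatom _).resolve_left hKS
      have e1 := huniq M1 ⟨hM1, le_sup_right.trans hle1⟩
      have e2 := huniq M2 ⟨hM2, le_sup_right.trans hle2⟩
      exact hM.1.1 (top_le_iff.mp (h2 ▸ sup_le (e1 ▸ le_sup_left.trans hle1) (e2 ▸ le_sup_left.trans hle2)))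
  have hyC : y ∉ centralizer (W : Set G) := fun h' => hCK ⟨y, h', rfl⟩
  obtain ⟨u, huw, hu⟩ := (Nat.dvd_prime_pow hp.out).mp
    (hw ▸ card_dvd_of_le (inf_le_left : W ⊓ centralizer ({y} : Set G) ≤ W))
  have hult : u < w := by
    refine lt_of_le_of_ne huw fun heq => hyC ?_
    have h2 : W ⊓ centralizer ({y} : Set G) = W := eq_of_le_of_card_ge inf_le_left (by rw [hu, hw, heq])
    exact mem_centralizer_iff.mpr fun x hx => mem_centralizer_singleton_iff.mp (inf_eq_left.mp h2 hx)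
  have hdvd := pow_dvd_card_sub hr hhord he
    (le_normalizer_of_normal (K := (⊤ : Subgroup G)) trivial : h ∈ normalizer (W : Set G))
  rw [hu, hw, show p ^ w - p ^ u = p ^ u * (p ^ (w - u) - 1) by
    rw [Nat.mul_sub_one, ← pow_add, Nat.add_sub_cancel' huw]] at hdvd
  have h2n : 2 * n ≤ w - u := Nat.le_of_dvd (by omega)
    (hmod _ ((Nat.Coprime.pow e' u ((Nat.coprime_primes hr hp.out).mpr hrp)).dvd_of_dvd_mul_left hdvd))
  -- the two conjugate fixed subgroups
  set U1 := W ⊓ centralizer ({a} : Set G) with hU1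
  set U2 := W ⊓ centralizer ({b} : Set G) with hU2
  have hU2c : Nat.card U2 = Nat.card U1 := by
    have : U1.map (MulAut.conj g0).toMonoidHom = U2 := by
      ext x
      rw [mem_map_equiv, hU1, hU2, mem_inf, mem_inf, mem_centralizer_singleton_iff,
        mem_centralizer_singleton_iff]
      simp only [MulAut.conj_symm_apply]
      constructor
      · rintro ⟨hx, hc⟩
        refine ⟨by simpa [mul_assoc] using hW.conj_mem _ hx g0, ?_⟩
        calc x * b = g0 * ((g0⁻¹ * x * g0) * a) * g0⁻¹ := by rw [hb]; group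
          _ = g0 * (a * (g0⁻¹ * x * g0)) * g0⁻¹ := by rw [hc]
          _ = b * x := by rw [hb]; group
      · rintro ⟨hx, hc⟩
        refine ⟨by simpa using hW.conj_mem _ hx g0⁻¹, ?_⟩
        calc g0⁻¹ * x * g0 * a = g0⁻¹ * (x * b) * g0 := by rw [hb]; group
          _ = g0⁻¹ * (b * x) * g0 := by rw [hc]
          _ = a * (g0⁻¹ * x * g0) := by rw [hb]; group
    rw [← this]
    exact (Nat.card_congr (U1.equivMapOfInjective _ (MulAut.conj g0).injective).toEquiv).symm
  have hUle : U1 ⊓ U2 ≤ W ⊓ centralizer ({y} : Set G) := by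
    intro x hx
    obtain ⟨⟨hxW, hxa⟩, -, hxb⟩ := hx
    refine mem_inf.mpr ⟨hxW, mem_centralizer_singleton_iff.mpr ?_⟩
    have c1 : Commute x h1 := Commute.mul_right (mem_centralizer_singleton_iff.mp hxa)
      (mem_centralizer_singleton_iff.mp hxb)
    exact ((c1.pow_right m).pow_right _).eq
  have hsq : Nat.card U1 * Nat.card U1 ≤ p ^ u * p ^ w := by
    calc Nat.card U1 * Nat.card U1 = Nat.card U1 * Nat.card U2 := by rw [hU2c]
      _ ≤ Nat.card ↥(U1 ⊓ U2) * Nat.card ↥(U1 ⊔ U2) := H75.card_mul_card_le U1 U2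
      _ ≤ p ^ u * p ^ w := Nat.mul_le_mul (hu ▸ Nat.le_of_dvd Nat.card_pos (card_dvd_of_le hUle))
          (hw ▸ Nat.le_of_dvd Nat.card_pos (card_dvd_of_le (sup_le inf_le_left inf_le_left)))
  rw [hi, hw, ← pow_add]
  rw [hi, ← pow_add, ← pow_add] at hsq
  have := (Nat.pow_le_pow_iff_right hp.out.one_lt).mp hsq
  exact Nat.pow_le_pow_right hp.out.pos (by omega)

end Cfsg.Agent.H74
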