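import Mathlib
import Cfsg.Agent.H74.Isolated
import Cfsg.Agent.H22.PResidual
import Cfsg.Agent.H22.Frobenius
import Cfsg.Agent.H32.Basic
import Cfsg.Agent.H20.Sylow

/-!
Minimal counterexamples to the `Z*_p` property of isolated elements.
-/

set_option autoImplicit false

namespace Cfsg.Agent.H74

open Subgroup
open scoped Pointwise commutatorElement

variable {G : Type*} [Group G] [Finite G] {p : ℕ} [Fact p.Prime]

/-- A `p'`-subgroup of a normal subgroup, normalized by it, lies in the `p'`-core. -/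
theorem le_pPrimeCore_of_normalized {N Y : Subgroup G} [N.Normal] (hYN : Y ≤ N)
    (hn : N ≤ normalizer (Y : Set G)) (hY : (Nat.card Y).Coprime p) : Y ≤ Cfsg.pPrimeCore p G := by
  haveI : (Y.subgroupOf N).Normal := (normal_subgroupOf_iff_le_normalizer hYN).mpr hn
  have h1 : Y.subgroupOf N ≤ Cfsg.pPrimeCore p N :=
    H51.le_pPrimeCore inferInstance (by rwa [Nat.card_congr (subgroupOfEquivOfLe hYN).toEquiv])
  rw [← map_subgroupOf_eq_of_le hYN]
  exact (map_mono h1).trans (H51.pPrimeCore_map_subtype_le p)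

theorem coprime_of_not_dvd {n : ℕ} (h : ¬ p ∣ n) : n.Coprime p :=
  Nat.Coprime.symm ((Fact.out : p.Prime).coprime_iff_not_dvd.mpr h)

variable {x : G}

/-- Consequences of minimality: trivial `p'`-core and generation by the class of `x`. -/
theorem minimal_basic (hiso : Cfsg.IsIsolated x) (hnz : ¬ Cfsg.InZStar p x)
    (hmin : ∀ (H : Subgroup G) (hxH : x ∈ H), H ≠ ⊤ → Cfsg.InZStar p (⟨x, hxH⟩ : ↥H))
    (hquot : ∀ (N : Subgroup G) [N.Normal], N ≠ ⊥ → Cfsg.InZStar p (QuotientGroup.mk x : G ⧸ N)) :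
    Cfsg.pPrimeCore p G = ⊥ ∧ normalClosure ({x} : Set G) = ⊤ ∧ x ∉ center G := by
  have hcen : x ∉ center G := fun hc => hnz fun g => by
    rw [mem_center_iff.mp hc g]
    simp
  haveI hK : (Cfsg.pPrimeCore p G).Normal := H51.pPrimeCore_normal p G
  have hO : Cfsg.pPrimeCore p G = ⊥ := by
    by_contra hne
    refine hnz fun g => ?_
    set K := Cfsg.pPrimeCore p G
    have hbot : Cfsg.pPrimeCore p (G ⧸ K) = ⊥ := by
      set L := (Cfsg.pPrimeCore p (G ⧸ K)).comap (QuotientGroup.mk' K)
      haveI : (Cfsg.pPrimeCore p (G ⧸ K)).Normal := H51.pPrimeCore_normal p _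
      have hKL : K ≤ L := fun k hk => by
        show QuotientGroup.mk' K k ∈ Cfsg.pPrimeCore p (G ⧸ K)
        rw [show QuotientGroup.mk' K k = 1 from (QuotientGroup.eq_one_iff k).mpr hk]
        exact one_mem _
      have hmap : L.map (QuotientGroup.mk' K) = Cfsg.pPrimeCore p (G ⧸ K) :=
        map_comap_eq_self_of_surjective (QuotientGroup.mk'_surjective K) _
      have hL : (Nat.card L).Coprime p := by
        rw [← H32.card_mul_relIndex hKL]
        refine Nat.Coprime.mul_left (H51.pPrimeCore_coprime p G) ?_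
        rw [relIndex, ← QuotientGroup.ker_mk' K, ← MonoidHom.ker_domRestrict, index_ker,
          MonoidHom.domRestrict_range, hmap]
        exact H51.pPrimeCore_coprime p _
      have : L ≤ K := H51.le_pPrimeCore inferInstance hL
      rw [← hmap, Subgroup.map_eq_bot_iff, QuotientGroup.ker_mk']
      exact this
    have h1 := hquot K hne (QuotientGroup.mk g)
    rw [hbot, mem_bot] at h1
    exact (QuotientGroup.eq_one_iff _).mp h1
  refine ⟨hO, ?_, hcen⟩
  by_contra hne
  set H := normalClosure ({x} : Set G) with hH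
  have hxH : x ∈ H := subset_normalClosure rfl
  apply hcen
  refine mem_center_iff.mpr fun g => ?_
  have hg : g * x * g⁻¹ ∈ H := normalClosure_normal.conj_mem x hxH g
  have h1 := hmin H hxH hne ⟨g * x * g⁻¹, hg⟩
  have h2 : (g * x * g⁻¹) * x * (g * x * g⁻¹)⁻¹ * x⁻¹ ∈ Cfsg.pPrimeCore p G :=
    H51.pPrimeCore_map_subtype_le p ⟨_, h1, rfl⟩
  rw [hO, mem_bot, mul_inv_eq_one, mul_inv_eq_iff_eq_mul] at h2
  exact mul_inv_eq_iff_eq_mul.mp (hiso g h2.symm)

/-- A minimal counterexample is almost simple. -/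
theorem minimal_almost_simple (hx : orderOf x = p) (hiso : Cfsg.IsIsolated x) (hnz : ¬ Cfsg.InZStar p x)
    (hmin : ∀ (H : Subgroup G) (hxH : x ∈ H), H ≠ ⊤ → Cfsg.InZStar p (⟨x, hxH⟩ : ↥H))
    (hquot : ∀ (N : Subgroup G) [N.Normal], N ≠ ⊥ → Cfsg.InZStar p (QuotientGroup.mk x : G ⧸ N)) :
    IsSimpleGroup ↥(commutator G) ∧ ¬ IsMulCommutative ↥(commutator G) ∧ commutator G ⊔ zpowers x = ⊤ := by
  have hp := (Fact.out : p.Prime)
  obtain ⟨hO, htop, hcen⟩ := minimal_basic hiso hnz hmin hquot
  -- every nontrivial normal subgroup, with `x`, generates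
  have key : ∀ N : Subgroup G, N.Normal → N ≠ ⊥ → N ⊔ zpowers x = ⊤ := by
    intro N hN hN1
    haveI := hN
    by_contra hne
    have hxH : x ∈ N ⊔ zpowers x := mem_sup_right (mem_zpowers x)
    set H := N ⊔ zpowers x with hH
    haveI : (Cfsg.pPrimeCore p ↥H).Normal := H51.pPrimeCore_normal p _
    set Y := (Cfsg.pPrimeCore p ↥H).map H.subtype ⊓ N with hY
    have hY0 : Y = ⊥ := by
      refine le_bot_iff.mp (hO ▸ le_pPrimeCore_of_normalized inf_le_right ?_ ?_)
      · refine le_trans (le_inf ?_ le_normalizer) inf_normalizer_le_normalizer_inf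
        have hle : (Cfsg.pPrimeCore p ↥H).map H.subtype ≤ H := map_subtype_le _
        have : H ≤ normalizer ((Cfsg.pPrimeCore p ↥H).map H.subtype : Set G) := by
          refine (normal_subgroupOf_iff_le_normalizer hle).mp ?_
          rw [subgroupOf, comap_map_eq_self_of_injective H.subtype_injective]
          infer_instance
        exact le_sup_left.trans this
      · refine Nat.Coprime.coprime_dvd_left (card_dvd_of_le inf_le_left) ?_
        exact Nat.Coprime.coprime_dvd_left (card_map_dvd _ _) (H51.pPrimeCore_coprime p _)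
    have hNx : ∀ n ∈ N, Commute n x := by
      intro n hn
      have h1 := hmin H hxH hne ⟨n, mem_sup_left hn⟩
      have h2 : n * x * n⁻¹ * x⁻¹ ∈ Y := Subgroup.mem_inf.mpr ⟨⟨_, h1, rfl⟩, by
        rw [show n * x * n⁻¹ * x⁻¹ = n * (x * n⁻¹ * x⁻¹) by group]
        exact mul_mem hn (hN.conj_mem _ (inv_mem hn) x)⟩
      rw [hY0, mem_bot, mul_inv_eq_one, mul_inv_eq_iff_eq_mul] at h2
      exact h2
    have hNZ : N ≤ center G := by
      intro n hn
      refine mem_center_iff.mpr fun g => ?_
      have hle : normalClosure ({x} : Set G) ≤ centralizer ({n} : Set G) := by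
        rw [normalClosure, closure_le]
        intro y hy
        obtain ⟨a, rfl, ha⟩ := Group.mem_conjugatesOfSet_iff.mp hy
        obtain ⟨c, rfl⟩ := isConj_iff.mp ha
        refine mem_centralizer_singleton_iff.mpr ?_
        have := (hNx _ (hN.conj_mem n hn c⁻¹)).map (MulAut.conj c).toMonoidHom
        simpa [mul_assoc] using this.eq.symm
      exact mem_centralizer_singleton_iff.mp (hle (htop ▸ mem_top g))
    have hNp : IsPGroup p N := by
      intro n
      obtain ⟨a, m, hm, hnm⟩ := Nat.exists_eq_pow_mul_and_not_dvd (orderOf_pos (n : G)).ne' p hp.ne_one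
      refine ⟨a, Subtype.ext ?_⟩
      simp only [SubmonoidClass.coe_pow, OneMemClass.coe_one]
      have hz : zpowers ((n : G) ^ p ^ a) = ⊥ := by
        have hcz : ((n : G) ^ p ^ a) ∈ center G := pow_mem (hNZ n.2) _
        refine le_bot_iff.mp (hO ▸ H51.le_pPrimeCore ?_ ?_)
        · exact ⟨fun y hy g => by
            rw [mem_center_iff.mp ((zpowers_le.mpr hcz) hy) g, mul_inv_cancel_right]
            exact hy⟩
        · rw [Nat.card_zpowers, orderOf_pow_of_dvd (pow_ne_zero _ hp.ne_zero) (hnm ▸ dvd_mul_right _ _),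
            hnm, Nat.mul_div_cancel_left _ (pow_pos hp.pos a)]
          exact coprime_of_not_dvd hm
      simpa [zpowers_eq_bot] using hz
    set π := QuotientGroup.mk' N with hπ
    haveI : (Cfsg.pPrimeCore p (G ⧸ N)).Normal := H51.pPrimeCore_normal p _
    set K := (Cfsg.pPrimeCore p (G ⧸ N)).comap π with hKdef
    have hNK : N ≤ K := fun k hk => by
      show π k ∈ Cfsg.pPrimeCore p (G ⧸ N)
      rw [show π k = 1 from (QuotientGroup.eq_one_iff k).mpr hk]
      exact one_mem _
    have hidx : (N.subgroupOf K).index.Coprime p := by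
      show (N.relIndex K).Coprime p
      rw [relIndex, ← QuotientGroup.ker_mk' N, ← MonoidHom.ker_domRestrict, index_ker,
        MonoidHom.domRestrict_range, map_comap_eq_self_of_surjective (QuotientGroup.mk'_surjective N)]
      exact H51.pPrimeCore_coprime p _
    obtain ⟨j, hj⟩ := hNp.exists_card_eq
    obtain ⟨L, hL⟩ := exists_right_complement'_of_coprime (N := N.subgroupOf K) (by
      rw [Nat.card_congr (subgroupOfEquivOfLe hNK).toEquiv, hj]
      exact (hidx.pow_right j).symm)
    have hLc : (Nat.card L).Coprime p := by rw [← hL.symm.index_eq_card]; exact hidx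
    set L' := L.map K.subtype with hL'
    have hL'n : L'.Normal := by
      refine ⟨fun l hl g => ?_⟩
      obtain ⟨l₀, hl₀, rfl⟩ := hl
      have hgK : g * (l₀ : G) * g⁻¹ ∈ K :=
        (inferInstance : K.Normal).conj_mem _ l₀.2 g
      have hk := hL.mul_eq.ge (Set.mem_univ (⟨g * (l₀ : G) * g⁻¹, hgK⟩ : K))
      obtain ⟨u, hu, v, hv, huv⟩ := hk
      have huv' : (u : G) * (v : G) = g * (l₀ : G) * g⁻¹ := congrArg Subtype.val huv
      have hu1 : (u : G) = 1 := by
        have hcomm : Commute (u : G) (v : G) := (mem_center_iff.mp (hNZ hu) _).symm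
        have hl0p : (l₀ : G) ^ Nat.card L = 1 := by
          have : (⟨l₀, hl₀⟩ : L) ^ Nat.card L = 1 := pow_card_eq_one'
          exact congrArg (fun z : L => ((z : K) : G)) this
        have hvp : (v : G) ^ Nat.card L = 1 := by
          have : (⟨v, hv⟩ : L) ^ Nat.card L = 1 := pow_card_eq_one'
          exact congrArg (fun z : L => ((z : K) : G)) this
        have h1 : (u : G) ^ Nat.card L = 1 := by
          have := congrArg (· ^ Nat.card L) huv'
          simp only [hcomm.mul_pow, hvp, mul_one, conj_pow, hl0p, mul_inv_cancel] at this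
          exact this
        obtain ⟨k, hk⟩ := hNp ⟨u, hu⟩
        have h2 : (u : G) ^ p ^ k = 1 := by simpa using congrArg Subtype.val hk
        exact orderOf_eq_one_iff.mp (Nat.eq_one_of_dvd_coprimes (hLc.pow_right k)
          (orderOf_dvd_of_pow_eq_one h1) (orderOf_dvd_of_pow_eq_one h2))
      refine ⟨v, hv, ?_⟩
      rw [hu1, one_mul] at huv'
      exact huv'
    have hL0 : L' = ⊥ := le_bot_iff.mp (hO ▸ H51.le_pPrimeCore hL'n
      (hLc.coprime_dvd_left (card_map_dvd _ _)))
    have hKN : K ≤ N := by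
      intro k hk
      obtain ⟨u, hu, v, hv, huv⟩ := hL.mul_eq.ge (Set.mem_univ (⟨k, hk⟩ : K))
      have hv1 : (v : G) = 1 := mem_bot.mp (hL0 ▸ ⟨v, hv, rfl⟩)
      have : (u : G) * v = k := congrArg Subtype.val huv
      rw [← this, hv1, mul_one]
      exact hu
    apply hcen
    refine mem_center_iff.mpr fun g => mul_inv_eq_iff_eq_mul.mp (hiso g ?_)
    have h1 : g * x * g⁻¹ * x⁻¹ ∈ N := hKN (by
      show π (g * x * g⁻¹ * x⁻¹) ∈ Cfsg.pPrimeCore p (G ⧸ N)
      exact hquot N hN1 (QuotientGroup.mk g))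
    have h2 : g * x * g⁻¹ = (g * x * g⁻¹ * x⁻¹) * x := by group
    rw [h2]
    exact ((hNx _ h1).symm).mul_right (Commute.refl x)
  have hG' : ∀ N : Subgroup G, N.Normal → N ≠ ⊥ → commutator G ≤ N := by
    intro N hN hN1
    haveI := hN
    have hsurj : ∀ q : G ⧸ N, ∃ i : ℤ, (QuotientGroup.mk' N x) ^ i = q := by
      intro q
      obtain ⟨g, rfl⟩ := QuotientGroup.mk'_surjective N q
      have hg : g ∈ N ⊔ zpowers x := key N hN hN1 ▸ mem_top g
      rw [← SetLike.mem_coe, normal_mul] at hg
      obtain ⟨n, hn, _, ⟨i, rfl⟩, rfl⟩ := hg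
      refine ⟨i, ?_⟩
      simp only [map_mul, map_zpow]
      rw [show QuotientGroup.mk' N n = 1 from (QuotientGroup.eq_one_iff n).mpr hn, one_mul]
    rw [_root_.commutator_def, commutator_le]
    intro a _ b _
    refine (QuotientGroup.eq_one_iff _).mp ?_
    show QuotientGroup.mk' N ⁅a, b⁆ = 1
    obtain ⟨i, hi⟩ := hsurj (QuotientGroup.mk' N a)
    obtain ⟨j, hj⟩ := hsurj (QuotientGroup.mk' N b)
    rw [map_commutatorElement, ← hi, ← hj, commutatorElement_eq_one_iff_commute]
    exact Commute.zpow_zpow_self _ i j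
  have hne : commutator G ≠ ⊥ := by
    intro h
    apply hcen
    refine mem_center_iff.mpr fun g => ?_
    have := commutator_mem_commutator (mem_top g) (mem_top x)
    rw [← _root_.commutator_def, h, mem_bot, commutatorElement_eq_one_iff_commute] at this
    exact this
  have hsup := key _ inferInstance hne
  have hxp : IsPGroup p (zpowers x) := IsPGroup.of_card (n := 1) (by rw [Nat.card_zpowers, hx, pow_one])
  have hnab : ¬ IsMulCommutative ↥(commutator G) := by
    intro hab
    have hcomm : ∀ a ∈ commutator G, ∀ b ∈ commutator G, Commute a b := fun a ha b hb =>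
      congrArg Subtype.val (hab.is_comm.comm (⟨a, ha⟩ : commutator G) ⟨b, hb⟩)
    -- the `p'`-elements of the abelian normal subgroup form a normal `p'`-subgroup
    let T : Subgroup G :=
      { carrier := {a | a ∈ commutator G ∧ (orderOf a).Coprime p}
        one_mem' := ⟨one_mem _, by simp⟩
        mul_mem' := fun {a b} ha hb => ⟨mul_mem ha.1 hb.1,
          (Nat.Coprime.mul_left ha.2 hb.2).coprime_dvd_left (hcomm a ha.1 b hb.1).orderOf_mul_dvd_mul_orderOf⟩
        inv_mem' := fun {a} ha => ⟨inv_mem ha.1, by simpa using ha.2⟩ }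
    have hT : T = ⊥ := by
      refine le_bot_iff.mp (hO ▸ H51.le_pPrimeCore ⟨fun a ha g => ⟨?_, ?_⟩⟩ ?_)
      · exact (inferInstance : (commutator G).Normal).conj_mem a ha.1 g
      · exact (MulEquiv.orderOf_eq (MulAut.conj g) a).symm ▸ ha.2
      · refine coprime_of_not_dvd fun hd => ?_
        obtain ⟨a, ha⟩ := exists_prime_orderOf_dvd_card' p hd
        have h := a.2.2
        rw [Subgroup.orderOf_coe, ha] at h
        exact hp.one_lt.ne' ((Nat.coprime_self p).mp h)
    have hG'p : IsPGroup p (commutator G) := by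
      intro a
      obtain ⟨k, m, hm, hnm⟩ := Nat.exists_eq_pow_mul_and_not_dvd (orderOf_pos (a : G)).ne' p hp.ne_one
      refine ⟨k, Subtype.ext ?_⟩
      have h1 : (a : G) ^ p ^ k ∈ T := ⟨pow_mem a.2 _, by
        rw [orderOf_pow_of_dvd (pow_ne_zero _ hp.ne_zero) (hnm ▸ dvd_mul_right _ _), hnm,
          Nat.mul_div_cancel_left _ (pow_pos hp.pos k)]
        exact coprime_of_not_dvd hm⟩
      rw [hT, mem_bot] at h1
      simpa using h1
    have hGp : IsPGroup p (⊤ : Subgroup G) := hsup ▸ hG'p.to_sup_of_normal_left hxp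
    exact hcen (mem_center_iff.mpr fun g =>
      (mem_centralizer_singleton_iff.mp (isolated_le_centralizer hiso hGp (mem_top x) (mem_top g))))
  refine ⟨?_, hnab, hsup⟩
  obtain ⟨S, hS⟩ := hxp.exists_le_sylow
  have hSC : (S : Subgroup G) ≤ centralizer ({x} : Set G) :=
    isolated_le_centralizer hiso S.isPGroup' (hS (mem_zpowers x))
  haveI : Nontrivial ↥(commutator G) := nontrivial_iff_ne_bot _ |>.mpr hne
  refine ⟨fun W hW => ?_⟩
  by_contra hcon
  push Not at hcon
  -- a minimal normal subgroup of `G'`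
  obtain ⟨M, hMW, hMmin⟩ := Finite.exists_le_minimal (α := Subgroup ↥(commutator G))
    (p := fun X => X.Normal ∧ X ≠ ⊥) ⟨hW, hcon.1⟩
  obtain ⟨hMn, hM1⟩ := hMmin.prop
  haveI := hMn
  set M' := M.map (commutator G).subtype with hM'
  have hM'le : M' ≤ commutator G := map_subtype_le _
  have hM'n : commutator G ≤ normalizer (M' : Set G) := by
    refine (normal_subgroupOf_iff_le_normalizer hM'le).mp ?_
    rw [subgroupOf, comap_map_eq_self_of_injective (commutator G).subtype_injective]
    exact hMn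
  have hM'ne : M' ≠ ⊥ := fun h =>
    hM1 ((map_eq_bot_iff_of_injective M (commutator G).subtype_injective).mp h)
  set MX := M'.map (MulAut.conj x).toMonoidHom with hMX
  by_cases hinv : MX = M'
  · have hnorm : M'.Normal := by
      rw [← normalizer_eq_top_iff, ← top_le_iff, ← hsup]
      refine sup_le hM'n (zpowers_le.mpr (mem_normalizer_of_conj_mem fun d hd => ?_))
      exact hinv ▸ ⟨d, hd, rfl⟩
    have heq : M' = commutator G := le_antisymm hM'le (hG' M' hnorm hM'ne)
    have hMtop : M = ⊤ := by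
      have h1 : (commutator G) ≤ M.map (commutator G).subtype := heq.ge
      refine top_le_iff.mp fun a _ => ?_
      obtain ⟨b, hb, hba⟩ := h1 a.2
      exact Subtype.ext hba ▸ hb
    exact hcon.2 (top_le_iff.mp (hMtop ▸ hMW))
  · have hint : M' ⊓ MX = ⊥ := by
      set I := (M' ⊓ MX).subgroupOf (commutator G) with hI
      have hIM : I ≤ M := fun a ha => by
        obtain ⟨b, hb, hba⟩ := (mem_inf.mp (mem_subgroupOf.mp ha)).1
        exact Subtype.ext hba ▸ hb
      have hMXle : MX ≤ commutator G := by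
        rintro _ ⟨d, hd, rfl⟩
        exact (inferInstance : (commutator G).Normal).conj_mem d (hM'le hd) x
      have hIn : I.Normal := by
        refine (normal_subgroupOf_iff_le_normalizer (inf_le_left.trans hM'le)).mpr
          (le_trans (le_inf hM'n ?_) inf_normalizer_le_normalizer_inf)
        intro a ha
        refine mem_normalizer_of_conj_mem ?_
        rintro _ ⟨d, hd, rfl⟩
        have h1 : x⁻¹ * a * x ∈ normalizer (M' : Set G) := hM'n (by
          simpa using (inferInstance : (commutator G).Normal).conj_mem a ha x⁻¹)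
        refine ⟨(x⁻¹ * a * x) * d * (x⁻¹ * a * x)⁻¹, (mem_normalizer_iff.mp h1 d).mp hd, ?_⟩
        simp [mul_assoc]
      by_contra hint
      have hI1 : I ≠ ⊥ := fun h => hint (by
        rw [← map_subgroupOf_eq_of_le (inf_le_left.trans hM'le : M' ⊓ MX ≤ commutator G), ← hI, h,
          Subgroup.map_bot])
      have hMI : M ≤ I := hMmin.le_of_le ⟨hIn, hI1⟩ hIM
      apply hinv
      refine (eq_of_le_of_card_ge (fun d hd => ?_) ?_).symm
      · obtain ⟨b, hb, rfl⟩ := hd
        exact (mem_inf.mp (mem_subgroupOf.mp (hMI hb))).2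
      · exact (Nat.card_congr (M'.equivMapOfInjective (MulAut.conj x).toMonoidHom (MulAut.conj x).injective).toEquiv).ge
    have hSM : (S : Subgroup G) ⊓ M' = ⊥ := by
      refine le_bot_iff.mp (hint ▸ le_inf inf_le_right fun d hd => ⟨d, hd.2, ?_⟩)
      have h1 := mem_centralizer_singleton_iff.mp (hSC hd.1)
      simp only [MulEquiv.coe_toMonoidHom, MulAut.conj_apply]
      rw [← h1, mul_inv_cancel_right]
    have hMp : (Nat.card M').Coprime p := by
      refine coprime_of_not_dvd fun hd => ?_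
      have h1 : ¬ p ∣ (S : Subgroup G).relIndex (commutator G) := H22.sylow_not_dvd_relIndex_normal S _
      let S' : Sylow p ↥(commutator G) := (S.isPGroup'.comap_subtype (K := commutator G)).toSylow h1
      have h2 := H22.sylow_not_dvd_relIndex_normal S' M
      have h3 : (S' : Subgroup ↥(commutator G)) ⊓ M = ⊥ := by
        refine (eq_bot_iff_forall _).mpr fun a ha => Subtype.ext (mem_bot.mp (hSM ▸ ⟨?_, ⟨a, ha.2, rfl⟩⟩))
        exact mem_subgroupOf.mp ha.1
      rw [← inf_relIndex_right, h3, relIndex_bot_left] at h2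
      rw [hM', Nat.card_congr (M.equivMapOfInjective _ (commutator G).subtype_injective).toEquiv.symm] at hd
      exact h2 hd
    exact hM'ne (le_bot_iff.mp (hO ▸ le_pPrimeCore_of_normalized hM'le hM'n hMp))

/-- Invariant Sylow subgroups in a minimal counterexample. -/
theorem minimal_invariant_sylow (hx : orderOf x = p) (hiso : Cfsg.IsIsolated x) (hnz : ¬ Cfsg.InZStar p x)
    (hmin : ∀ (H : Subgroup G) (hxH : x ∈ H), H ≠ ⊤ → Cfsg.InZStar p (⟨x, hxH⟩ : ↥H))
    (hquot : ∀ (N : Subgroup G) [N.Normal], N ≠ ⊥ → Cfsg.InZStar p (QuotientGroup.mk x : G ⧸ N))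
    {q : ℕ} [Fact q.Prime] :
    (∀ Q : Subgroup G, IsPGroup q ↥Q → x ∈ normalizer (Q : Set G) →
      (∀ R : Subgroup G, IsPGroup q ↥R → x ∈ normalizer (R : Set G) → Q ≤ R → R = Q) →
        Q = ⊥ ∨ ∃ S : Sylow q G, (S : Subgroup G) = Q) ∧
    (∀ S₁ S₂ : Sylow q G, x ∈ normalizer ((S₁ : Subgroup G) : Set G) → x ∈ normalizer ((S₂ : Subgroup G) : Set G) →
      ∃ c ∈ centralizer ({x} : Set G), (S₁ : Subgroup G).map (MulAut.conj c).toMonoidHom = (S₂ : Subgroup G)) := by
  have hp := (Fact.out : p.Prime)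
  have hxp : IsPGroup p (zpowers x) := IsPGroup.of_card (n := 1) (by rw [Nat.card_zpowers, hx, pow_one])
  constructor
  · intro Q hQ hxQ hmax
    by_cases hQ0 : Q = ⊥
    · exact Or.inl hQ0
    right
    obtain ⟨S, hS⟩ : ∃ S : Sylow q G, Q ≤ (S : Subgroup G) := hQ.exists_le_sylow
    by_cases hqp : q = p
    · subst hqp
      have hxn : zpowers x ≤ normalizer (Q : Set G) := zpowers_le.mpr hxQ
      have hsup : IsPGroup q (Q ⊔ zpowers x : Subgroup G) := hQ.to_sup_of_normal_left' hxp hxn
      have hQx : Q ⊔ zpowers x = Q := hmax _ hsup (le_normalizer (mem_sup_right (mem_zpowers x))) le_sup_left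
      have hxmem : x ∈ (S : Subgroup G) := hS (hQx ▸ mem_sup_right (mem_zpowers x))
      exact ⟨S, hmax S S.isPGroup' (le_normalizer hxmem) hS⟩
    obtain ⟨hO, -, -⟩ := minimal_basic hiso hnz hmin hquot
    set N := normalizer (Q : Set G) with hN
    have hqco : ∀ R : Subgroup G, IsPGroup q R → (Nat.card R).Coprime p := fun R hR => by
      obtain ⟨k, hk⟩ := hR.exists_card_eq
      rw [hk]
      exact Nat.Coprime.pow_left k ((Nat.coprime_primes Fact.out hp).mpr hqp)
    have hNne : N ≠ ⊤ := fun h => hQ0 (le_bot_iff.mp (hO ▸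
      H51.le_pPrimeCore (normalizer_eq_top_iff.mp h) (hqco Q hQ)))
    haveI : (Cfsg.pPrimeCore p ↥N).Normal := H51.pPrimeCore_normal p _
    set K := (Cfsg.pPrimeCore p ↥N).map N.subtype with hK
    have hKN : K ≤ N := map_subtype_le _
    have hNK : N ≤ normalizer (K : Set G) := by
      refine (normal_subgroupOf_iff_le_normalizer hKN).mp ?_
      rw [subgroupOf, comap_map_eq_self_of_injective N.subtype_injective]
      infer_instance
    have hKx : ∀ n ∈ N, n * x * n⁻¹ * x⁻¹ ∈ K := fun n hn => ⟨_, hmin N hxQ hNne ⟨n, hn⟩, rfl⟩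
    obtain ⟨R, hR⟩ : ∃ R : Sylow q ↥N, Q.subgroupOf N ≤ (R : Subgroup ↥N) := (hQ.comap_subtype).exists_le_sylow
    set R' := (R : Subgroup ↥N).map N.subtype with hR'
    have hR'N : R' ≤ N := map_subtype_le _
    have hKR : R' ≤ normalizer (K : Set G) := hR'N.trans hNK
    have hxKR : zpowers x ≤ normalizer ((K ⊔ R' : Subgroup G) : Set G) := by
      refine zpowers_le.mpr (mem_normalizer_of_conj_mem fun d hd => ?_)
      have hdN : d ∈ N := sup_le hKN hR'N hd
      rw [show x * d * x⁻¹ = (d * x * d⁻¹ * x⁻¹)⁻¹ * d by group]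
      exact mul_mem (mem_sup_left (inv_mem (hKx d hdN))) hd
    have hcopKR : (Nat.card (zpowers x)).Coprime (Nat.card ↥(K ⊔ R')) := by
      rw [Nat.card_zpowers, hx]
      refine Nat.Coprime.symm ?_
      have h2 : Nat.card ↥(K ⊔ R') ∣ Nat.card K * Nat.card R' := by
        haveI : (K.subgroupOf (K ⊔ R')).Normal :=
          (normal_subgroupOf_iff_le_normalizer le_sup_left).mpr (sup_le le_normalizer hKR)
        have h3 := H51.card_sup_dvd_mul_of_normal (R'.subgroupOf (K ⊔ R')) (K.subgroupOf (K ⊔ R'))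
        rw [← subgroupOf_sup le_sup_right le_sup_left, sup_comm R' K, subgroupOf_self, card_top,
          Nat.card_congr (subgroupOfEquivOfLe le_sup_right).toEquiv,
          Nat.card_congr (subgroupOfEquivOfLe le_sup_left).toEquiv, mul_comm] at h3
        exact h3
      refine Nat.Coprime.coprime_dvd_left h2 (Nat.Coprime.mul_left ?_ (hqco R' (R.isPGroup'.map _)))
      exact Nat.Coprime.coprime_dvd_left (card_map_dvd _ _) (H51.pPrimeCore_coprime p _)
    obtain ⟨P, hPle, hPx, hPq, hPc⟩ := H20.exists_invariant_sylow_subgroup hxKR hcopKR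
      (Or.inl (H20.isSolvable_of_isMulCommutative _)) q
    have hPN : P ≤ N := hPle.trans (sup_le hKN hR'N)
    have hRP : Nat.card R' ≤ Nat.card P := by
      obtain ⟨k, hk⟩ := (R.isPGroup'.map N.subtype).exists_card_eq
      rw [hk, hPc]
      refine Nat.pow_le_pow_right (Fact.out : q.Prime).pos ?_
      refine ((Fact.out : q.Prime).pow_dvd_iff_le_factorization Nat.card_pos.ne').mp ?_
      rw [← hk]
      exact card_dvd_of_le le_sup_right
    have hQP : Q ≤ P := by
      obtain ⟨h, hh, hh'⟩ := exists_conj_le_of_relIndex hR'N (R.isPGroup'.map _) (by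
        rw [relIndex, subgroupOf, comap_map_eq_self_of_injective N.subtype_injective]
        exact R.not_dvd_index) hPN hPq
      have hPR : P.map (MulAut.conj h).toMonoidHom = R' := eq_of_le_of_card_ge
        (by rintro _ ⟨y, hy, rfl⟩; exact hh' y hy)
        (hRP.trans (Nat.card_congr (P.equivMapOfInjective (MulAut.conj h).toMonoidHom (MulAut.conj h).injective).toEquiv).le)
      intro z hz
      have hz' : h * z * h⁻¹ ∈ R' :=
        ⟨⟨_, mul_mem (mul_mem hh (le_normalizer hz)) (inv_mem hh)⟩,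
          hR (mem_subgroupOf.mpr ((mem_normalizer_iff.mp hh z).mp hz)), rfl⟩
      rw [← hPR] at hz'
      obtain ⟨w, hw, hwz⟩ := hz'
      simp only [MulEquiv.coe_toMonoidHom, MulAut.conj_apply, mul_left_inj, mul_right_inj] at hwz
      exact hwz ▸ hw
    have hPQ : P = Q := hmax P hPq (zpowers_le.mp hPx) hQP
    refine ⟨S, (le_antisymm hS ?_).symm⟩
    by_contra hSQ
    have hlt := H22.lt_inf_normalizer_of_lt S.isPGroup' (lt_of_le_of_ne hS fun h => hSQ h.ge)
    have h1 : Nat.card ↥((S : Subgroup G) ⊓ N) ≤ Nat.card R' := by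
      obtain ⟨h, -, hh'⟩ := exists_conj_le_of_relIndex hR'N (R.isPGroup'.map _) (by
        rw [relIndex, subgroupOf, comap_map_eq_self_of_injective N.subtype_injective]
        exact R.not_dvd_index) (inf_le_right : (S : Subgroup G) ⊓ N ≤ N) (S.isPGroup'.to_le inf_le_left)
      refine (Nat.card_congr (((S : Subgroup G) ⊓ N).equivMapOfInjective (MulAut.conj h).toMonoidHom
        (MulAut.conj h).injective).toEquiv).le.trans (Nat.le_of_dvd Nat.card_pos (card_dvd_of_le ?_))
      rintro _ ⟨y, hy, rfl⟩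
      exact hh' y hy
    have h2 : Nat.card ↥((S : Subgroup G) ⊓ N) ≤ Nat.card Q := h1.trans (hPQ ▸ hRP)
    exact hlt.ne (eq_of_le_of_card_ge hlt.le h2)
  · intro S₁ S₂ h₁ h₂
    obtain ⟨g, hg⟩ := MulAction.exists_smul_eq G S₁ S₂
    set N := normalizer ((S₁ : Subgroup G) : Set G) with hN
    have hmap : (S₁ : Subgroup G).map (MulAut.conj g).toMonoidHom = (S₂ : Subgroup G) :=
      congrArg (fun W : Sylow q G => (W : Subgroup G)) hg
    have hconj : g⁻¹ * x * g⁻¹⁻¹ ∈ N := by
      have hxg : x ∈ N.map (MulAut.conj g).toMonoidHom := by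
        rw [hN, map_equiv_normalizer_eq, hmap]
        exact h₂
      obtain ⟨n, hn, hnx⟩ := hxg
      simp only [MulEquiv.coe_toMonoidHom, MulAut.conj_apply] at hnx
      rw [← hnx]
      simpa [mul_assoc] using hn
    obtain ⟨h, hh, hh'⟩ := isolated_conj_in ⟨1, by rw [hx, pow_one]⟩ hiso h₁ hconj
    refine ⟨g * h⁻¹, ?_, ?_⟩
    · rw [show g * h⁻¹ = (h * g⁻¹)⁻¹ by group]
      exact inv_mem (mem_centralizer_singleton_iff.mpr (mul_inv_eq_iff_eq_mul.mp hh'))
    · rw [← hmap]
      refine eq_of_le_of_card_ge ?_ ?_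
      · rintro _ ⟨s, hs, rfl⟩
        refine ⟨h⁻¹ * s * h⁻¹⁻¹, (mem_normalizer_iff.mp (inv_mem hh) s).mp hs, ?_⟩
        simp [mul_assoc]
      · rw [← Nat.card_congr ((S₁ : Subgroup G).equivMapOfInjective (MulAut.conj g).toMonoidHom (MulAut.conj g).injective).toEquiv,
          ← Nat.card_congr ((S₁ : Subgroup G).equivMapOfInjective (MulAut.conj (g * h⁻¹)).toMonoidHom (MulAut.conj (g * h⁻¹)).injective).toEquiv]

end Cfsg.Agent.H74
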